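import Cfsg.Agent.OddHalf.NI3.Sol.Defs

/-!
# Solomon's configuration: the input of the combinatorial end

`X 0`, `X 1`, `X 2` : the charts of `K₃`, `K₁`, `K₂` (cyclically: `JJ (X i) (0,0,1) = J i`,
`JJ (X i) (1,-1,0) = J (i+1)`, `JJ (X i) (1,1,0) = J (i+2)`), `Y` : the chart of `K_w`, `w = z 0 (1,0,1)`.
`b` (resp. `c`) : the long root of chart `1` (resp. `2`) with involution `w`.
-/

set_option autoImplicit false

namespace Cfsg.Agent.OddHalf.NI3.Sol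

variable {G : Type*} [Group G]

/-- the commutator relations of a chart -/
structure Rel (X : V → Subgroup G) : Prop where
  comm : ∀ u v, IsR u → IsR v → ¬ IsR (u + v) → u + v ≠ 0 → cm (X u) (X v)
  ncomm : ∀ u v, IsR u → IsR v → IsR (u + v) → ¬ cm (X u) (X v)
  gen : ∀ u v, IsR u → IsR v → IsR (u + v) → X (u + v) ≤ X u ⊔ X v

/-- the short root orthogonal to the long root `v` -/
def sh (v : V) : V := (1 - v.1 * v.1, 1 - v.2.1 * v.2.1, 1 - v.2.2 * v.2.2)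

/-- the long root orthogonal to the long root `v` (up to sign) -/
def ol (v : V) : V := if v.2.2 = 0 then (v.1, -v.2.1, 0) else (v.1, v.2.1, -v.2.2)

/-- `{A u, A (-u)} = {B v, B (-v)}` -/
def Pr (A B : V → Subgroup G) (u v : V) : Prop :=
  (A u = B v ∧ A (-u) = B (-v)) ∨ (A u = B (-v) ∧ A (-u) = B v)

/-- the possible `b`, `c` -/
def IsB (b : V) : Prop := b = (1, 0, 1) ∨ b = (1, 0, -1) ∨ b = (0, 1, 1) ∨ b = (0, 1, -1)

structure EndData (X : Fin 3 → V → Subgroup G) (Y : V → Subgroup G) (b c : V) : Prop where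
  rel : ∀ i, Rel (X i)
  relY : Rel Y
  sh1 : ∀ i, X i (1, -1, 0) = X (i + 1) (0, 0, 1) ∧ X i (-1, 1, 0) = X (i + 1) (0, 0, -1)
  sh2 : ∀ i, X i (1, 1, 0) = X (i + 2) (0, 0, 1) ∧ X i (-1, -1, 0) = X (i + 2) (0, 0, -1)
  /-- the element `n i` of `J i` acts on all three charts -/
  n : ∀ i, ∃ g : G, (∀ u, IsR u → cj g (X i u) = X i (refl (0, 0, 1) u)) ∧
    (∀ u, IsR u → cj g (X (i + 1) u) = X (i + 1) (refl (1, 1, 0) u)) ∧
    (∀ u, IsR u → cj g (X (i + 2) u) = X (i + 2) (refl (1, -1, 0) u))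
  hb : IsB b
  hc : IsB c
  y1 : Y (0, 0, 1) = X 0 (1, 0, 1) ∧ Y (0, 0, -1) = X 0 (-1, 0, -1)
  y2 : Y (1, -1, 0) = X 0 (1, 0, -1) ∧ Y (-1, 1, 0) = X 0 (-1, 0, 1)
  y3 : Y (1, 1, 0) = X 0 (0, -1, 0) ∧ Y (-1, -1, 0) = X 0 (0, 1, 0)
  b1 : Pr Y (X 1) (sh b) b
  b2 : Pr Y (X 1) b (sh b)
  b3 : Pr Y (X 1) (ol b) (ol b)
  c1 : Pr Y (X 2) (sh (refl (1, 1, 0) b)) c
  c2 : Pr Y (X 2) (refl (1, 1, 0) b) (sh c)
  c3 : Pr Y (X 2) (ol (refl (1, 1, 0) b)) (ol c)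

end Cfsg.Agent.OddHalf.NI3.Sol
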