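import Cfsg.Agent.OddHalf.NI3.Sol.CenZ
import Cfsg.Agent.OddHalf.NI3.Sol.EndDefs
import Cfsg.Agent.OddHalf.NI.FTwo.Facts
import Cfsg.Agent.Nodes.ChartFrame

/-!
# `SS` from a chart of type `B₃`

* `cen` : the centraliser of `z v` (`v` long) is contained in `JJ v · JJ (ol v) · JJ (sh v) · T`;
* `normalizes` : it normalises `JJ u` for `u = v` and for the roots `u` orthogonal to `v`;
* `ss_of_pos` : `SS`.
-/

set_option autoImplicit false
set_option linter.dupNamespace false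
set_option linter.unusedSectionVars false

namespace Cfsg.Agent.OddHalf.NI3.Sol.CenB

open Cfsg
open CoxeterSystem Cfsg.Agent.ChevalleyStructure.CoxeterGeom Cfsg.Agent.Tits.Roots Cfsg.Agent.Tits.Core
  Cfsg.Agent.Tits.RootComb Cfsg.Agent.Nodes.Comb Cfsg.Agent.Nodes.BNOf
  Cfsg.Agent.Nodes.RGDLib Cfsg.Agent.Nodes.Chart Cfsg.Agent.Nodes.Coroot Cfsg.Agent.Nodes.FreeTorus
open Cfsg.Agent.OddHalf.NI.FTwo Cfsg.Agent.OddHalf.NI.FTwo.FactsV Cfsg.Agent.OddHalf.NI.FTwo.FactsCo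
  Cfsg.Agent.OddHalf.NI.FTwo.Facts

variable {N : Type*} [Group N] {Om : Set (Subgroup N)} {p : ℕ}

/-! ### Tables -/

theorem tab_perp : ∀ v ∈ longL, ∀ u ∈ rootsL, dot u v = 0 → u = ol v ∨ u = -ol v ∨ u = sh v ∨ u = -sh v := by
  decide +kernel

theorem tab_ols : ∀ v ∈ longL, IsL (ol v) ∧ IsS (sh v) ∧ dot (ol v) v = 0 ∧ dot (sh v) v = 0 ∧
    dot (sh v) (ol v) = 0 := by decide +kernel

theorem tab_LL : ∀ v ∈ longL, ∀ u ∈ longL, u = v ∨ u = -v ∨ dot u v = 0 ∨ dot u v = 1 ∨ dot u v = -1 := by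
  decide +kernel

/-- the three roots `v, ol v, sh v` up to sign: sums and differences of different ones are no roots -/
theorem tab_three : ∀ v ∈ longL, ∀ u ∈ rootsL, ∀ w ∈ rootsL, (u = v ∨ u = -v ∨ dot u v = 0) →
    (w = v ∨ w = -v ∨ dot w v = 0) → u = w ∨ u = -w ∨ (¬ IsR (u + w) ∧ u + w ≠ 0) := by decide +kernel

section Main

variable {C : Chart Om p (⊤ : Subgroup N)} {F : Type} [Field F] [Fintype F] {c d : N} {A B A' : Subgroup N}
  {r r' b : C.I → ℤ} (H : PosB3 C F c d A B A' r r' b) {P : V → (C.I → ℤ)} (Q : Co C P)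

include H Q

/-- **The centraliser of the involution of a long root.** -/
theorem cen {v : V} (hv : IsL v) {g : N} (hg : C.z (P v) * g = g * C.z (P v)) :
    g ∈ LL C.X (P v) ⊔ LL C.X (P (ol v)) ⊔ LL C.X (P (sh v)) ⊔ C.T := by
  obtain ⟨t1, t2, t3, t4, t5⟩ := tab_ols v hv
  have hR : ∀ {u}, IsL u → P u ∈ C.R := fun {u} hu => (Q.mem u (Or.inr hu)).2 hu
  have hrt := Q.root (sh v) (Or.inl t2)
  have hfi := fun {u w : V} (hu : IsR u) (hw : IsR w) => (form_iff Q hu hw).2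
  have hgG : g ∈ Cfsg.Agent.Nodes.Bruhat.GG C.cs C.h C.T C.X := by
    rw [Cfsg.Agent.Nodes.ChartFrame.GG_eq]; exact Subgroup.mem_top g
  refine CenZ.mem_sup_of_comm C.cls C.prime C.odd (hR hv) (hR t1) hrt
    (fun h => (tab_L _ ((Q.mem _ (Or.inl t2)).1 h)).1 t2)
    (hfi (Or.inr t1) (Or.inr hv) t3) (hfi (Or.inl t2) (Or.inr hv) t4) (hfi (Or.inl t2) (Or.inr t1) t5)
    (fun y hy h0 => ?_) (fun s hs hzs => ?_) hgG hg
  · obtain ⟨u, hu, rfl⟩ := Q.surj y hy
    rcases tab_perp v hv u (mem_rootsL.2 hu) ((form_iff Q hu (Or.inr hv)).1 h0) with rfl | rfl | rfl | rfl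
    · exact Or.inl rfl
    · exact Or.inr (Or.inl (Q.neg _ (Or.inr t1)))
    · exact Or.inr (Or.inr (Or.inl rfl))
    · exact Or.inr (Or.inr (Or.inr (Q.neg _ (Or.inl t2))))
  · obtain ⟨w, hw, rfl⟩ := Q.surj s (C.cls.root s hs)
    have hwL : IsL w := (Q.mem w hw).1 hs
    rcases tab_LL v hv w hwL with rfl | rfl | h0 | h0
    · exact Or.inl rfl
    · exact Or.inr (Q.neg _ (Or.inr hv))
    · exfalso
      have h1 := H.zz (P w) hs (P v) (hR hv) ((form_iff Q hw (Or.inr hv)).2 h0)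
      rw [hzs, C.cls.z_sq _ (hR hv)] at h1
      have h2 := H.c_order
      rw [← h1, orderOf_one] at h2
      omega
    · exfalso
      obtain ⟨x, hx, hx1⟩ := exists_ne Q hw
      have h1 := z_odd Q hv hw h0 hx
      have hxZ : x ∈ C.Z (P w) := by rw [← X_eq_Z' Q H hwL]; exact hx
      have h2 := C.cls.z_cent _ hs x hxZ
      rw [hzs] at h2
      rw [h2, mul_assoc, C.cls.z_sq _ (hR hv), mul_one] at h1
      exact hx1 (CenZ.eq_one_of_sq C.cls C.prime C.odd (C.cls.rgd.pgrp' (C.cls.root _ hs)) hx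
        (by nth_rw 2 [h1]; group))

/-- commuting root groups of the configuration `A₁³` -/
theorem comm_JJ {v : V} (hv : IsL v) {u w : V} (hu : IsR u) (hw : IsR w) (hu' : u = v ∨ u = -v ∨ dot u v = 0)
    (hw' : w = v ∨ w = -v ∨ dot w v = 0) (hne : u ≠ w) (hne' : u ≠ -w) {x y : N} (hx : x ∈ LL C.X (P u))
    (hy : y ∈ LL C.X (P w)) : x * y = y * x := by
  have B3' := b3_of_pos Q H
  have key : ∀ u w : V, IsR u → IsR w → (u = v ∨ u = -v ∨ dot u v = 0) → (w = v ∨ w = -v ∨ dot w v = 0) → u ≠ w →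
      u ≠ -w → ∀ a ∈ C.X (P u), ∀ b ∈ C.X (P w), a * b = b * a := by
    intro u w hu hw hu' hw' hne hne' a ha b hb
    rcases tab_three v hv u (mem_rootsL.2 hu) w (mem_rootsL.2 hw) hu' hw' with h | h | ⟨h, h0⟩
    · exact absurd h hne
    · exact absurd h hne'
    · exact B3'.comm u w hu hw h h0 a ha b hb
  have hn : ∀ u : V, (u = v ∨ u = -v ∨ dot u v = 0) → (-u = v ∨ -u = -v ∨ dot (-u) v = 0) := by
    intro u hu
    rcases hu with rfl | rfl | h
    · exact Or.inr (Or.inl rfl)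
    · exact Or.inl (neg_neg _)
    · refine Or.inr (Or.inr ?_)
      simp only [dot, Prod.fst_neg, Prod.snd_neg] at h ⊢
      linarith
  have hur : IsR (-u) := (tab_neg u (mem_rootsL.2 hu)).1
  have hwr : IsR (-w) := (tab_neg w (mem_rootsL.2 hw)).1
  have h1 : ∀ a ∈ C.X (P u) ⊔ C.X (P (-u)), ∀ b ∈ C.X (P w) ⊔ C.X (P (-w)), a * b = b * a := by
    have e1 : C.X (P u) ⊔ C.X (P (-u)) ≤ Subgroup.centralizer ((C.X (P w) ⊔ C.X (P (-w)) : Subgroup N) : Set N) := by
      rw [Subgroup.le_centralizer_iff]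
      refine sup_le ?_ ?_
      · rw [Subgroup.le_centralizer_iff]
        refine sup_le (fun a ha => ?_) (fun a ha => ?_)
        · exact Subgroup.mem_centralizer_iff.2 fun b hb => (key u w hu hw hu' hw' hne hne' a ha b hb).symm
        · exact Subgroup.mem_centralizer_iff.2 fun b hb => (key (-u) w hur hw (hn u hu') hw'
            (fun h => hne' (by rw [← h, neg_neg])) (fun h => hne (neg_injective h)) a ha b hb).symm
      · rw [Subgroup.le_centralizer_iff]
        refine sup_le (fun a ha => ?_) (fun a ha => ?_)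
        · exact Subgroup.mem_centralizer_iff.2 fun b hb => (key u (-w) hu hwr hu' (hn w hw') hne'
            (fun h => hne (by rw [h, neg_neg])) a ha b hb).symm
        · exact Subgroup.mem_centralizer_iff.2 fun b hb => (key (-u) (-w) hur hwr (hn u hu') (hn w hw')
            (fun h => hne (neg_injective h)) (fun h => hne' (neg_injective h)) a ha b hb).symm
    exact fun a ha b hb => (Subgroup.mem_centralizer_iff.1 (e1 ha) b hb).symm
  rw [Q.neg u hu, Q.neg w hw] at h1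
  exact h1 x hx y hy

/-- the centraliser of `z v` normalises the groups `JJ u` -/
theorem normalizes {v : V} (hv : IsL v) {u : V} (hu : IsR u) (hu' : u = v ∨ dot u v = 0) {g : N}
    (hg : C.z (P v) * g = g * C.z (P v)) : g ∈ Subgroup.normalizer (LL C.X (P u) : Set N) := by
  obtain ⟨t1, t2, t3, t4, t5⟩ := tab_ols v hv
  have hu'' : u = v ∨ u = -v ∨ dot u v = 0 := by
    rcases hu' with h | h
    · exact Or.inl h
    · exact Or.inr (Or.inr h)
  have key : ∀ w : V, IsR w → (w = v ∨ w = -v ∨ dot w v = 0) →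
      LL C.X (P w) ≤ Subgroup.normalizer (LL C.X (P u) : Set N) := by
    intro w hw hw'
    by_cases e1 : w = u
    · subst e1; exact Subgroup.le_normalizer
    by_cases e2 : w = -u
    · subst e2
      rw [Q.neg u hu, LL_neg]
      exact Subgroup.le_normalizer
    · intro a ha
      apply Cfsg.Agent.Nodes.ClsNorm.centralizer_le_normalizer'
      exact Subgroup.mem_centralizer_iff.2 fun b hb => (comm_JJ H Q hv hw hu hw' hu'' e1 e2 ha hb).symm
  have hT : C.T ≤ Subgroup.normalizer (LL C.X (P u) : Set N) := by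
    intro t ht
    rw [Cfsg.Agent.Nodes.Reps.mem_normalizer_iff_cj]
    unfold LL
    rw [Cfsg.Agent.Nodes.Reps.cj_sup, C.cls.rgd.tor _ (Q.root u hu) t ht, C.cls.rgd.tor _ (Q.root u hu).neg t ht]
  have h1 := cen H Q hv hg
  exact (sup_le (sup_le (sup_le (key v (Or.inr hv) (Or.inl rfl)) (key _ (Or.inr t1) (Or.inr (Or.inr t3))))
    (key _ (Or.inl t2) (Or.inr (Or.inr t4)))) hT) h1

/-- **`SS` for a chart.** -/
theorem ss_of_pos : SS (⊤ : Subgroup N) (fun v => C.X (P v)) (zv C P c) := by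
  intro v hv u hu hu'
  apply Subgroup.Normal.isSubnormal
  refine ⟨fun x hx ⟨g, hgm⟩ => ?_⟩
  have hg := (Subgroup.mem_inf.1 hgm).2
  rw [Subgroup.mem_centralizer_singleton_iff, zv_L hv] at hg
  rw [Subgroup.mem_subgroupOf] at hx ⊢
  rw [JJ_eq Q hu] at hx ⊢
  exact (Subgroup.mem_normalizer_iff.1 (normalizes H Q hv hu hu' hg.symm) _).1 hx

end Main

end Cfsg.Agent.OddHalf.NI3.Sol.CenB
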