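import Cfsg.Agent.OddHalf.NI3.Sol.SS
import Cfsg.Agent.OddHalf.NI3.Step
import Cfsg.Agent.Cit.LongAbs

/-!
# `UU` from a chart of type `B₃`

`uu_of_pos` : for `v` long every subnormal subgroup `S ≅ SL₂(F)` of the centraliser of `z v` is one of the three groups
`JJ v`, `JJ (ol v)`, `JJ (sh v)`.
-/

set_option autoImplicit false
set_option linter.dupNamespace false
set_option linter.unusedSectionVars false

namespace Cfsg.Agent.OddHalf.NI3.Sol.CenB

/-! ### Abstract part -/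

section Abs

open Subgroup Cfsg Cfsg.Agent.Cit Cfsg.Agent.Cit.SLThree Cfsg.Agent.Cit.SolvTwo

variable {G : Type*} [Group G]

theorem exists_mul {A B : Subgroup G} (h : ∀ a ∈ A, ∀ b ∈ B, a * b = b * a) {x : G} (hx : x ∈ A ⊔ B) :
    ∃ a ∈ A, ∃ b ∈ B, x = a * b := by
  let K : Subgroup G :=
    { carrier := {x | ∃ a ∈ A, ∃ b ∈ B, x = a * b}
      one_mem' := ⟨1, one_mem _, 1, one_mem _, (mul_one 1).symm⟩
      mul_mem' := by
        rintro _ _ ⟨a, ha, b, hb, rfl⟩ ⟨a', ha', b', hb', rfl⟩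
        refine ⟨a * a', mul_mem ha ha', b * b', mul_mem hb hb', ?_⟩
        calc a * b * (a' * b') = a * (b * a') * b' := by group
          _ = a * (a' * b) * b' := by rw [h a' ha' b hb]
          _ = _ := by group
      inv_mem' := by
        rintro _ ⟨a, ha, b, hb, rfl⟩
        exact ⟨a⁻¹, inv_mem ha, b⁻¹, inv_mem hb, by rw [h a ha b hb]; group⟩ }
  have h1 : A ⊔ B ≤ K := sup_le (fun a ha => ⟨a, ha, 1, one_mem _, (mul_one a).symm⟩)
    (fun b hb => ⟨1, one_mem _, b, hb, (one_mul b).symm⟩)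
  exact h1 hx

/-- the quaternion group `O₂(J)` -/
def Qo (J : Subgroup G) (z : G) : Subgroup G := closure {y | y ∈ J ∧ y * y = z}

theorem Qo_le {J : Subgroup G} {z : G} : Qo J z ≤ J := (closure_le J).2 fun _ hy => hy.1

theorem Qo_isPGroup {J : Subgroup G} {z : G} (h : IsPr J z) : IsPGroup 2 ↥(Qo J z) := by
  obtain ⟨i, j, d, hl⟩ := h.sl
  have hi : i ∈ closure ({i, j} : Set G) := Qt.mem_i z i j
  have h1 : Qo J z ≤ closure {i, j} := by
    unfold Qo
    rw [closure_le]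
    rintro y ⟨hy, hyz⟩
    obtain ⟨g, hg, e⟩ := h.t3.conj i hl.hi y hy hl.q.i2 hyz
    obtain ⟨q, hq, hc⟩ := hl.mem_cases hg
    rw [← e]
    rcases hc with rfl | rfl | rfl
    · exact mul_mem (mul_mem hq hi) (inv_mem hq)
    · have e1 : q * d * i * (q * d)⁻¹ = q * (d * i * d⁻¹) * q⁻¹ := by group
      rw [SetLike.mem_coe, e1]
      exact mul_mem (mul_mem hq (hl.conj_mem hi)) (inv_mem hq)
    · have e1 : q * (d * d) * i * (q * (d * d))⁻¹ = q * (d * (d * i * d⁻¹) * d⁻¹) * q⁻¹ := by group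
      rw [SetLike.mem_coe, e1]
      exact mul_mem (mul_mem hq (hl.conj_mem (hl.conj_mem hi))) (inv_mem hq)
  exact hl.q.isPGroup.to_le h1

theorem fix_z {J : Subgroup G} {z : G} (h : IsPr J z) {g : G} (hg : g ∈ normalizer (J : Set G)) :
    g * z * g⁻¹ = z := by
  have h1 : g * z * g⁻¹ ∈ J := (mem_normalizer_iff.1 hg z).1 h.mem
  have h2 : (g * z * g⁻¹) * (g * z * g⁻¹) = 1 := by
    calc (g * z * g⁻¹) * (g * z * g⁻¹) = g * (z * z) * g⁻¹ := by group
      _ = 1 := by rw [h.t3.z_sq]; group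
  have h3 : g * z * g⁻¹ ≠ 1 := by
    intro h4
    apply h.t3.z_ne
    have : z = g⁻¹ * (g * z * g⁻¹) * g := by group
    rw [this, h4]; group
  rcases h.t3.cases _ h1 with h9 | h9 | h9 | h9 | h9
  · exact absurd (h9.symm.trans h2) h.t3.z_ne
  · exact absurd h9 h3
  · exact h9
  · rw [h2, one_mul] at h9
    exact absurd h9 h3
  · rw [h2, one_mul] at h9
    exact h9

theorem norm_Qo {J : Subgroup G} {z : G} (h : IsPr J z) : normalizer (J : Set G) ≤ normalizer (Qo J z : Set G) := by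
  have key : ∀ g ∈ normalizer (J : Set G), ∀ y ∈ Qo J z, g * y * g⁻¹ ∈ Qo J z := by
    intro g hg y hy
    induction hy using closure_induction with
    | mem y hy =>
      refine subset_closure ⟨(mem_normalizer_iff.1 hg y).1 hy.1, ?_⟩
      calc g * y * g⁻¹ * (g * y * g⁻¹) = g * (y * y) * g⁻¹ := by group
        _ = z := by rw [hy.2, fix_z h hg]
    | one => rw [mul_one, mul_inv_cancel]; exact one_mem _
    | mul a b _ _ ha hb =>
      have : g * (a * b) * g⁻¹ = g * a * g⁻¹ * (g * b * g⁻¹) := by group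
      rw [this]; exact mul_mem ha hb
    | inv a _ ha =>
      have : g * a⁻¹ * g⁻¹ = (g * a * g⁻¹)⁻¹ := by group
      rw [this]; exact inv_mem ha
  intro g hg
  rw [mem_normalizer_iff]
  intro y
  refine ⟨key g hg y, fun hy => ?_⟩
  have h1 := key g⁻¹ (inv_mem hg) _ hy
  have h2 : g⁻¹ * (g * y * g⁻¹) * g⁻¹⁻¹ = y := by group
  rwa [h2] at h1

/-- `SL₂(3)` subnormal in a product of three commuting `SL₂(3)`'s -/
theorem three [Finite G] {C0 S J1 J2 J3 : Subgroup G} {z z1 z2 z3 : G} (hS : IsPr S z) (h1 : IsPr J1 z1)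
    (h2 : IsPr J2 z2) (h3 : IsPr J3 z3) (c12 : ∀ a ∈ J1, ∀ b ∈ J2, a * b = b * a)
    (c13 : ∀ a ∈ J1, ∀ b ∈ J3, a * b = b * a) (c23 : ∀ a ∈ J2, ∀ b ∈ J3, a * b = b * a)
    (n1 : S ≤ normalizer (J1 : Set G)) (n2 : S ≤ normalizer (J2 : Set G)) (n3 : S ≤ normalizer (J3 : Set G))
    (hs : Sn S C0) (l1 : J1 ≤ C0) (l2 : J2 ≤ C0) (l3 : J3 ≤ C0) (hSD : S ≤ J1 ⊔ J2 ⊔ J3) :
    S ≤ J1 ∨ S ≤ J2 ∨ S ≤ J3 := by
  -- elements of order 3 of `S` centralise `O₂(J)` or `O₂(S) ≤ O₂(J)`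
  have key : ∀ {J : Subgroup G} {w : G}, IsPr J w → S ≤ normalizer (J : Set G) → J ≤ C0 →
      (∀ y ∈ S, y * y = z → y ∈ J) ∨ ∀ v ∈ S, v * v * v = 1 → ∀ q ∈ Qo J w, v * q = q * v := by
    intro J w hJ hn hl
    by_cases hc : ∀ y ∈ S, y * y = z → y ∈ Qo J w
    · exact Or.inl fun y hy hyz => Qo_le (hc y hy hyz)
    · exact Or.inr fun v hv h3 q hq => T3.comm_of_sn hS.t3 hs (Qo_le.trans hl) (Qo_isPGroup hJ)
        (hn.trans (norm_Qo hJ)) hc hv h3 hq
  have cen : ∀ {J : Subgroup G} {w a : G}, IsPr J w → a ∈ J → (∀ q ∈ Qo J w, a * q = q * a) → a * a = 1 := by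
    intro J w a hJ ha hq
    rcases hJ.t3.cen a ha fun y hy hyw => hq y (subset_closure ⟨hy, hyw⟩) with rfl | rfl
    · exact one_mul 1
    · exact hJ.t3.z_sq
  have dis : ∀ {J J' : Subgroup G}, (∀ a ∈ J, ∀ b ∈ J', a * b = b * a) → (∀ y ∈ S, y * y = z → y ∈ J) →
      (∀ y ∈ S, y * y = z → y ∈ J') → False := by
    intro J J' hc hJ hJ'
    obtain ⟨x, hx, y, hy, hxz, hyz, hne⟩ := hS.t3.ex4
    exact hne (hc x (hJ x hx hxz) y (hJ' y hy hyz))
  -- the decomposition
  have dec : ∀ v ∈ S, ∃ a ∈ J1, ∃ b ∈ J2, ∃ c ∈ J3, v = a * b * c := by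
    intro v hv
    have hc : ∀ x ∈ J1 ⊔ J2, ∀ c ∈ J3, x * c = c * x := by
      intro x hx c hc
      obtain ⟨a, ha, b, hb, rfl⟩ := exists_mul c12 hx
      calc a * b * c = a * (b * c) := by group
        _ = a * c * b := by rw [c23 b hb c hc]; group
        _ = _ := by rw [c13 a ha c hc]; group
    obtain ⟨x, hx, c, hc', rfl⟩ := exists_mul hc (hSD hv)
    obtain ⟨a, ha, b, hb, rfl⟩ := exists_mul c12 hx
    exact ⟨a, ha, b, hb, c, hc', rfl⟩
  -- projections of commuting facts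
  have p1 : ∀ {a b c : G}, a ∈ J1 → b ∈ J2 → c ∈ J3 → (∀ q ∈ Qo J1 z1, a * b * c * q = q * (a * b * c)) →
      a * a = 1 := by
    intro a b c ha hb hc hq
    refine cen h1 ha fun q hq' => ?_
    have e1 := hq q hq'
    have hq1 : q ∈ J1 := Qo_le hq'
    have e2 : a * b * c * q = a * q * b * c := by
      calc a * b * c * q = a * b * (c * q) := by group
        _ = a * (b * q) * c := by rw [← c13 q hq1 c hc]; group
        _ = _ := by rw [← c12 q hq1 b hb]; group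
    rw [e2] at e1
    have e3 : q * (a * b * c) = q * a * b * c := by group
    rw [e3] at e1
    exact mul_right_cancel (mul_right_cancel e1)
  have p2 : ∀ {a b c : G}, a ∈ J1 → b ∈ J2 → c ∈ J3 → (∀ q ∈ Qo J2 z2, a * b * c * q = q * (a * b * c)) →
      b * b = 1 := by
    intro a b c ha hb hc hq
    refine cen h2 hb fun q hq' => ?_
    have e1 := hq q hq'
    have hq1 : q ∈ J2 := Qo_le hq'
    have e2 : a * b * c * q = a * (b * q) * c := by
      calc a * b * c * q = a * b * (c * q) := by group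
        _ = _ := by rw [← c23 q hq1 c hc]; group
    have e3 : q * (a * b * c) = a * (q * b) * c := by
      calc q * (a * b * c) = (q * a) * b * c := by group
        _ = _ := by rw [← c12 a ha q hq1]; group
    rw [e2, e3] at e1
    exact mul_left_cancel (mul_right_cancel e1)
  have p3 : ∀ {a b c : G}, a ∈ J1 → b ∈ J2 → c ∈ J3 → (∀ q ∈ Qo J3 z3, a * b * c * q = q * (a * b * c)) →
      c * c = 1 := by
    intro a b c ha hb hc hq
    refine cen h3 hc fun q hq' => ?_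
    have e1 := hq q hq'
    have hq1 : q ∈ J3 := Qo_le hq'
    have e3 : q * (a * b * c) = a * b * (q * c) := by
      calc q * (a * b * c) = (q * a) * b * c := by group
        _ = a * (q * b) * c := by rw [← c13 a ha q hq1]; group
        _ = _ := by rw [← c23 b hb q hq1]; group
    have e2 : a * b * c * q = a * b * (c * q) := by group
    rw [e2, e3] at e1
    exact mul_left_cancel e1
  -- fourth power
  have pw : ∀ {a b c : G}, a ∈ J1 → b ∈ J2 → c ∈ J3 →
      (a * b * c) * (a * b * c) = (a * a) * (b * b) * (c * c) := by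
    intro a b c ha hb hc
    calc (a * b * c) * (a * b * c) = a * b * (c * a) * b * c := by group
      _ = a * (b * a) * (c * b) * c := by rw [← c13 a ha c hc]; group
      _ = a * (a * b) * (b * c) * c := by rw [← c12 a ha b hb, ← c23 b hb c hc]
      _ = _ := by group
  have pw4 : ∀ {a b c v : G}, a ∈ J1 → b ∈ J2 → c ∈ J3 → v = a * b * c → v * v * v = 1 →
      v = (a * a * (a * a)) * (b * b * (b * b)) * (c * c * (c * c)) := by
    intro a b c v ha hb hc hv h3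
    have e1 : v = (v * v) * (v * v) := by
      calc v = 1 * v := by group
        _ = v * v * v * v := by rw [h3]
        _ = _ := by group
    conv_lhs => rw [e1, hv, pw ha hb hc, pw (mul_mem ha ha) (mul_mem hb hb) (mul_mem hc hc)]
  rcases key h1 n1 l1 with k1 | k1
  · left
    rcases key h2 n2 l2 with k2 | k2
    · exact (dis c12 k1 k2).elim
    rcases key h3 n3 l3 with k3 | k3
    · exact (dis c13 k1 k3).elim
    refine hS.le_of_cube fun v hv hv3 => ?_
    obtain ⟨a, ha, b, hb, c, hc, e⟩ := dec v hv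
    have e2 : b * b = 1 := p2 ha hb hc (by rw [← e]; exact k2 v hv hv3)
    have e3 : c * c = 1 := p3 ha hb hc (by rw [← e]; exact k3 v hv hv3)
    rw [pw4 ha hb hc e hv3, e2, e3]
    simp only [mul_one]
    exact mul_mem (mul_mem ha ha) (mul_mem ha ha)
  rcases key h2 n2 l2 with k2 | k2
  · right; left
    rcases key h3 n3 l3 with k3 | k3
    · exact (dis c23 k2 k3).elim
    refine hS.le_of_cube fun v hv hv3 => ?_
    obtain ⟨a, ha, b, hb, c, hc, e⟩ := dec v hv
    have e1 : a * a = 1 := p1 ha hb hc (by rw [← e]; exact k1 v hv hv3)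
    have e3 : c * c = 1 := p3 ha hb hc (by rw [← e]; exact k3 v hv hv3)
    rw [pw4 ha hb hc e hv3, e1, e3]
    simp only [mul_one, one_mul]
    exact mul_mem (mul_mem hb hb) (mul_mem hb hb)
  rcases key h3 n3 l3 with k3 | k3
  · right; right
    refine hS.le_of_cube fun v hv hv3 => ?_
    obtain ⟨a, ha, b, hb, c, hc, e⟩ := dec v hv
    have e1 : a * a = 1 := p1 ha hb hc (by rw [← e]; exact k1 v hv hv3)
    have e2 : b * b = 1 := p2 ha hb hc (by rw [← e]; exact k2 v hv hv3)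
    rw [pw4 ha hb hc e hv3, e1, e2]
    simp only [mul_one, one_mul]
    exact mul_mem (mul_mem hc hc) (mul_mem hc hc)
  · exfalso
    obtain ⟨v, hv, hv3, hne⟩ := hS.t3.ex3
    obtain ⟨a, ha, b, hb, c, hc, e⟩ := dec v hv
    have e1 : a * a = 1 := p1 ha hb hc (by rw [← e]; exact k1 v hv hv3)
    have e2 : b * b = 1 := p2 ha hb hc (by rw [← e]; exact k2 v hv hv3)
    have e3 : c * c = 1 := p3 ha hb hc (by rw [← e]; exact k3 v hv hv3)
    apply hne
    rw [pw4 ha hb hc e hv3, e1, e2, e3]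
    group

end Abs

/-! ### The chart -/

section Chart

open Cfsg Cfsg.Agent.Cit.SolvTwo Cfsg.Agent.Cit
open CoxeterSystem Cfsg.Agent.ChevalleyStructure.CoxeterGeom Cfsg.Agent.Tits.Roots Cfsg.Agent.Tits.Core
  Cfsg.Agent.Tits.RootComb Cfsg.Agent.Nodes.Comb Cfsg.Agent.Nodes.BNOf
  Cfsg.Agent.Nodes.RGDLib Cfsg.Agent.Nodes.Chart Cfsg.Agent.Nodes.Coroot Cfsg.Agent.Nodes.FreeTorus
open Cfsg.Agent.OddHalf.NI.FTwo Cfsg.Agent.OddHalf.NI.FTwo.FactsV Cfsg.Agent.OddHalf.NI.FTwo.FactsCo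
  Cfsg.Agent.OddHalf.NI.FTwo.Facts

variable {N : Type*} [Group N] {Om : Set (Subgroup N)} {p : ℕ}

/-- an element of `p`-power order of `D T`, `T` a `p'`-group normalising `D`, lies in `D` -/
theorem mem_of_pow {D T : Subgroup N} (hn : T ≤ Subgroup.normalizer (D : Set N))
    (hT : Nat.Coprime p (Nat.card T)) {g : N} (hg : g ∈ D ⊔ T) {k : ℕ} (hk : g ^ p ^ k = 1) : g ∈ D := by
  obtain ⟨d, hd, t, ht, rfl⟩ : ∃ d ∈ D, ∃ t ∈ T, d * t = g := by
    have h1 : g ∈ ((D ⊔ T : Subgroup N) : Set N) := hg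
    rw [Subgroup.coe_mul_of_right_le_normalizer_left D T hn] at h1
    obtain ⟨d, hd, t, ht, e⟩ := h1
    exact ⟨d, hd, t, ht, e⟩
  have hpw : ∀ n : ℕ, ∃ d' ∈ D, (d * t) ^ n = d' * t ^ n := by
    intro n
    induction n with
    | zero => exact ⟨1, one_mem _, by simp⟩
    | succ n ih =>
      obtain ⟨d', hd', e⟩ := ih
      have h1 : t ^ n * d * (t ^ n)⁻¹ ∈ D :=
        (Subgroup.mem_normalizer_iff.1 (hn (pow_mem ht n)) d).1 hd
      refine ⟨d' * (t ^ n * d * (t ^ n)⁻¹), mul_mem hd' h1, ?_⟩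
      rw [pow_succ, e, pow_succ]
      group
  obtain ⟨d', hd', e⟩ := hpw (p ^ k)
  rw [hk] at e
  have h1 : t ^ p ^ k ∈ D := by
    rw [eq_inv_of_mul_eq_one_right e.symm]
    exact inv_mem hd'
  have h2 : Nat.Coprime (p ^ k) (orderOf t) :=
    (Nat.Coprime.pow_left k hT).coprime_dvd_right (Subgroup.orderOf_dvd_natCard T ht)
  obtain ⟨m, hm⟩ := exists_pow_eq_self_of_coprime h2
  have h3 : t ∈ D := by rw [← hm]; exact pow_mem h1 m
  exact mul_mem hd h3

theorem tab_distinct : ∀ v ∈ longL, v ≠ ol v ∧ v ≠ -ol v ∧ v ≠ sh v ∧ v ≠ -sh v ∧ ol v ≠ sh v ∧ ol v ≠ -sh v := by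
  decide +kernel

section Main

variable {C : Chart Om p (⊤ : Subgroup N)} {F : Type} [Field F] [Fintype F] {c d : N} {A B A' : Subgroup N}
  {r r' b : C.I → ℤ} (H : PosB3 C F c d A B A' r r' b) {P : V → (C.I → ℤ)} (Q : Co C P)

include H Q

theorem T_norm {u : V} (hu : IsR u) : C.T ≤ Subgroup.normalizer (LL C.X (P u) : Set N) := by
  intro t ht
  rw [Cfsg.Agent.Nodes.Reps.mem_normalizer_iff_cj]
  unfold LL
  rw [Cfsg.Agent.Nodes.Reps.cj_sup, C.cls.rgd.tor _ (Q.root u hu) t ht, C.cls.rgd.tor _ (Q.root u hu).neg t ht]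

theorem le_of_equiv {v : V} (hv : IsL v) {S : Subgroup N} (hS : S ≤ Subgroup.centralizer ({C.z (P v)} : Set N))
    (e : ↥S ≃* Matrix.SpecialLinearGroup (Fin 2) F) :
    S ≤ LL C.X (P v) ⊔ LL C.X (P (ol v)) ⊔ LL C.X (P (sh v)) := by
  obtain ⟨t1, t2, t3, t4, t5⟩ := tab_ols v hv
  have hr := Q.root v (Or.inr hv)
  obtain ⟨e'⟩ := H.sl _ hr
  let φ : ↥(LL C.X (P v)) →* N := S.subtype.comp (e'.trans e.symm).toMonoidHom
  set D : Subgroup N := LL C.X (P v) ⊔ LL C.X (P (ol v)) ⊔ LL C.X (P (sh v)) with hD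
  have hT : C.T ≤ Subgroup.normalizer (D : Set N) := by
    intro t ht
    rw [Cfsg.Agent.Nodes.Reps.mem_normalizer_iff_cj, hD, Cfsg.Agent.Nodes.Reps.cj_sup,
      Cfsg.Agent.Nodes.Reps.cj_sup, Cfsg.Agent.Nodes.Reps.mem_normalizer_iff_cj.1 (T_norm H Q (Or.inr hv) ht),
      Cfsg.Agent.Nodes.Reps.mem_normalizer_iff_cj.1 (T_norm H Q (Or.inr t1) ht),
      Cfsg.Agent.Nodes.Reps.mem_normalizer_iff_cj.1 (T_norm H Q (Or.inl t2) ht)]
  have key : ∀ u, IsRoot C.cs C.h u → C.X u ≤ LL C.X (P v) → C.X u ≤ (D.comap φ).map (LL C.X (P v)).subtype := by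
    intro u hu hle x hx
    refine ⟨⟨x, hle hx⟩, ?_, rfl⟩
    change φ ⟨x, hle hx⟩ ∈ D
    obtain ⟨k, hk⟩ := C.cls.rgd.pgrp' hu ⟨x, hx⟩
    have hk' : x ^ p ^ k = 1 := congrArg Subtype.val hk
    refine mem_of_pow (k := k) hT (Nat.Coprime.symm C.cls.rgd.tcop) ?_ ?_
    · refine cen H Q hv ?_
      have h1 : φ ⟨x, hle hx⟩ ∈ S := (e.symm (e' ⟨x, hle hx⟩)).2
      exact (Subgroup.mem_centralizer_singleton_iff.1 (hS h1)).symm
    · rw [← map_pow]
      have : (⟨x, hle hx⟩ : ↥(LL C.X (P v))) ^ p ^ k = 1 := Subtype.ext hk'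
      rw [this, map_one]
  have h1 : LL C.X (P v) ≤ (D.comap φ).map (LL C.X (P v)).subtype :=
    sup_le (key _ hr le_sup_left) (key _ hr.neg le_sup_right)
  intro s hs
  obtain ⟨y, hy, e2⟩ := h1 (e'.symm (e ⟨s, hs⟩)).2
  have h2 : y = e'.symm (e ⟨s, hs⟩) := Subtype.ext e2
  rw [h2] at hy
  have h3 : φ (e'.symm (e ⟨s, hs⟩)) = s := by
    change ((e.symm (e' (e'.symm (e ⟨s, hs⟩))) : S) : N) = s
    rw [e'.apply_symm_apply, e.symm_apply_apply]
  rw [← h3]
  exact hy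

omit H Q in
theorem exists_isPr {J : Subgroup N} (e : ↥J ≃* SL23) : ∃ z, IsPr J z := by
  refine ⟨((e.symm (-1) : J) : N), ⟨e⟩, ?_, (e.symm (-1)).2⟩
  rw [Subgroup.orderOf_coe, MulEquiv.orderOf_eq, orderOf_eq_prime_iff]
  exact ⟨by decide +kernel, by decide +kernel⟩

/-- `JJ u` centralises `z v` -/
theorem LL_le_cen {v : V} (hv : IsL v) {u : V} (hu : IsR u) (hu' : u = v ∨ dot u v = 0) :
    LL C.X (P u) ≤ Subgroup.centralizer ({C.z (P v)} : Set N) := by
  have hur : IsR (-u) := (tab_neg u (mem_rootsL.2 hu)).1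
  have h1 : dot u v = 0 ∨ u = v ∨ u = -v := by tauto
  have h2 : dot (-u) v = 0 ∨ -u = v ∨ -u = -v := by
    rcases hu' with h | h
    · exact Or.inr (Or.inr (by rw [h]))
    · refine Or.inl ?_
      simp only [dot, Prod.fst_neg, Prod.snd_neg] at h ⊢
      linarith
  unfold LL
  refine sup_le (fun x hx => ?_) (fun x hx => ?_)
  · rw [Subgroup.mem_centralizer_singleton_iff]
    exact (z_even Q H hv hu h1 hx).symm
  · rw [Subgroup.mem_centralizer_singleton_iff]
    rw [← Q.neg u hu] at hx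
    exact (z_even Q H hv hur h2 hx).symm

/-- **`UU` for a chart.** -/
theorem uu_of_pos [Finite N] : UU F (⊤ : Subgroup N) (fun v => C.X (P v)) (zv C P c) := by
  intro v hv S hS hs ⟨e⟩
  obtain ⟨t1, t2, t3, t4, t5⟩ := tab_ols v hv
  have hvR : IsR v := Or.inr hv
  have hoR : IsR (ol v) := Or.inr t1
  have hsR : IsR (sh v) := Or.inl t2
  have hC0 : (⊤ : Subgroup N) ⊓ Subgroup.centralizer ({zv C P c v} : Set N) =
      Subgroup.centralizer ({C.z (P v)} : Set N) := by rw [top_inf_eq, zv_L hv]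
  rw [hC0] at hS hs
  have hSn : Sn S (Subgroup.centralizer ({C.z (P v)} : Set N)) := ⟨hS, hs⟩
  have hSD := le_of_equiv H Q hv hS e
  -- the three groups
  have hcard : ∀ {u : V}, IsR u → Nat.card S = Nat.card (LL C.X (P u)) := by
    intro u hu
    obtain ⟨e'⟩ := H.sl _ (Q.root u hu)
    exact Nat.card_congr (e.trans e'.symm).toEquiv
  have hnv : ∀ {u : V}, IsR u → (u = v ∨ dot u v = 0) →
      Subgroup.centralizer ({C.z (P v)} : Set N) ≤ Subgroup.normalizer (LL C.X (P u) : Set N) :=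
    fun hu hu' g hg => normalizes H Q hv hu hu' (Subgroup.mem_centralizer_singleton_iff.1 hg).symm
  have l1 := LL_le_cen H Q hv hvR (Or.inl rfl)
  have l2 := LL_le_cen H Q hv hoR (Or.inr t3)
  have l3 := LL_le_cen H Q hv hsR (Or.inr t4)
  have n1 := hnv hvR (Or.inl rfl)
  have n2 := hnv hoR (Or.inr t3)
  have n3 := hnv hsR (Or.inr t4)
  have tb := tab_distinct v hv
  have c12 : ∀ a ∈ LL C.X (P v), ∀ b ∈ LL C.X (P (ol v)), a * b = b * a := fun a ha b hb =>
    comm_JJ H Q hv hvR hoR (Or.inl rfl) (Or.inr (Or.inr t3)) tb.1 tb.2.1 ha hb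
  have c13 : ∀ a ∈ LL C.X (P v), ∀ b ∈ LL C.X (P (sh v)), a * b = b * a := fun a ha b hb =>
    comm_JJ H Q hv hvR hsR (Or.inl rfl) (Or.inr (Or.inr t4)) tb.2.2.1 tb.2.2.2.1 ha hb
  have c23 : ∀ a ∈ LL C.X (P (ol v)), ∀ b ∈ LL C.X (P (sh v)), a * b = b * a := fun a ha b hb =>
    comm_JJ H Q hv hoR hsR (Or.inr (Or.inr t3)) (Or.inr (Or.inr t4)) tb.2.2.2.2.1 tb.2.2.2.2.2 ha hb
  -- it suffices that `S` is contained in or contains one of them
  have hfin : ∀ {u : V}, IsR u → (u = v ∨ dot u v = 0) → (S ≤ LL C.X (P u) ∨ LL C.X (P u) ≤ S) →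
      ∃ u, IsR u ∧ (u = v ∨ dot u v = 0) ∧ S = JJ (fun v => C.X (P v)) u := by
    intro u hu hu' h
    refine ⟨u, hu, hu', ?_⟩
    rw [JJ_eq Q hu]
    rcases h with h | h
    · exact Subgroup.eq_of_le_of_card_ge h (hcard hu).ge
    · exact (Subgroup.eq_of_le_of_card_ge h (hcard hu).le).symm
  by_cases h3 : Fintype.card F = 3
  · obtain ⟨f⟩ := Cfsg.Agent.Cit.LongAbs.equiv_S3 h3
    obtain ⟨z0, hz0⟩ := exists_isPr (e.trans f)
    obtain ⟨e1⟩ := H.sl _ (Q.root v hvR)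
    obtain ⟨e2⟩ := H.sl _ (Q.root _ hoR)
    obtain ⟨e3⟩ := H.sl _ (Q.root _ hsR)
    obtain ⟨z1, hz1⟩ := exists_isPr (e1.trans f)
    obtain ⟨z2, hz2⟩ := exists_isPr (e2.trans f)
    obtain ⟨z3, hz3⟩ := exists_isPr (e3.trans f)
    rcases three hz0 hz1 hz2 hz3 c12 c13 c23 (hS.trans n1) (hS.trans n2) (hS.trans n3) hSn l1 l2 l3 hSD with h | h | h
    · exact hfin hvR (Or.inl rfl) (Or.inl h)
    · exact hfin hoR (Or.inr t3) (Or.inl h)
    · exact hfin hsR (Or.inr t4) (Or.inl h)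
  · -- quasisimple
    have hq : IsQuasisimple (Matrix.SpecialLinearGroup (Fin 2) F) := Cfsg.Agent.Cit.LongAbs.quasisimple_SL2 H.odd h3
    have hcomp : ∀ {u : V}, IsR u → (u = v ∨ dot u v = 0) → LL C.X (P u) ≤ S ∨ ∀ x ∈ S, ∀ y ∈ LL C.X (P u),
        x * y = y * x := by
      intro u hu hu'
      obtain ⟨e'⟩ := H.sl _ (Q.root u hu)
      have hl := LL_le_cen H Q hv hu hu'
      have h1 : IsComponent ((LL C.X (P u)).subgroupOf (Subgroup.centralizer ({C.z (P v)} : Set N))) := by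
        refine ⟨(Sn.of_normal hl (hnv hu hu')).2, ?_⟩
        exact Cfsg.Agent.SignalizersComponents.ComponentNormalize.quasisimple_congr ((Subgroup.subgroupOfEquivOfLe hl).trans e').symm hq
      rcases Cfsg.Agent.SignalizersComponents.Components.component_le_or_commutator_eq_bot h1 hs with h | h
      · left
        intro x hx
        exact h (show (⟨x, hl hx⟩ : ↥(Subgroup.centralizer ({C.z (P v)} : Set N))) ∈ _ from hx)
      · right
        rw [Subgroup.commutator_eq_bot_iff_le_centralizer] at h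
        intro x hx y hy
        have h2 := Subgroup.mem_centralizer_iff.1
          (h (show (⟨y, hl hy⟩ : ↥(Subgroup.centralizer ({C.z (P v)} : Set N))) ∈ _ from hy)) ⟨x, hS hx⟩ hx
        exact congrArg Subtype.val h2
    rcases hcomp hvR (Or.inl rfl) with h | k1
    · exact hfin hvR (Or.inl rfl) (Or.inr h)
    rcases hcomp hoR (Or.inr t3) with h | k2
    · exact hfin hoR (Or.inr t3) (Or.inr h)
    rcases hcomp hsR (Or.inr t4) with h | k3
    · exact hfin hsR (Or.inr t4) (Or.inr h)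
    exfalso
    refine Cfsg.Agent.Cit.LongAbs.not_comm_of_equiv H.odd e fun x hx y hy => ?_
    have h1 : LL C.X (P v) ⊔ LL C.X (P (ol v)) ⊔ LL C.X (P (sh v)) ≤ Subgroup.centralizer ({x} : Set N) := by
      refine sup_le (sup_le (fun w hw => ?_) (fun w hw => ?_)) (fun w hw => ?_)
      · exact Subgroup.mem_centralizer_singleton_iff.2 (k1 x hx w hw).symm
      · exact Subgroup.mem_centralizer_singleton_iff.2 (k2 x hx w hw).symm
      · exact Subgroup.mem_centralizer_singleton_iff.2 (k3 x hx w hw).symm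
    exact (Subgroup.mem_centralizer_singleton_iff.1 (h1 (hSD hy))).symm

end Main

end Chart

end Cfsg.Agent.OddHalf.NI3.Sol.CenB
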