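import Cfsg.Agent.OddHalf.NI3.Sol.Main
import Cfsg.Agent.OddHalf.NI3.Sol.SS
import Cfsg.Agent.OddHalf.NI3.Sol.UU
import Cfsg.Agent.OddHalf.NI.PosStd
import Cfsg.Agent.OddHalf.NI.Props

/-!
# Solomon's configuration does not exist: charts of type `B₃`, all odd `q`

* `kf_of_chart` : `ChartB3 F N c d A B A'` gives `KF F N c A B A'`;
* `sol_core` : Solomon's configuration with two charts of type `B₃` is impossible in any group `X` (`Lu`, `Lv` finite);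
* `sol_of`, `sol` : `NI.Sol S7` for every `S7` which gives `ChartB3`;
* `sol3_of`, `sol3` : the same for `SL₂(3)` (node NI over `F₃`).
-/

set_option autoImplicit false

namespace Cfsg.Agent.OddHalf.NI3.Sol

open Subgroup Matrix
open Cfsg.Agent.OddHalf.NI (CompIn)
open Cfsg.Agent.OddHalf.D3 (Comp)

/-- A chart of type `B₃` gives all facts. -/
theorem kf_of_chart {N : Type*} [Group N] [Finite N] {F : Type} [Field F] [Fintype F] {c d : N}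
    {A B A' : Subgroup N} (H : NI.FTwo.ChartB3 F N c d A B A') : KF F N c A B A' := by
  obtain ⟨Om, p, C, r, r', b, hOm, H'⟩ := id H
  obtain ⟨P, Q, e1, e2, e3⟩ := NI.FTwo.FactsCo.exists_co H'
  have p1 : JJ (fun v => C.X (P v)) (0, 0, 1) = A := by
    rw [NI.FTwo.Facts.JJ_eq Q (by decide), e3, H'.A_eq]
  have p2 : JJ (fun v => C.X (P v)) (1, 1, 0) = B := by
    rw [NI.FTwo.Facts.JJ_eq Q (by decide), e1, H'.B_eq]
  have p3 : JJ (fun v => C.X (P v)) (1, -1, 0) = A' := by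
    rw [NI.FTwo.Facts.JJ_eq Q (by decide), e2, H'.A'_eq]
  have p4 : NI.FTwo.Facts.zv C P c (1, 1, 0) = d := by
    rw [NI.FTwo.Facts.zv_L (by decide), e1, H'.zr]
  refine ⟨fun v => C.X (P v), NI.FTwo.Facts.zv C P c, NI.FTwo.Facts.b3_of_pos Q H', ?_,
    CenB.uu_of_pos H' Q, CenB.ss_of_pos H' Q, p1, p2, p3⟩
  intro α h1 h2 h3
  rw [p1] at h1
  rw [p3] at h2
  rw [p2] at h3
  rw [p4]
  exact NI.PosStd.aut_eq H α h1 h3 h2

/-- **Solomon's configuration does not exist.** -/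
theorem sol_core {X : Type*} [Group X] {u v : X} {Lu Lv Ju Jv Jw : Subgroup X} [Finite Lu] [Finite Lv]
    (cu : CompIn (centralizer ({u} : Set X)) Lu) (cv : CompIn (centralizer ({v} : Set X)) Lv)
    (hu : u ∈ Lu) (hv : v ∈ Lv) (l1 : Ju ≤ Lu) (l2 : Jv ≤ Lu) (l3 : Jw ≤ Lu) (m1 : Ju ≤ Lv) (m2 : Jv ≤ Lv)
    (m3 : Jw ≤ Lv) {d : Lu} {d' : Lv}
    (ku : ∃ (F : Type) (_ : Field F) (_ : Fintype F), NI.FTwo.ChartB3 F ↥Lu ⟨u, hu⟩ d (Ju.subgroupOf Lu)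
      (Jv.subgroupOf Lu) (Jw.subgroupOf Lu))
    (kv : ∃ (F : Type) (_ : Field F) (_ : Fintype F), NI.FTwo.ChartB3 F ↥Lv ⟨v, hv⟩ d' (Jv.subgroupOf Lv)
      (Ju.subgroupOf Lv) (Jw.subgroupOf Lv)) : False := by
  obtain ⟨F, _, _, ku⟩ := ku
  obtain ⟨F', _, _, kv⟩ := kv
  exact chart_false cu cv hu hv l1 l2 l3 m1 m2 m3 (kf_of_chart ku) (kf_of_chart kv)

universe w

/-- **(Sol)** for every `S7` giving a chart of type `B₃`. -/
theorem sol_of {S7 : ∀ (N : Type w) [Group N], N → N → Subgroup N → Subgroup N → Subgroup N → Prop}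
    (h : ∀ (N : Type w) [Group N] [Finite N] (c d : N) (A B A' : Subgroup N), S7 N c d A B A' →
      ∃ (F : Type) (_ : Field F) (_ : Fintype F), NI.FTwo.ChartB3 F N c d A B A') : NI.Sol.{w} S7 := by
  intro X _ _ u v Lu Lv Ju Jv Jw _ _ _ _ hLu hLv hu hv _ _ l1 l2 l3 m1 m2 m3 ku kv
  exact sol_core ⟨hLu.le, hLu.comp⟩ ⟨hLv.le, hLv.comp⟩ (l1 hu) (m2 hv) l1 l2 l3 m1 m2 m3
    (h _ _ _ _ _ _ (ku (l1 hu) (l2 hv))) (h _ _ _ _ _ _ (kv (m1 hu) (m2 hv)))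

/-- **(Sol)** for charts of type `B₃`. -/
theorem sol : NI.Sol.{w} NI.PosStd.S7B3.{w} := sol_of fun _ _ _ _ _ _ _ _ h => h

/-- **(Sol) over `F₃`** for every `S7` giving a chart of type `B₃` (the form consumed by THEOREM X(3)). -/
theorem sol3_of {S7 : ∀ (N : Type w) [Group N], N → N → Subgroup N → Subgroup N → Subgroup N → Prop}
    (h : ∀ (N : Type w) [Group N] [Finite N] (c d : N) (A B A' : Subgroup N), S7 N c d A B A' →
      ∃ (F : Type) (_ : Field F) (_ : Fintype F), NI.FTwo.ChartB3 F N c d A B A') :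
    ∀ (X : Type w) [Group X] [Finite X] (u v : X) (Lu Lv Ju Jv Jw : Subgroup X), orderOf u = 2 → orderOf v = 2 →
    u ≠ v → u * v = v * u → Comp u Lu → Comp v Lv → u ∈ Ju → v ∈ Jv → u * v ∈ Jw →
    Nonempty (↥Ju ≃* Matrix.SpecialLinearGroup (Fin 2) (ZMod 3)) →
    Nonempty (↥Jv ≃* Matrix.SpecialLinearGroup (Fin 2) (ZMod 3)) →
    Ju ≤ Lu → Jv ≤ Lu → Jw ≤ Lu → Ju ≤ Lv → Jv ≤ Lv → Jw ≤ Lv →
    (∀ (hu : u ∈ Lu) (hv : v ∈ Lu), S7 ↥Lu ⟨u, hu⟩ ⟨v, hv⟩ (Ju.subgroupOf Lu) (Jv.subgroupOf Lu) (Jw.subgroupOf Lu)) →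
    (∀ (hu : u ∈ Lv) (hv : v ∈ Lv), S7 ↥Lv ⟨v, hv⟩ ⟨u, hu⟩ (Jv.subgroupOf Lv) (Ju.subgroupOf Lv) (Jw.subgroupOf Lv)) →
    False := by
  intro X _ _ u v Lu Lv Ju Jv Jw _ _ _ _ hLu hLv hu hv _ _ _ l1 l2 l3 m1 m2 m3 ku kv
  exact sol_core ⟨hLu.le, hLu.comp⟩ ⟨hLv.le, hLv.comp⟩ (l1 hu) (m2 hv) l1 l2 l3 m1 m2 m3
    (h _ _ _ _ _ _ (ku (l1 hu) (l2 hv))) (h _ _ _ _ _ _ (kv (m1 hu) (m2 hv)))

end Cfsg.Agent.OddHalf.NI3.Sol
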