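import Cfsg.Agent.OddHalf.NI3.Sol.SLTwo
import Cfsg.Agent.OddHalf.NI3.Sol.EndDefs
import Cfsg.Agent.OddHalf.NI.LemmaP
import Cfsg.Agent.LieClassical.SLTwoSylowTwo
import Cfsg.Agent.SignalizersComponents.SLQuasisimple

/-!
# Solomon's configuration: tools for the structure `B3`

* `B3.uniq`, `zc` : involutions; `B3.rel`; `B3.conj`;
* `Full F K c X z` : `B3`, `KFive`, `UU`, `SS` and `K` is a component of `C(c)`; `Full.conj`.
-/

set_option autoImplicit false
set_option linter.unusedSectionVars false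
set_option linter.unusedVariables false

namespace Cfsg.Agent.OddHalf.NI3.Sol

open Subgroup Matrix
open Cfsg.Agent.OddHalf.NI (CompIn)

/-! ### Roots -/

theorem IsR.mem {v : V} (h : IsR v) : v ∈ shortL ++ longL := List.mem_append.mpr h

theorem IsR.neg {v : V} (h : IsR v) : IsR (-v) := by
  have key : ∀ v ∈ shortL ++ longL, IsR (-v) := by decide
  exact key v h.mem

theorem IsL.isR {v : V} (h : IsL v) : IsR v := Or.inr h

theorem IsS.isR {v : V} (h : IsS v) : IsR v := Or.inl h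

theorem pr_neg {u v : V} (hu : IsR u) (hv : IsR v) : pr (-u) v = - pr u v := by
  have key : ∀ u ∈ shortL ++ longL, ∀ v ∈ shortL ++ longL, pr (-u) v = - pr u v := by decide
  exact key u hu.mem v hv.mem

theorem pr_self {v : V} (hv : IsR v) : pr v v = 2 := by
  have key : ∀ v ∈ shortL ++ longL, pr v v = 2 := by decide
  exact key v hv.mem

theorem refl_isR {u v : V} (hu : IsR u) (hv : IsR v) : IsR (refl v u) := by
  have key : ∀ u ∈ shortL ++ longL, ∀ v ∈ shortL ++ longL, IsR (refl v u) := by decide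
  exact key u hu.mem v hv.mem

theorem refl_neg (u v : V) : refl v (-u) = - refl v u := by
  unfold refl
  have h1 : pr (-u) v = - pr u v := by
    unfold pr dot
    split_ifs <;> simp <;> ring
  rw [h1]
  module

theorem refl_refl {u v : V} (hu : IsR u) (hv : IsR v) : refl v (refl v u) = u := by
  have key : ∀ u ∈ shortL ++ longL, ∀ v ∈ shortL ++ longL, refl v (refl v u) = u := by decide
  exact key u hu.mem v hv.mem

/-! ### Subnormal subgroups -/

section Sub

variable {G G' : Type*} [Group G] [Group G']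

/-- `J` is a subnormal subgroup of `C` -/
def Sb (J C : Subgroup G) : Prop := J ≤ C ∧ (J.subgroupOf C).IsSubnormal

theorem Sb.map (f : G →* G') {J C : Subgroup G} (h : Sb J C) : Sb (J.map f) (C.map f) := by
  refine ⟨map_mono h.1, ?_⟩
  have h1 := h.2.map (f := f.subgroupMap C) (f.subgroupMap_surjective C)
  convert h1 using 1
  ext x
  constructor
  · rintro ⟨y, hy, hyx⟩
    exact ⟨⟨y, h.1 hy⟩, hy, Subtype.ext hyx⟩
  · rintro ⟨y, hy, rfl⟩
    exact ⟨y, hy, rfl⟩

theorem Sb.cj {J C : Subgroup G} (h : Sb J C) (g : G) : Sb (cj g J) (cj g C) := h.map _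

theorem cj_centralizer_singleton (g t : G) :
    Sol.cj g (centralizer ({t} : Set G)) = centralizer ({g * t * g⁻¹} : Set G) := by
  ext x
  rw [mem_cj, mem_centralizer_singleton_iff, mem_centralizer_singleton_iff]
  constructor
  · intro h
    calc x * (g * t * g⁻¹) = g * (g⁻¹ * x * g * t) * g⁻¹ := by group
      _ = g * (t * (g⁻¹ * x * g)) * g⁻¹ := by rw [h]
      _ = g * t * g⁻¹ * x := by group
  · intro h
    calc g⁻¹ * x * g * t = g⁻¹ * (x * (g * t * g⁻¹)) * g := by group
      _ = g⁻¹ * (g * t * g⁻¹ * x) * g := by rw [h]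
      _ = t * (g⁻¹ * x * g) := by group

theorem CompIn.cj' {H K : Subgroup G} (h : CompIn H K) (g : G) : CompIn (Sol.cj g H) (Sol.cj g K) := h.conj g

end Sub

/-! ### Involutions of `SL₂(F)` -/

section SL

variable {G : Type*} [Group G] {F : Type*} [Field F] [Fintype F] {J : Subgroup G}

theorem sl_uniq (hodd : Odd (Fintype.card F)) (e : Nonempty (↥J ≃* SpecialLinearGroup (Fin 2) F)) {x y : G}
    (hx : x ∈ J) (hy : y ∈ J) (ox : orderOf x = 2) (oy : orderOf y = 2) : x = y := by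
  obtain ⟨f⟩ := e
  have h2 := SignalizersComponents.SLQuasisimple.two_ne_zero_of_odd hodd
  have key : ∀ w : G, ∀ hw : w ∈ J, orderOf w = 2 → f ⟨w, hw⟩ = -1 := by
    intro w hw how
    have h3 : orderOf (f ⟨w, hw⟩) = 2 := by
      rw [f.orderOf_eq, ← how, Subgroup.orderOf_mk]
    apply LieClassical.SLTwoSylowTwo.eq_neg_one_of_sq h2
    · intro h
      rw [h, orderOf_one] at h3
      omega
    · have h4 := pow_orderOf_eq_one (f ⟨w, hw⟩)
      rwa [h3] at h4
  have h1 : f ⟨x, hx⟩ = f ⟨y, hy⟩ := by rw [key x hx ox, key y hy oy]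
  exact congrArg Subtype.val (f.injective h1)

end SL

/-! ### `B3` -/

section B3

variable {G : Type*} [Group G] {F : Type} [Field F] [Fintype F] {K : Subgroup G} {c : G} {X : V → Subgroup G}
  {z : V → G}

theorem JJ_neg (v : V) : JJ X (-v) = JJ X v := by unfold JJ; rw [neg_neg, sup_comm]

theorem cj_JJ (g : G) (v : V) : cj g (JJ X v) = JJ (fun u => cj g (X u)) v := cj_sup _ _ _

namespace B3

theorem three_le (h : B3 F K c X z) : 3 ≤ Fintype.card F := by
  obtain ⟨k, hk⟩ := h.odd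
  have h1 : 1 < Fintype.card F := Fintype.one_lt_card
  omega

theorem natcard (h : B3 F K c X z) {v : V} (hv : IsR v) : Nat.card (X v) = Nat.card F := by
  rw [h.card v hv, Nat.card_eq_fintype_card]

theorem rel (h : B3 F K c X z) : Rel X := ⟨h.comm, h.ncomm, h.gen⟩

theorem le_JJ (v : V) : X v ≤ JJ X v := le_sup_left

theorem neg_le_JJ (v : V) : X (-v) ≤ JJ X v := le_sup_right

theorem JJ_le (h : B3 F K c X z) {v : V} (hv : IsR v) : JJ X v ≤ K := sup_le (h.le v hv) (h.le _ hv.neg)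

theorem z_mem_K (h : B3 F K c X z) {v : V} (hv : IsR v) : z v ∈ K := h.JJ_le hv (h.z_mem v hv)

theorem z_sq (h : B3 F K c X z) {v : V} (hv : IsR v) : z v * z v = 1 := by
  have := pow_orderOf_eq_one (z v)
  rwa [h.z_order v hv, pow_two] at this

theorem z_inv (h : B3 F K c X z) {v : V} (hv : IsR v) : (z v)⁻¹ = z v := inv_eq_of_mul_eq_one_left (h.z_sq hv)

theorem uniq (h : B3 F K c X z) {v : V} (hv : IsR v) {x : G} (hx : x ∈ JJ X v) (ho : orderOf x = 2) : x = z v :=
  sl_uniq h.odd (h.sl v hv) hx (h.z_mem v hv) ho (h.z_order v hv)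

/-- `z v` inverts `X u` if `⟨u, vᵛ⟩` is odd -/
theorem inverts (h : B3 F K c X z) {u v : V} (hu : IsR u) (hv : IsR v) (ho : Odd (pr u v)) :
    ∀ x ∈ X u, z v * x * (z v)⁻¹ = x⁻¹ := by
  intro x hx
  rw [h.z_inv hv]
  exact h.z_odd u v hu hv ho x hx

theorem exists_ne (h : B3 F K c X z) {v : V} (hv : IsR v) : ∃ x ∈ X v, x ≠ 1 := by
  by_contra hcon
  push Not at hcon
  have h1 : X v = ⊥ := (Subgroup.eq_bot_iff_forall _).2 hcon
  have h2 := h.card v hv
  rw [h1, Subgroup.card_bot] at h2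
  have := h.three_le
  omega

theorem ne_inv (h : B3 F K c X z) {v : V} (hv : IsR v) {x : G} (hx : x ∈ X v) (h1 : x ≠ 1) : x⁻¹ ≠ x := by
  intro h2
  apply h1
  have h6 : orderOf x ∣ 2 := orderOf_dvd_of_pow_eq_one (by
    rw [pow_two]; nth_rewrite 1 [← h2]; exact inv_mul_cancel x)
  have h7 : orderOf x ∣ Nat.card (X v) := Subgroup.orderOf_dvd_natCard _ hx
  rw [h.card v hv] at h7
  have h8 : Nat.Coprime 2 (Fintype.card F) := (Nat.coprime_two_left).2 h.odd
  exact orderOf_eq_one_iff.1 (Nat.dvd_one.1 (by rw [← h8]; exact Nat.dvd_gcd h6 h7))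

/-- an element cannot invert and centralise a root group -/
theorem not_cent_of_inv (h : B3 F K c X z) {v : V} (hv : IsR v) {t : G} (h1 : ∀ x ∈ X v, t * x * t⁻¹ = x⁻¹)
    (h2 : ∀ x ∈ X v, t * x = x * t) : False := by
  obtain ⟨x, hx, hx1⟩ := h.exists_ne hv
  apply h.ne_inv hv hx hx1
  rw [← h1 x hx, h2 x hx]; group

theorem X_ne (h : B3 F K c X z) {v : V} (hv : IsR v) : X v ≠ X (-v) := by
  intro h1
  have h2 : z v ∈ X v := by
    have := h.z_mem v hv
    unfold JJ at this
    rwa [← h1, sup_idem] at this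
  have h3 : orderOf (z v) ∣ Nat.card (X v) := Subgroup.orderOf_dvd_natCard _ h2
  rw [h.z_order v hv, h.card v hv] at h3
  have := h.odd
  rw [← Nat.not_even_iff_odd] at this
  exact this (even_iff_two_dvd.2 h3)

/-- `JJ X v` is not abelian -/
theorem JJ_not_comm (h : B3 F K c X z) {v : V} (hv : IsR v) : ¬ cm (JJ X v) (JJ X v) := by
  intro hc
  obtain ⟨j, hj, h1⟩ := exists_conj (h.sl v hv) (le_JJ v) (neg_le_JJ v) (h.natcard hv) (h.natcard hv.neg)
  apply h.X_ne hv
  rw [← h1]
  exact (cj_eq_of_comm fun x hx => hc j hj x (le_JJ v hx)).symm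

/-- conjugation -/
theorem conj (h : B3 F K c X z) (g : G) :
    B3 F (cj g K) (g * c * g⁻¹) (fun v => cj g (X v)) (fun v => g * z v * g⁻¹) where
  odd := h.odd
  sl v hv := by
    obtain ⟨e⟩ := h.sl v hv
    rw [← cj_JJ]
    exact ⟨((JJ X v).equivMapOfInjective _ (MulAut.conj g).injective).symm.trans e⟩
  card v hv := by rw [card_cj]; exact h.card v hv
  le v hv := cj_mono g (h.le v hv)
  span H hH := by
    have h1 : K ≤ cj g⁻¹ H := h.span _ fun v hv => by
      rw [← cj_inv_cj g (X v)]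
      exact cj_mono _ (hH v hv)
    rw [← cj_cj_inv g H]
    exact cj_mono _ h1
  comm u v hu hv h1 h2 := by
    intro a ha b hb
    rw [mem_cj] at ha hb
    have := h.comm u v hu hv h1 h2 _ ha _ hb
    calc a * b = g * ((g⁻¹ * a * g) * (g⁻¹ * b * g)) * g⁻¹ := by group
      _ = g * ((g⁻¹ * b * g) * (g⁻¹ * a * g)) * g⁻¹ := by rw [this]
      _ = b * a := by group
  ncomm u v hu hv h1 := by
    intro hc
    apply h.ncomm u v hu hv h1
    intro a ha b hb
    have := hc (g * a * g⁻¹) (conj_mem_cj.2 ha) (g * b * g⁻¹) (conj_mem_cj.2 hb)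
    calc a * b = g⁻¹ * ((g * a * g⁻¹) * (g * b * g⁻¹)) * g := by group
      _ = g⁻¹ * ((g * b * g⁻¹) * (g * a * g⁻¹)) * g := by rw [this]
      _ = b * a := by group
  gen u v hu hv h1 := by
    rw [← cj_sup]
    exact cj_mono g (h.gen u v hu hv h1)
  c_order := by
    rw [← h.c_order]
    exact (MulAut.conj g).orderOf_eq c
  c_comm x hx := by
    rw [mem_cj] at hx
    have := h.c_comm _ hx
    calc g * c * g⁻¹ * x = g * (c * (g⁻¹ * x * g)) * g⁻¹ := by group
      _ = g * ((g⁻¹ * x * g) * c) * g⁻¹ := by rw [this]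
      _ = x * (g * c * g⁻¹) := by group
  z_mem v hv := by
    rw [← cj_JJ, conj_mem_cj]
    exact h.z_mem v hv
  z_order v hv := by
    rw [← h.z_order v hv]
    exact (MulAut.conj g).orderOf_eq (z v)
  z_neg v hv := by rw [h.z_neg v hv]
  z_short v hv := by rw [h.z_short v hv]
  z_even u v hu hv h1 := by
    intro x hx
    rw [mem_cj] at hx
    have := h.z_even u v hu hv h1 _ hx
    calc g * z v * g⁻¹ * x = g * (z v * (g⁻¹ * x * g)) * g⁻¹ := by group
      _ = g * ((g⁻¹ * x * g) * z v) * g⁻¹ := by rw [this]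
      _ = x * (g * z v * g⁻¹) := by group
  z_odd u v hu hv h1 := by
    intro x hx
    rw [mem_cj] at hx
    have := h.z_odd u v hu hv h1 _ hx
    calc g * z v * g⁻¹ * x * (g * z v * g⁻¹) = g * (z v * (g⁻¹ * x * g) * z v) * g⁻¹ := by group
      _ = g * (g⁻¹ * x * g)⁻¹ * g⁻¹ := by rw [this]
      _ = x⁻¹ := by group
  z_orth u v hu hv h1 := by
    have := h.z_orth u v hu hv h1
    calc g * z u * g⁻¹ * (g * z v * g⁻¹) = g * (z u * z v) * g⁻¹ := by group
      _ = g * c * g⁻¹ := by rw [this]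
  z_add u v hu hv h1 := by
    have := h.z_add u v hu hv h1
    calc g * z u * g⁻¹ * (g * z v * g⁻¹) = g * (z u * z v) * g⁻¹ := by group
      _ = g * z (u + v) * g⁻¹ := by rw [this]
  weyl v hv := by
    obtain ⟨n, hn, h1⟩ := h.weyl v hv
    refine ⟨g * n * g⁻¹, by rw [← cj_JJ, conj_mem_cj]; exact hn, fun u hu => ?_⟩
    rw [← h1 u hu, ← cj_mul, ← cj_mul]
    congr 1; group
  tor v hv t ht h1 h2 u hu := by
    have ht' : g⁻¹ * t * g ∈ JJ X v := by rw [← mem_cj, cj_JJ]; exact ht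
    have key : ∀ A : Subgroup G, cj t (cj g A) = cj g A → cj (g⁻¹ * t * g) A = A := by
      intro A hA
      rw [cj_mul, cj_mul, hA, cj_inv_cj]
    have h3 := h.tor v hv _ ht' (key _ h1) (key _ h2) u hu
    calc cj t (cj g (X u)) = cj g (cj (g⁻¹ * t * g) (X u)) := by rw [← cj_mul, ← cj_mul]; congr 1; group
      _ = cj g (X u) := by rw [h3]

end B3

/-- `B3`, `KFive`, `UU`, `SS` and `K` is a component of `C(c)` -/
structure Full (F : Type) [Field F] [Fintype F] (K : Subgroup G) (c : G) (X : V → Subgroup G) (z : V → G) : Prop where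
  b3 : B3 F K c X z
  five : KFive K X z
  uu : UU F K X z
  ss : SS K X z
  comp : CompIn (centralizer ({c} : Set G)) K

theorem cj_inf_cent (g t : G) (K : Subgroup G) :
    cj g (K ⊓ centralizer ({t} : Set G)) = cj g K ⊓ centralizer ({g * t * g⁻¹} : Set G) := by
  rw [cj_inf, cj_centralizer_singleton]

theorem Full.conj (h : Full F K c X z) (g : G) :
    Full F (cj g K) (g * c * g⁻¹) (fun v => cj g (X v)) (fun v => g * z v * g⁻¹) where
  b3 := h.b3.conj g
  five := by
    intro f hf h1 h2 h3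
    have key : ∀ v, (∀ x ∈ JJ (fun v => cj g (X v)) v, f * x = x * f) →
        ∀ x ∈ JJ X v, (g⁻¹ * f * g) * x = x * (g⁻¹ * f * g) := by
      intro v h4 x hx
      have h5 := h4 (g * x * g⁻¹) (by rw [← cj_JJ, conj_mem_cj]; exact hx)
      calc (g⁻¹ * f * g) * x = g⁻¹ * (f * (g * x * g⁻¹)) * g := by group
        _ = g⁻¹ * (g * x * g⁻¹ * f) * g := by rw [h5]
        _ = x * (g⁻¹ * f * g) := by group
    have hf' : cj (g⁻¹ * f * g) K = K := by
      rw [cj_mul, cj_mul, hf, cj_inv_cj]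
    rcases h.five _ hf' (key _ h1) (key _ h2) (key _ h3) with h4 | h4
    · left
      intro x hx
      have h5 := h4 _ (mem_cj.1 hx)
      calc f * x = g * ((g⁻¹ * f * g) * (g⁻¹ * x * g)) * g⁻¹ := by group
        _ = g * ((g⁻¹ * x * g) * (g⁻¹ * f * g)) * g⁻¹ := by rw [h5]
        _ = x * f := by group
    · right
      intro x hx
      have h5 := h4 _ (mem_cj.1 hx)
      calc f * (g * z (1, 1, 0) * g⁻¹) * x = g * ((g⁻¹ * f * g) * z (1, 1, 0) * (g⁻¹ * x * g)) * g⁻¹ := by group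
        _ = g * ((g⁻¹ * x * g) * ((g⁻¹ * f * g) * z (1, 1, 0))) * g⁻¹ := by rw [h5]
        _ = x * (f * (g * z (1, 1, 0) * g⁻¹)) := by group
  uu := by
    intro v hv S hS hs hiso
    have h0 : Sb S (cj g K ⊓ centralizer ({g * z v * g⁻¹} : Set G)) := ⟨hS, hs⟩
    have h1 := h0.cj g⁻¹
    rw [← cj_inf_cent, cj_inv_cj] at h1
    obtain ⟨e⟩ := hiso
    obtain ⟨u, hu, h2, h3⟩ := h.uu v hv _ h1.1 h1.2
      ⟨(S.equivMapOfInjective _ (MulAut.conj g⁻¹).injective).symm.trans e⟩
    refine ⟨u, hu, h2, ?_⟩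
    rw [← cj_JJ, ← h3, cj_cj_inv]
  ss := by
    intro v hv u hu h1
    have h0 : Sb (JJ X u) (K ⊓ centralizer ({z v} : Set G)) := by
      refine ⟨le_inf (h.b3.JJ_le hu) ?_, h.ss v hv u hu h1⟩
      have key : ∀ v ∈ longL, ∀ u ∈ shortL ++ longL, (u = v ∨ dot u v = 0) → Even (pr u v) ∧ Even (pr (-u) v) := by
        decide
      have h2 := key v hv u hu.mem h1
      refine sup_le ?_ ?_
      · intro x hx
        rw [mem_centralizer_singleton_iff]
        exact (h.b3.z_even u v hu hv.isR h2.1 x hx).symm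
      · intro x hx
        rw [mem_centralizer_singleton_iff]
        exact (h.b3.z_even (-u) v hu.neg hv.isR h2.2 x hx).symm
    have h2 := h0.cj g
    rw [cj_inf_cent, cj_JJ] at h2
    exact h2.2
  comp := by
    have h1 := CompIn.cj' h.comp g
    rwa [cj_centralizer_singleton] at h1

end B3

end Cfsg.Agent.OddHalf.NI3.Sol
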