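import Cfsg.Agent.Nodes.NormalForm
import Cfsg.Agent.Nodes.FrameCent

/-!
# The centraliser of the involution of a long root (type `B₃`)

`mem_sup_of_comm` : in a root group datum with classical root groups, let `r₀ ∈ R` be such that the roots orthogonal to
`r₀` are `± r₁`, `± r₂` (`r₁ ∈ R`, `r₂ ∉ R`, `r₁ ⊥ r₂`) and `z s = z r₀` only for `s = ± r₀`. Then the centraliser of
`z r₀` is contained in `⟨X (± r₀), X (± r₁), X (± r₂), T⟩`.
-/

set_option autoImplicit false
set_option linter.unusedSectionVars false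
set_option linter.dupNamespace false

namespace Cfsg.Agent.OddHalf.NI3.Sol.CenZ

open CoxeterSystem Cfsg.Agent.ChevalleyStructure.CoxeterGeom Cfsg.Agent.Tits.Roots Cfsg.Agent.Tits.Core
  Cfsg.Agent.Tits.RootComb Cfsg.Agent.Nodes.Comb Cfsg.Agent.Nodes.Reps Cfsg.Agent.Nodes.BNOf
  Cfsg.Agent.Nodes.RGDLib Cfsg.Agent.Nodes.Chart Cfsg.Agent.Nodes.StabComb Cfsg.Agent.Nodes.Bruhat
  Cfsg.Agent.Nodes.ClsNorm Cfsg.Agent.Nodes.SubComb Cfsg.Agent.Nodes.Coroot Cfsg.Agent.Nodes.FreeTorus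
  Cfsg.Agent.Nodes.Perp
open Cfsg.Agent.Cit.TypeDet (cm cm_symm cm_iff_le_centralizer cm_mono)

variable {I W Y : Type*} [Fintype I] [DecidableEq I] [Group W] [Fintype W] [Group Y] {M : CoxeterMatrix I}
  {cs : CoxeterSystem M W} {A : I → I → ℤ} {h : IsCartan M A} {p : ℕ} {T : Subgroup Y} {n : I → Y}
  {X : (I → ℤ) → Subgroup Y} {R : Set (I → ℤ)} {Z : (I → ℤ) → Subgroup Y} {z : (I → ℤ) → Y}
  (C : Cls cs h p T n X R Z z)

include C

/-- an element of odd prime power order inverted and centralised by the same element -/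
theorem eq_one_of_sq {p : ℕ} (hp : p.Prime) (hodd : p ≠ 2) {P : Subgroup Y} (hP : IsPGroup p P) {a : Y} (ha : a ∈ P)
    (h2 : a * a = 1) : a = 1 := by
  obtain ⟨k, hk⟩ := hP ⟨a, ha⟩
  have hk' : a ^ p ^ k = 1 := congrArg Subtype.val hk
  obtain ⟨m, hm⟩ := ((hp.odd_of_ne_two hodd).pow : Odd (p ^ k))
  rw [hm, pow_succ, pow_mul, pow_two, h2, one_pow, one_mul] at hk'
  exact hk'

theorem z_comm_LL (zx : ∀ s ∈ R, Z s = X s) {r : I → ℤ} (hr : r ∈ R) {a : Y} (ha : a ∈ LL X r) :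
    z r * a = a * z r := by
  have h1 : LL X r ≤ Subgroup.centralizer {z r} := by
    unfold LL
    refine sup_le (fun b hb => ?_) (fun b hb => ?_)
    · rw [Subgroup.mem_centralizer_singleton_iff]
      rw [← zx r hr] at hb
      exact (C.z_cent r hr b hb).symm
    · rw [Subgroup.mem_centralizer_singleton_iff]
      rw [← zx (-r) (Cfsg.Agent.Nodes.ClsNorm.neg_mem C hr)] at hb
      have := C.z_cent (-r) (Cfsg.Agent.Nodes.ClsNorm.neg_mem C hr) b hb
      rw [C.z_neg r hr] at this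
      exact this.symm
  exact (Subgroup.mem_centralizer_singleton_iff.1 (h1 ha)).symm

/-- **The centraliser of the involution of a long root.** -/
theorem mem_sup_of_comm (hp : p.Prime) (hodd : p ≠ 2) {r₀ r₁ r₂ : I → ℤ} (h₀ : r₀ ∈ R)
    (h₁ : r₁ ∈ R) (h₂ : IsRoot cs h r₂) (h₂' : r₂ ∉ R) (h01 : form cs h r₁ r₀ = 0) (h02 : form cs h r₂ r₀ = 0)
    (h12 : form cs h r₂ r₁ = 0)
    (perp : ∀ y, IsRoot cs h y → form cs h y r₀ = 0 → y = r₁ ∨ y = -r₁ ∨ y = r₂ ∨ y = -r₂)
    (hz : ∀ s ∈ R, z s = z r₀ → s = r₀ ∨ s = -r₀) {g : Y} (hg : g ∈ GG cs h T X) (hc : z r₀ * g = g * z r₀) :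
    g ∈ LL X r₀ ⊔ LL X r₁ ⊔ LL X r₂ ⊔ T := by
  set P : Subgroup Y := LL X r₀ ⊔ LL X r₁ ⊔ LL X r₂ ⊔ T with hP
  have l0 : LL X r₀ ≤ P := le_sup_of_le_left (le_sup_of_le_left le_sup_left)
  have l1 : LL X r₁ ≤ P := le_sup_of_le_left (le_sup_of_le_left le_sup_right)
  have l2 : LL X r₂ ≤ P := le_sup_of_le_left le_sup_right
  have lT : T ≤ P := le_sup_right
  have hr0 := C.root r₀ h₀
  have hr1 := C.root r₁ h₁
  have hfix : ∀ x ∈ RGD.Pos cs h, X x ⊓ Subgroup.centralizer {z r₀} ≤ P := by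
    rintro x hx a ⟨ha, hac⟩
    have hac' : z r₀ * a = a * z r₀ := Subgroup.mem_centralizer_iff.1 hac _ rfl
    have hxr : IsRoot cs h x := hx.1
    by_cases e1 : x = r₀
    · subst e1; exact l0 (le_sup_left (a := X x) ha)
    by_cases e2 : x = -r₀
    · subst e2; exact l0 (le_sup_right (a := X r₀) ha)
    by_cases e3 : form cs h x r₀ = 0
    · rcases perp x hxr e3 with rfl | rfl | rfl | rfl
      · exact l1 (le_sup_left (a := X x) ha)
      · exact l1 (le_sup_right (a := X r₁) ha)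
      · exact l2 (le_sup_left (a := X x) ha)
      · exact l2 (le_sup_right (a := X r₂) ha)
    · have h3 := C.z_inv r₀ h₀ x hxr e1 e2 e3 a ha
      rw [hac', mul_assoc, C.z_sq r₀ h₀, mul_one] at h3
      have h4 : a = 1 := eq_one_of_sq C hp hodd (C.rgd.pgrp' hxr) ha (by nth_rw 2 [h3]; group)
      rw [h4]; exact one_mem _
  have hgc : g ∈ Subgroup.centralizer {z r₀} := Subgroup.mem_centralizer_iff.2 fun s hs => by
    rw [Set.mem_singleton_iff.1 hs]; exact hc
  obtain ⟨u, hu, w, k, hk, hkc, v, hv, rfl⟩ := Cfsg.Agent.Nodes.NormalForm.mem_centralizer C.rgd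
    (S := {z r₀}) (by rintro _ rfl; exact C.z_torus r₀ h₀) hg hgc
  have hu' : u ∈ P := (RGD.Sup_le hfix : _ ≤ P) hu
  have hv' : v ∈ P := (RGD.Sup_le hfix : _ ≤ P) hv
  refine mul_mem (mul_mem hu' ?_) hv'
  -- the Weyl group element
  have hw0 : rep cs h w r₀ = r₀ ∨ rep cs h w r₀ = -r₀ := by
    refine hz _ (C.act r₀ h₀ w) ?_
    rw [← Cfsg.Agent.Nodes.ClsNorm.conj_z C hk h₀]
    have := Subgroup.mem_centralizer_iff.1 hkc (z r₀) rfl
    rw [← this]; group
  -- adjust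
  have adj : ∀ (w : W) (k : Y), Rp cs C.rgd.nsys w k → ∀ {x : I → ℤ} (hx : IsRoot cs h x), LL X x ≤ P →
      (rep cs h w x = x ∨ rep cs h w x = -x) → ∃ w' k', Rp cs C.rgd.nsys w' k' ∧ (k' ∈ P → k ∈ P) ∧
        rep cs h w' x = x ∧ ∀ y, form cs h y x = 0 → rep cs h w y = y → rep cs h w' y = y := by
    intro w k hk x hx hxP hw
    rcases hw with hw | hw
    · exact ⟨w, k, hk, id, hw, fun y _ hy => hy⟩
    · obtain ⟨m, hm, v, hv, hvr⟩ := exists_refl C hx
      refine ⟨v * w, m * k, hv.mul hk, fun h1 => ?_, ?_, fun y hy hwy => ?_⟩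
      · have : k = m⁻¹ * (m * k) := by group
        rw [this]; exact mul_mem (inv_mem (hxP hm)) h1
      · rw [rep_mul_apply, hw, map_neg, hvr, cpr_self cs h hx, two_smul]; abel
      · rw [rep_mul_apply, hwy, hvr, (cpr_zero_iff cs h y hx).2 hy, zero_smul, sub_zero]
  obtain ⟨w1, k1, hk1, i1, f1, -⟩ := adj w k hk hr0 l0 hw0
  apply i1
  -- an element fixing `r₀`
  have horth : ∀ w, rep cs h w r₀ = r₀ → ∀ y, form cs h y r₀ = 0 → form cs h (rep cs h w y) r₀ = 0 := by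
    intro w hw y hy
    have := form_rep cs h w y r₀
    rw [hw, hy] at this
    exact this
  have hA : ∀ w, rep cs h w r₀ = r₀ → rep cs h w r₁ = r₁ ∨ rep cs h w r₁ = -r₁ := by
    intro w hw
    rcases perp _ (hr1.act w) (horth w hw r₁ h01) with e | e | e | e
    · exact Or.inl e
    · exact Or.inr e
    · exact absurd (e ▸ C.act r₁ h₁ w) h₂'
    · have h5 := Cfsg.Agent.Nodes.ClsNorm.neg_mem C (C.act r₁ h₁ w)
      rw [e, neg_neg] at h5
      exact absurd h5 h₂'
  have hB : ∀ w, rep cs h w r₀ = r₀ → rep cs h w r₂ = r₂ ∨ rep cs h w r₂ = -r₂ := by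
    intro w hw
    have back : ∀ s ∈ R, rep cs h w r₂ = s → False := by
      intro s hs e
      apply h₂'
      have : r₂ = rep cs h w⁻¹ s := by rw [← e, rep_inv_apply]
      rw [this]; exact C.act s hs _
    rcases perp _ (h₂.act w) (horth w hw r₂ h02) with e | e | e | e
    · exact absurd e (fun e => back _ h₁ e)
    · exact absurd e (fun e => back _ (Cfsg.Agent.Nodes.ClsNorm.neg_mem C h₁) e)
    · exact Or.inl e
    · exact Or.inr e
  obtain ⟨w2, k2, hk2, i2, f2, g2⟩ := adj w1 k1 hk1 hr1 l1 (hA w1 f1)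
  apply i2
  have f20 : rep cs h w2 r₀ = r₀ := g2 r₀ (by rw [form_comm]; exact h01) f1
  have hw2' := hB w2 f20
  obtain ⟨w3, k3, hk3, i3, f3, g3⟩ := adj w2 k2 hk2 h₂ l2 hw2'
  apply i3
  have f30 : rep cs h w3 r₀ = r₀ := g3 r₀ (by rw [form_comm]; exact h02) f20
  have f31 : rep cs h w3 r₁ = r₁ := g3 r₁ (by rw [form_comm]; exact h12) f2
  have hw3 : w3 = 1 := by
    refine Cfsg.Agent.Nodes.FrameCent.eq_one_of_fix (cs := cs) (h := h) (r := ![r₀, r₁, r₂]) (fun x hx => ?_) (fun k => ?_)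
    · by_cases e : form cs h x r₀ = 0
      · have hpos := form_pos cs h hx.ne_zero
        rcases perp x hx e with rfl | rfl | rfl | rfl
        · exact ⟨1, by simpa using hpos.ne'⟩
        · refine ⟨1, ?_⟩
          simp only [Matrix.cons_val_one, Matrix.cons_val_zero, form_neg_left]
          have := form_pos cs h hr1.ne_zero
          omega
        · exact ⟨2, by simpa using hpos.ne'⟩
        · refine ⟨2, ?_⟩
          simp only [Matrix.cons_val, form_neg_left]
          have := form_pos cs h h₂.ne_zero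
          omega
      · exact ⟨0, by simpa using e⟩
    · fin_cases k
      · exact f30
      · exact f31
      · exact f3
  subst hw3
  exact lT hk3.mem_of_one

end Cfsg.Agent.OddHalf.NI3.Sol.CenZ
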