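import Mathlib

/-!
# Solomon's configuration: the interface of the combinatorial end

Four charts of type `B₃`: three of them (`R1`, `R2`, `R3`) share the six root groups
`X (±2 e_i)`; coordinates of a root `y` are `(⟨y, a₁ᵛ⟩, ⟨y, a₂ᵛ⟩, ⟨y, a₃ᵛ⟩)`, `a_i = 2 e_i`.
The fourth one (`Rw`, in standard coordinates of `B₃`) is that of `K_w`.
-/

namespace Cfsg.Agent.OddHalf.NI3.Sol.Core

/-- Coordinates of roots. -/
abbrev V := ℤ × ℤ × ℤ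

/-- `A` and `B` commute elementwise. -/
def Cm {G : Type*} [Group G] (A B : Subgroup G) : Prop := ∀ a ∈ A, ∀ b ∈ B, a * b = b * a

/-- A family of root groups (only the commutation facts): (c1) `X y`, `X z` commute if `y + z` is
neither a root nor zero; they do not commute if `y + z` is a root, and then who centralises both
of them centralises `X (y + z)` (c2). -/
structure Chart {G : Type*} [Group G] (R : List V) (X : V → Subgroup G) : Prop where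
  comm : ∀ y ∈ R, ∀ z ∈ R, y + z ∉ R → y + z ≠ 0 → Cm (X y) (X z)
  ncomm : ∀ y ∈ R, ∀ z ∈ R, y + z ∈ R → ¬ Cm (X y) (X z)
  gen : ∀ y ∈ R, ∀ z ∈ R, y + z ∈ R →
    ∀ A : Subgroup G, Cm A (X y) → Cm A (X z) → Cm A (X (y + z))

/-- Roots of `K₁` (`J₁` short). -/
def R1 : List V :=
  [(2, 0, 0), (-2, 0, 0), (0, 2, 0), (0, -2, 0), (0, 0, 2), (0, 0, -2),
   (0, 1, 1), (0, 1, -1), (0, -1, 1), (0, -1, -1),
   (2, 1, 1), (2, 1, -1), (2, -1, 1), (2, -1, -1),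
   (-2, 1, 1), (-2, 1, -1), (-2, -1, 1), (-2, -1, -1)]

/-- Roots of `K₂` (`J₂` short). -/
def R2 : List V :=
  [(2, 0, 0), (-2, 0, 0), (0, 2, 0), (0, -2, 0), (0, 0, 2), (0, 0, -2),
   (1, 0, 1), (1, 0, -1), (-1, 0, 1), (-1, 0, -1),
   (1, 2, 1), (1, 2, -1), (-1, 2, 1), (-1, 2, -1),
   (1, -2, 1), (1, -2, -1), (-1, -2, 1), (-1, -2, -1)]

/-- Roots of `K₃` (`J₃` short). -/
def R3 : List V :=
  [(2, 0, 0), (-2, 0, 0), (0, 2, 0), (0, -2, 0), (0, 0, 2), (0, 0, -2),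
   (1, 1, 0), (1, -1, 0), (-1, 1, 0), (-1, -1, 0),
   (1, 1, 2), (1, -1, 2), (-1, 1, 2), (-1, -1, 2),
   (1, 1, -2), (1, -1, -2), (-1, 1, -2), (-1, -1, -2)]

/-- Roots of `K_w`, standard coordinates of `B₃`. -/
def Rw : List V :=
  [(1, 0, 0), (-1, 0, 0), (0, 1, 0), (0, -1, 0), (0, 0, 1), (0, 0, -1),
   (1, 1, 0), (1, -1, 0), (-1, 1, 0), (-1, -1, 0),
   (1, 0, 1), (1, 0, -1), (-1, 0, 1), (-1, 0, -1),
   (0, 1, 1), (0, 1, -1), (0, -1, 1), (0, -1, -1)]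

/-- All roots of `K₁`, `K₂`, `K₃`. -/
def RX : List V := R1 ++ R2 ++ R3

/-- The configuration: (G1), (G2), (G3) of the glue.  `t`, `s` are the sign patterns of
`b = L₁(t)`, `c = L₂(s)`; `a = L₃(+,+,+)`. -/
structure Conf (G : Type*) [Group G] (t1 t2 t3 s1 s2 s3 : ℤ) where
  /-- the root groups of `K₁`, `K₂`, `K₃` -/
  X : V → Subgroup G
  /-- the root groups of `K_w` -/
  Y : V → Subgroup G
  c1 : Chart R1 X
  c2 : Chart R2 X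
  c3 : Chart R3 X
  cw : Chart Rw Y
  n1 : ∃ n : G, ∀ v ∈ RX, ∀ g ∈ X v, n * g * n⁻¹ ∈ X (-v.1, v.2.1, v.2.2)
  n2 : ∃ n : G, ∀ v ∈ RX, ∀ g ∈ X v, n * g * n⁻¹ ∈ X (v.1, -v.2.1, v.2.2)
  n3 : ∃ n : G, ∀ v ∈ RX, ∀ g ∈ X v, n * g * n⁻¹ ∈ X (v.1, v.2.1, -v.2.2)
  a_pos : Y (1, 0, 0) = X (1, 1, 2)
  a_neg : Y (-1, 0, 0) = X (-1, -1, -2)
  b_pos : Y (0, 1, 0) = X (2 * t1, t2, t3)
  b_neg : Y (0, -1, 0) = X (-(2 * t1), -t2, -t3)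
  c_pos : Y (0, 0, 1) = X (s1, 2 * s2, s3)
  c_neg : Y (0, 0, -1) = X (-s1, -(2 * s2), -s3)
  ab : ∀ e f : ℤ, (e = 1 ∨ e = -1) → (f = 1 ∨ f = -1) →
    Y (e, f, 0) = X (s1, -(2 * s2), s3) ∨ Y (e, f, 0) = X (-s1, 2 * s2, -s3) ∨
    Y (e, f, 0) = X (s1, 0, -s3) ∨ Y (e, f, 0) = X (-s1, 0, s3)
  ac : ∀ e f : ℤ, (e = 1 ∨ e = -1) → (f = 1 ∨ f = -1) →
    Y (e, 0, f) = X (-(2 * t1), t2, t3) ∨ Y (e, 0, f) = X (2 * t1, -t2, -t3) ∨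
    Y (e, 0, f) = X (0, t2, -t3) ∨ Y (e, 0, f) = X (0, -t2, t3)
  bc : ∀ e f : ℤ, (e = 1 ∨ e = -1) → (f = 1 ∨ f = -1) →
    Y (0, e, f) = X (1, 1, -2) ∨ Y (0, e, f) = X (-1, -1, 2) ∨
    Y (0, e, f) = X (1, -1, 0) ∨ Y (0, e, f) = X (-1, 1, 0)

end Cfsg.Agent.OddHalf.NI3.Sol.Core
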