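import Mathlib

/-!
# Solomon's configuration, commutator kill (bb ODD #10774 helper712, #11977 helper262): the structures

* `V` : vectors in coordinates with respect to `e₁, e₂, e₃`; `IsS`, `IsL` : the 6 short and the 12 long roots of `B₃`;
* `pr u v = ⟨u, vᵛ⟩`, `refl v u` : the reflection;
* `B3 F K c X z` : `K` (`= Spin₇(F)`) is generated by the root groups `X v` (`|X v| = |F|`), `c` is its central
  involution (the involution of the short `JJ X v`), `z v` the involution of `JJ X v = ⟨X v, X (-v)⟩`;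
* `KFive`, `UU` : the two further facts (K5), (U).
Everything is stated inside an ambient group `G`.
-/

set_option autoImplicit false

namespace Cfsg.Agent.OddHalf.NI3.Sol

open Subgroup

/-- vectors `(v₁, v₂, v₃)` -/
abbrev V : Type := ℤ × ℤ × ℤ

def dot (u v : V) : ℤ := u.1 * v.1 + u.2.1 * v.2.1 + u.2.2 * v.2.2

/-- the short roots `± eᵢ` -/
def shortL : List V := [(1, 0, 0), (-1, 0, 0), (0, 1, 0), (0, -1, 0), (0, 0, 1), (0, 0, -1)]

/-- the long roots `± eᵢ ± eⱼ` -/
def longL : List V := [(1, 1, 0), (1, -1, 0), (-1, 1, 0), (-1, -1, 0), (1, 0, 1), (1, 0, -1), (-1, 0, 1), (-1, 0, -1),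
  (0, 1, 1), (0, 1, -1), (0, -1, 1), (0, -1, -1)]

def IsS (v : V) : Prop := v ∈ shortL

def IsL (v : V) : Prop := v ∈ longL

def IsR (v : V) : Prop := IsS v ∨ IsL v

instance (v : V) : Decidable (IsS v) := inferInstanceAs (Decidable (v ∈ shortL))

instance (v : V) : Decidable (IsL v) := inferInstanceAs (Decidable (v ∈ longL))

instance (v : V) : Decidable (IsR v) := inferInstanceAs (Decidable (_ ∨ _))

/-- `⟨u, vᵛ⟩` -/
def pr (u v : V) : ℤ := if dot v v = 1 then 2 * dot u v else dot u v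

/-- the reflection in `v`, applied to `u` -/
def refl (v u : V) : V := u - pr u v • v

variable {G : Type*} [Group G]

/-- the conjugate `g A g⁻¹` (definitionally `Nodes.Reps.cj`, `D3.ThreeDefs.cj`) -/
def cj (g : G) (A : Subgroup G) : Subgroup G := A.map (MulAut.conj g).toMonoidHom

/-- `A` and `B` commute -/
def cm (A B : Subgroup G) : Prop := ∀ a ∈ A, ∀ b ∈ B, a * b = b * a

/-- `⟨X v, X (-v)⟩` -/
def JJ (X : V → Subgroup G) (v : V) : Subgroup G := X v ⊔ X (-v)

/-- `K` is a group with a chart of type `B₃` over `F`, with central involution `c`. -/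
structure B3 (F : Type) [Field F] [Fintype F] (K : Subgroup G) (c : G) (X : V → Subgroup G) (z : V → G) : Prop where
  odd : Odd (Fintype.card F)
  sl : ∀ v, IsR v → Nonempty (↥(JJ X v) ≃* Matrix.SpecialLinearGroup (Fin 2) F)
  card : ∀ v, IsR v → Nat.card (X v) = Fintype.card F
  /-- `K` is generated by the root groups -/
  le : ∀ v, IsR v → X v ≤ K
  span : ∀ H : Subgroup G, (∀ v, IsR v → X v ≤ H) → K ≤ H
  /-- (c1) -/
  comm : ∀ u v, IsR u → IsR v → ¬ IsR (u + v) → u + v ≠ 0 → cm (X u) (X v)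
  /-- (c2) -/
  ncomm : ∀ u v, IsR u → IsR v → IsR (u + v) → ¬ cm (X u) (X v)
  gen : ∀ u v, IsR u → IsR v → IsR (u + v) → X (u + v) ≤ X u ⊔ X v
  /-- (z) -/
  c_order : orderOf c = 2
  c_comm : ∀ x ∈ K, c * x = x * c
  z_mem : ∀ v, IsR v → z v ∈ JJ X v
  z_order : ∀ v, IsR v → orderOf (z v) = 2
  z_neg : ∀ v, IsR v → z (-v) = z v
  z_short : ∀ v, IsS v → z v = c
  z_even : ∀ u v, IsR u → IsR v → Even (pr u v) → ∀ x ∈ X u, z v * x = x * z v
  z_odd : ∀ u v, IsR u → IsR v → Odd (pr u v) → ∀ x ∈ X u, z v * x * z v = x⁻¹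
  z_orth : ∀ u v, IsL u → IsL v → dot u v = 0 → z u * z v = c
  z_add : ∀ u v, IsL u → IsL v → IsL (u + v) → z u * z v = z (u + v)
  /-- (n) -/
  weyl : ∀ v, IsR v → ∃ n ∈ JJ X v, ∀ u, IsR u → cj n (X u) = X (refl v u)
  /-- the torus of `JJ X v` normalises all root groups -/
  tor : ∀ v, IsR v → ∀ t ∈ JJ X v, cj t (X v) = X v → cj t (X (-v)) = X (-v) → ∀ u, IsR u → cj t (X u) = X u

/-- (K5): an element normalising `K` and centralising `JJ X e₃`, `JJ X (e₁ ± e₂)` acts on `K` as `1` or `z (e₁ + e₂)`. -/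
def KFive (K : Subgroup G) (X : V → Subgroup G) (z : V → G) : Prop :=
  ∀ f : G, cj f K = K → (∀ x ∈ JJ X (0, 0, 1), f * x = x * f) → (∀ x ∈ JJ X (1, -1, 0), f * x = x * f) →
    (∀ x ∈ JJ X (1, 1, 0), f * x = x * f) →
    (∀ x ∈ K, f * x = x * f) ∨ (∀ x ∈ K, (f * z (1, 1, 0)) * x = x * (f * z (1, 1, 0)))

/-- (U): the subnormal `SL₂(F)`'s of `C_K(z v)`, `v` long, are the three `JJ X u`, `u = v` or `u` orthogonal to `v`. -/
def UU (F : Type) [Field F] (K : Subgroup G) (X : V → Subgroup G) (z : V → G) : Prop :=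
  ∀ v, IsL v → ∀ S : Subgroup G, S ≤ K ⊓ centralizer ({z v} : Set G) →
    (S.subgroupOf (K ⊓ centralizer ({z v} : Set G))).IsSubnormal →
    Nonempty (↥S ≃* Matrix.SpecialLinearGroup (Fin 2) F) →
    ∃ u, IsR u ∧ (u = v ∨ dot u v = 0) ∧ S = JJ X u

/-- (S): and these three are subnormal (even normal) in `C_K(z v)`. -/
def SS (K : Subgroup G) (X : V → Subgroup G) (z : V → G) : Prop :=
  ∀ v, IsL v → ∀ u, IsR u → (u = v ∨ dot u v = 0) →
    ((JJ X u).subgroupOf (K ⊓ centralizer ({z v} : Set G))).IsSubnormal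

end Cfsg.Agent.OddHalf.NI3.Sol
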