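import Cfsg.Agent.OddHalf.NI3.Sol.Conf

/-!
# Solomon's configuration: the combinatorial end

`Conf.false`: the four charts are contradictory, for each of the 64 sign patterns.  Each case is a
derivation of at most five commutation facts (found by computer).
-/

namespace Cfsg.Agent.OddHalf.NI3.Sol.Core

variable {G : Type*} [Group G]

theorem Cm.symm {A B : Subgroup G} (h : Cm A B) : Cm B A := fun b hb a ha => (h a ha b hb).symm

namespace Chart

variable {R : List V} {X : V → Subgroup G}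

theorem cm (c : Chart R X) {y z : V} {A B : Subgroup G} (hA : X y = A) (hB : X z = B)
    (hy : y ∈ R) (hz : z ∈ R) (h : y + z ∉ R) (h0 : y + z ≠ 0) : Cm A B :=
  hA ▸ hB ▸ c.comm y hy z hz h h0

theorem ncm (c : Chart R X) {y z : V} {A B : Subgroup G} (hA : X y = A) (hB : X z = B)
    (hy : y ∈ R) (hz : z ∈ R) (h : y + z ∈ R) : ¬ Cm A B :=
  hA ▸ hB ▸ c.ncomm y hy z hz h

theorem gn (c : Chart R X) {y z w : V} {A B D E : Subgroup G} (hA : X y = A) (hB : X z = B)
    (hD : X w = D) (hw : y + z = w) (hy : y ∈ R) (hz : z ∈ R) (hw' : w ∈ R)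
    (h1 : Cm E A) (h2 : Cm E B) : Cm E D := by
  subst hA hB hD hw
  exact c.gen y hy z hz hw' E h1 h2

end Chart

theorem nst1 {X : V → Subgroup G}
    (h : ∃ n : G, ∀ v ∈ RX, ∀ g ∈ X v, n * g * n⁻¹ ∈ X (-v.1, v.2.1, v.2.2)) {v w v' w' : V}
    (hv : v' ∈ RX) (hw : w' ∈ RX) (ev : (-v'.1, v'.2.1, v'.2.2) = v)
    (ew : (-w'.1, w'.2.1, w'.2.2) = w) (hc : Cm (X v) (X w)) : Cm (X v') (X w') := by
  obtain ⟨n, hn⟩ := h
  intro a ha b hb
  have h1 := hn v' hv a ha
  have h2 := hn w' hw b hb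
  rw [ev] at h1
  rw [ew] at h2
  have h3 := hc _ h1 _ h2
  have h4 : n * (a * b) * n⁻¹ = n * (b * a) * n⁻¹ := by
    calc n * (a * b) * n⁻¹ = n * a * n⁻¹ * (n * b * n⁻¹) := by group
      _ = n * b * n⁻¹ * (n * a * n⁻¹) := h3
      _ = n * (b * a) * n⁻¹ := by group
  exact mul_left_cancel (mul_right_cancel h4)

theorem nst2 {X : V → Subgroup G}
    (h : ∃ n : G, ∀ v ∈ RX, ∀ g ∈ X v, n * g * n⁻¹ ∈ X (v.1, -v.2.1, v.2.2)) {v w v' w' : V}
    (hv : v' ∈ RX) (hw : w' ∈ RX) (ev : (v'.1, -v'.2.1, v'.2.2) = v)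
    (ew : (w'.1, -w'.2.1, w'.2.2) = w) (hc : Cm (X v) (X w)) : Cm (X v') (X w') := by
  obtain ⟨n, hn⟩ := h
  intro a ha b hb
  have h1 := hn v' hv a ha
  have h2 := hn w' hw b hb
  rw [ev] at h1
  rw [ew] at h2
  have h3 := hc _ h1 _ h2
  have h4 : n * (a * b) * n⁻¹ = n * (b * a) * n⁻¹ := by
    calc n * (a * b) * n⁻¹ = n * a * n⁻¹ * (n * b * n⁻¹) := by group
      _ = n * b * n⁻¹ * (n * a * n⁻¹) := h3
      _ = n * (b * a) * n⁻¹ := by group
  exact mul_left_cancel (mul_right_cancel h4)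

theorem nst3 {X : V → Subgroup G}
    (h : ∃ n : G, ∀ v ∈ RX, ∀ g ∈ X v, n * g * n⁻¹ ∈ X (v.1, v.2.1, -v.2.2)) {v w v' w' : V}
    (hv : v' ∈ RX) (hw : w' ∈ RX) (ev : (v'.1, v'.2.1, -v'.2.2) = v)
    (ew : (w'.1, w'.2.1, -w'.2.2) = w) (hc : Cm (X v) (X w)) : Cm (X v') (X w') := by
  obtain ⟨n, hn⟩ := h
  intro a ha b hb
  have h1 := hn v' hv a ha
  have h2 := hn w' hw b hb
  rw [ev] at h1
  rw [ew] at h2
  have h3 := hc _ h1 _ h2
  have h4 : n * (a * b) * n⁻¹ = n * (b * a) * n⁻¹ := by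
    calc n * (a * b) * n⁻¹ = n * a * n⁻¹ * (n * b * n⁻¹) := by group
      _ = n * b * n⁻¹ * (n * a * n⁻¹) := h3
      _ = n * (b * a) * n⁻¹ := by group
  exact mul_left_cancel (mul_right_cancel h4)

namespace Conf

theorem pat0 (C : Conf G 1 1 1 1 1 1) : False := by
  have i0 : C.Y (0, -1, -1) = C.X (1, 1, -2) := by
    have k1 : Cm (C.X (0, 0, -2)) (C.X (-2, -1, -1)) := C.c1.cm rfl rfl (by decide) (by decide) (by decide)
      (by decide)
    have k2 : Cm (C.X (0, 0, -2)) (C.X (-1, -2, -1)) := C.c2.cm rfl rfl (by decide) (by decide) (by decide)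
      (by decide)
    have k3 : Cm (C.X (0, 0, -2)) (C.Y (0, -1, -1)) := C.cw.gn (y := (0, -1, 0)) (z := (0, 0, -1)) C.b_neg C.c_neg rfl
      (by decide) (by decide) (by decide) (by decide) k1 k2
    rcases C.bc (-1) (-1) (by decide) (by decide) with h | h | h | h
    · exact h
    · exact absurd (k3 : Cm (C.X (0, 0, -2)) (C.Y (0, -1, -1))) (C.c3.ncm rfl (h.symm : C.X (-1, -1, 2) = C.Y (0, -1, -1))
        (by decide) (by decide) (by decide))
    · exact absurd (k3 : Cm (C.X (0, 0, -2)) (C.Y (0, -1, -1))) (C.c3.ncm rfl (h.symm : C.X (1, -1, 0) = C.Y (0, -1, -1))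
        (by decide) (by decide) (by decide))
    · exact absurd (k3 : Cm (C.X (0, 0, -2)) (C.Y (0, -1, -1))) (C.c3.ncm rfl (h.symm : C.X (-1, 1, 0) = C.Y (0, -1, -1))
        (by decide) (by decide) (by decide))
  have i1 : C.Y (0, 1, 0) = C.X (2, 1, 1) := C.b_pos
  have i2 : C.Y (0, 0, -1) = C.X (-1, -2, -1) := C.c_neg
  have h0 : Cm (C.X (0, 2, 0)) (C.X (1, 1, -2)) := C.c3.cm (y := (0, 2, 0)) (z := (1, 1, -2)) rfl rfl (by decide) (by decide)
      (by decide) (by decide)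
  have h1 : Cm (C.X (2, 1, 1)) (C.X (0, 2, 0)) := C.c1.cm (y := (2, 1, 1)) (z := (0, 2, 0)) rfl rfl (by decide) (by decide)
      (by decide) (by decide)
  have h2 : Cm (C.X (0, 2, 0)) (C.X (-1, -2, -1)) := C.cw.gn (y := (0, -1, -1)) (z := (0, 1, 0)) (w := (0, 0, -1)) i0 i1 i2
      (by decide) (by decide) (by decide) (by decide) h0 h1.symm
  exact C.c2.ncm (y := (-1, -2, -1)) (z := (0, 2, 0)) rfl rfl (by decide) (by decide) (by decide) h2.symm

theorem pat1 (C : Conf G 1 1 1 1 1 (-1)) : False := by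
  have i0 : C.Y (-1, 0, -1) = C.X (-2, 1, 1) := by
    have k1 : Cm (C.X (-2, 0, 0)) (C.X (-1, -1, -2)) := C.c3.cm rfl rfl (by decide) (by decide) (by decide)
      (by decide)
    have k2 : Cm (C.X (-2, 0, 0)) (C.X (-1, -2, 1)) := C.c2.cm rfl rfl (by decide) (by decide) (by decide)
      (by decide)
    have k3 : Cm (C.X (-2, 0, 0)) (C.Y (-1, 0, -1)) := C.cw.gn (y := (-1, 0, 0)) (z := (0, 0, -1)) C.a_neg C.c_neg rfl
      (by decide) (by decide) (by decide) (by decide) k1 k2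
    rcases C.ac (-1) (-1) (by decide) (by decide) with h | h | h | h
    · exact h
    · exact absurd (k3 : Cm (C.X (-2, 0, 0)) (C.Y (-1, 0, -1))) (C.c1.ncm rfl (h.symm : C.X (2, -1, -1) = C.Y (-1, 0, -1))
        (by decide) (by decide) (by decide))
    · exact absurd (k3 : Cm (C.X (-2, 0, 0)) (C.Y (-1, 0, -1))) (C.c1.ncm rfl (h.symm : C.X (0, 1, -1) = C.Y (-1, 0, -1))
        (by decide) (by decide) (by decide))
    · exact absurd (k3 : Cm (C.X (-2, 0, 0)) (C.Y (-1, 0, -1))) (C.c1.ncm rfl (h.symm : C.X (0, -1, 1) = C.Y (-1, 0, -1))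
        (by decide) (by decide) (by decide))
  have i1 : C.Y (1, 1, 0) = C.X (-1, 2, 1) := by
    have k1 : Cm (C.X (0, 2, 0)) (C.X (1, 1, 2)) := C.c3.cm rfl rfl (by decide) (by decide) (by decide)
      (by decide)
    have k2 : Cm (C.X (0, 2, 0)) (C.X (2, 1, 1)) := C.c1.cm rfl rfl (by decide) (by decide) (by decide)
      (by decide)
    have k3 : Cm (C.X (0, 2, 0)) (C.Y (1, 1, 0)) := C.cw.gn (y := (1, 0, 0)) (z := (0, 1, 0)) C.a_pos C.b_pos rfl
      (by decide) (by decide) (by decide) (by decide) k1 k2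
    rcases C.ab 1 1 (by decide) (by decide) with h | h | h | h
    · exact absurd (k3 : Cm (C.X (0, 2, 0)) (C.Y (1, 1, 0))) (C.c2.ncm rfl (h.symm : C.X (1, -2, -1) = C.Y (1, 1, 0))
        (by decide) (by decide) (by decide))
    · exact h
    · exact absurd (k3 : Cm (C.X (0, 2, 0)) (C.Y (1, 1, 0))) (C.c2.ncm rfl (h.symm : C.X (1, 0, 1) = C.Y (1, 1, 0))
        (by decide) (by decide) (by decide))
    · exact absurd (k3 : Cm (C.X (0, 2, 0)) (C.Y (1, 1, 0))) (C.c2.ncm rfl (h.symm : C.X (-1, 0, -1) = C.Y (1, 1, 0))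
        (by decide) (by decide) (by decide))
  have i2 : C.Y (0, 1, -1) = C.X (-1, -1, 2) := by
    have k1 : Cm (C.X (0, 0, 2)) (C.X (2, 1, 1)) := C.c1.cm rfl rfl (by decide) (by decide) (by decide)
      (by decide)
    have k2 : Cm (C.X (0, 0, 2)) (C.X (-1, -2, 1)) := C.c2.cm rfl rfl (by decide) (by decide) (by decide)
      (by decide)
    have k3 : Cm (C.X (0, 0, 2)) (C.Y (0, 1, -1)) := C.cw.gn (y := (0, 1, 0)) (z := (0, 0, -1)) C.b_pos C.c_neg rfl
      (by decide) (by decide) (by decide) (by decide) k1 k2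
    rcases C.bc 1 (-1) (by decide) (by decide) with h | h | h | h
    · exact absurd (k3 : Cm (C.X (0, 0, 2)) (C.Y (0, 1, -1))) (C.c3.ncm rfl (h.symm : C.X (1, 1, -2) = C.Y (0, 1, -1))
        (by decide) (by decide) (by decide))
    · exact h
    · exact absurd (k3 : Cm (C.X (0, 0, 2)) (C.Y (0, 1, -1))) (C.c3.ncm rfl (h.symm : C.X (1, -1, 0) = C.Y (0, 1, -1))
        (by decide) (by decide) (by decide))
    · exact absurd (k3 : Cm (C.X (0, 0, 2)) (C.Y (0, 1, -1))) (C.c3.ncm rfl (h.symm : C.X (-1, 1, 0) = C.Y (0, 1, -1))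
        (by decide) (by decide) (by decide))
  have h0 : Cm (C.X (-2, 1, 1)) (C.X (0, 2, 0)) := C.c1.cm (y := (-2, 1, 1)) (z := (0, 2, 0)) rfl rfl (by decide) (by decide)
      (by decide) (by decide)
  have h1 : Cm (C.X (0, 2, 0)) (C.X (-1, 2, 1)) := C.c2.cm (y := (0, 2, 0)) (z := (-1, 2, 1)) rfl rfl (by decide) (by decide)
      (by decide) (by decide)
  have h2 : Cm (C.X (0, 2, 0)) (C.X (-1, -1, 2)) := C.cw.gn (y := (-1, 0, -1)) (z := (1, 1, 0)) (w := (0, 1, -1)) i0 i1 i2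
      (by decide) (by decide) (by decide) (by decide) h0.symm h1
  exact C.c3.ncm (y := (0, 2, 0)) (z := (-1, -1, 2)) rfl rfl (by decide) (by decide) (by decide) h2

theorem pat2 (C : Conf G 1 1 1 1 (-1) 1) : False := by
  have i0 : C.Y (0, -1, -1) = C.X (1, 1, -2) := by
    have k1 : Cm (C.X (0, 0, -2)) (C.X (-2, -1, -1)) := C.c1.cm rfl rfl (by decide) (by decide) (by decide)
      (by decide)
    have k2 : Cm (C.X (0, 0, -2)) (C.X (-1, 2, -1)) := C.c2.cm rfl rfl (by decide) (by decide) (by decide)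
      (by decide)
    have k3 : Cm (C.X (0, 0, -2)) (C.Y (0, -1, -1)) := C.cw.gn (y := (0, -1, 0)) (z := (0, 0, -1)) C.b_neg C.c_neg rfl
      (by decide) (by decide) (by decide) (by decide) k1 k2
    rcases C.bc (-1) (-1) (by decide) (by decide) with h | h | h | h
    · exact h
    · exact absurd (k3 : Cm (C.X (0, 0, -2)) (C.Y (0, -1, -1))) (C.c3.ncm rfl (h.symm : C.X (-1, -1, 2) = C.Y (0, -1, -1))
        (by decide) (by decide) (by decide))
    · exact absurd (k3 : Cm (C.X (0, 0, -2)) (C.Y (0, -1, -1))) (C.c3.ncm rfl (h.symm : C.X (1, -1, 0) = C.Y (0, -1, -1))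
        (by decide) (by decide) (by decide))
    · exact absurd (k3 : Cm (C.X (0, 0, -2)) (C.Y (0, -1, -1))) (C.c3.ncm rfl (h.symm : C.X (-1, 1, 0) = C.Y (0, -1, -1))
        (by decide) (by decide) (by decide))
  have i1 : C.Y (0, 1, 0) = C.X (2, 1, 1) := C.b_pos
  have i2 : C.Y (0, 0, -1) = C.X (-1, 2, -1) := C.c_neg
  have h0 : Cm (C.X (2, 0, 0)) (C.X (1, 1, -2)) := C.c3.cm (y := (2, 0, 0)) (z := (1, 1, -2)) rfl rfl (by decide) (by decide)
      (by decide) (by decide)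
  have h1 : Cm (C.X (2, 1, 1)) (C.X (2, 0, 0)) := C.c1.cm (y := (2, 1, 1)) (z := (2, 0, 0)) rfl rfl (by decide) (by decide)
      (by decide) (by decide)
  have h2 : Cm (C.X (2, 0, 0)) (C.X (-1, 2, -1)) := C.cw.gn (y := (0, -1, -1)) (z := (0, 1, 0)) (w := (0, 0, -1)) i0 i1 i2
      (by decide) (by decide) (by decide) (by decide) h0 h1.symm
  exact C.c2.ncm (y := (2, 0, 0)) (z := (-1, 2, -1)) rfl rfl (by decide) (by decide) (by decide) h2

theorem pat3 (C : Conf G 1 1 1 1 (-1) (-1)) : False := by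
  have i0 : C.Y (-1, 0, -1) = C.X (-2, 1, 1) := by
    have k1 : Cm (C.X (-2, 0, 0)) (C.X (-1, -1, -2)) := C.c3.cm rfl rfl (by decide) (by decide) (by decide)
      (by decide)
    have k2 : Cm (C.X (-2, 0, 0)) (C.X (-1, 2, 1)) := C.c2.cm rfl rfl (by decide) (by decide) (by decide)
      (by decide)
    have k3 : Cm (C.X (-2, 0, 0)) (C.Y (-1, 0, -1)) := C.cw.gn (y := (-1, 0, 0)) (z := (0, 0, -1)) C.a_neg C.c_neg rfl
      (by decide) (by decide) (by decide) (by decide) k1 k2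
    rcases C.ac (-1) (-1) (by decide) (by decide) with h | h | h | h
    · exact h
    · exact absurd (k3 : Cm (C.X (-2, 0, 0)) (C.Y (-1, 0, -1))) (C.c1.ncm rfl (h.symm : C.X (2, -1, -1) = C.Y (-1, 0, -1))
        (by decide) (by decide) (by decide))
    · exact absurd (k3 : Cm (C.X (-2, 0, 0)) (C.Y (-1, 0, -1))) (C.c1.ncm rfl (h.symm : C.X (0, 1, -1) = C.Y (-1, 0, -1))
        (by decide) (by decide) (by decide))
    · exact absurd (k3 : Cm (C.X (-2, 0, 0)) (C.Y (-1, 0, -1))) (C.c1.ncm rfl (h.symm : C.X (0, -1, 1) = C.Y (-1, 0, -1))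
        (by decide) (by decide) (by decide))
  have i1 : C.Y (1, 1, 0) = C.X (1, 2, -1) := by
    have k1 : Cm (C.X (0, 2, 0)) (C.X (1, 1, 2)) := C.c3.cm rfl rfl (by decide) (by decide) (by decide)
      (by decide)
    have k2 : Cm (C.X (0, 2, 0)) (C.X (2, 1, 1)) := C.c1.cm rfl rfl (by decide) (by decide) (by decide)
      (by decide)
    have k3 : Cm (C.X (0, 2, 0)) (C.Y (1, 1, 0)) := C.cw.gn (y := (1, 0, 0)) (z := (0, 1, 0)) C.a_pos C.b_pos rfl
      (by decide) (by decide) (by decide) (by decide) k1 k2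
    rcases C.ab 1 1 (by decide) (by decide) with h | h | h | h
    · exact h
    · exact absurd (k3 : Cm (C.X (0, 2, 0)) (C.Y (1, 1, 0))) (C.c2.ncm rfl (h.symm : C.X (-1, -2, 1) = C.Y (1, 1, 0))
        (by decide) (by decide) (by decide))
    · exact absurd (k3 : Cm (C.X (0, 2, 0)) (C.Y (1, 1, 0))) (C.c2.ncm rfl (h.symm : C.X (1, 0, 1) = C.Y (1, 1, 0))
        (by decide) (by decide) (by decide))
    · exact absurd (k3 : Cm (C.X (0, 2, 0)) (C.Y (1, 1, 0))) (C.c2.ncm rfl (h.symm : C.X (-1, 0, -1) = C.Y (1, 1, 0))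
        (by decide) (by decide) (by decide))
  have i2 : C.Y (0, 1, -1) = C.X (-1, -1, 2) := by
    have k1 : Cm (C.X (0, 0, 2)) (C.X (2, 1, 1)) := C.c1.cm rfl rfl (by decide) (by decide) (by decide)
      (by decide)
    have k2 : Cm (C.X (0, 0, 2)) (C.X (-1, 2, 1)) := C.c2.cm rfl rfl (by decide) (by decide) (by decide)
      (by decide)
    have k3 : Cm (C.X (0, 0, 2)) (C.Y (0, 1, -1)) := C.cw.gn (y := (0, 1, 0)) (z := (0, 0, -1)) C.b_pos C.c_neg rfl
      (by decide) (by decide) (by decide) (by decide) k1 k2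
    rcases C.bc 1 (-1) (by decide) (by decide) with h | h | h | h
    · exact absurd (k3 : Cm (C.X (0, 0, 2)) (C.Y (0, 1, -1))) (C.c3.ncm rfl (h.symm : C.X (1, 1, -2) = C.Y (0, 1, -1))
        (by decide) (by decide) (by decide))
    · exact h
    · exact absurd (k3 : Cm (C.X (0, 0, 2)) (C.Y (0, 1, -1))) (C.c3.ncm rfl (h.symm : C.X (1, -1, 0) = C.Y (0, 1, -1))
        (by decide) (by decide) (by decide))
    · exact absurd (k3 : Cm (C.X (0, 0, 2)) (C.Y (0, 1, -1))) (C.c3.ncm rfl (h.symm : C.X (-1, 1, 0) = C.Y (0, 1, -1))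
        (by decide) (by decide) (by decide))
  have h0 : Cm (C.X (-2, 1, 1)) (C.X (0, 2, 0)) := C.c1.cm (y := (-2, 1, 1)) (z := (0, 2, 0)) rfl rfl (by decide) (by decide)
      (by decide) (by decide)
  have h1 : Cm (C.X (0, 2, 0)) (C.X (1, 2, -1)) := C.c2.cm (y := (0, 2, 0)) (z := (1, 2, -1)) rfl rfl (by decide) (by decide)
      (by decide) (by decide)
  have h2 : Cm (C.X (0, 2, 0)) (C.X (-1, -1, 2)) := C.cw.gn (y := (-1, 0, -1)) (z := (1, 1, 0)) (w := (0, 1, -1)) i0 i1 i2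
      (by decide) (by decide) (by decide) (by decide) h0.symm h1
  exact C.c3.ncm (y := (0, 2, 0)) (z := (-1, -1, 2)) rfl rfl (by decide) (by decide) (by decide) h2

theorem pat4 (C : Conf G 1 1 1 (-1) 1 1) : False := by
  have i0 : C.Y (0, -1, -1) = C.X (1, 1, -2) := by
    have k1 : Cm (C.X (0, 0, -2)) (C.X (-2, -1, -1)) := C.c1.cm rfl rfl (by decide) (by decide) (by decide)
      (by decide)
    have k2 : Cm (C.X (0, 0, -2)) (C.X (1, -2, -1)) := C.c2.cm rfl rfl (by decide) (by decide) (by decide)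
      (by decide)
    have k3 : Cm (C.X (0, 0, -2)) (C.Y (0, -1, -1)) := C.cw.gn (y := (0, -1, 0)) (z := (0, 0, -1)) C.b_neg C.c_neg rfl
      (by decide) (by decide) (by decide) (by decide) k1 k2
    rcases C.bc (-1) (-1) (by decide) (by decide) with h | h | h | h
    · exact h
    · exact absurd (k3 : Cm (C.X (0, 0, -2)) (C.Y (0, -1, -1))) (C.c3.ncm rfl (h.symm : C.X (-1, -1, 2) = C.Y (0, -1, -1))
        (by decide) (by decide) (by decide))
    · exact absurd (k3 : Cm (C.X (0, 0, -2)) (C.Y (0, -1, -1))) (C.c3.ncm rfl (h.symm : C.X (1, -1, 0) = C.Y (0, -1, -1))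
        (by decide) (by decide) (by decide))
    · exact absurd (k3 : Cm (C.X (0, 0, -2)) (C.Y (0, -1, -1))) (C.c3.ncm rfl (h.symm : C.X (-1, 1, 0) = C.Y (0, -1, -1))
        (by decide) (by decide) (by decide))
  have i1 : C.Y (1, 1, 0) = C.X (1, 2, -1) := by
    have k1 : Cm (C.X (0, 2, 0)) (C.X (1, 1, 2)) := C.c3.cm rfl rfl (by decide) (by decide) (by decide)
      (by decide)
    have k2 : Cm (C.X (0, 2, 0)) (C.X (2, 1, 1)) := C.c1.cm rfl rfl (by decide) (by decide) (by decide)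
      (by decide)
    have k3 : Cm (C.X (0, 2, 0)) (C.Y (1, 1, 0)) := C.cw.gn (y := (1, 0, 0)) (z := (0, 1, 0)) C.a_pos C.b_pos rfl
      (by decide) (by decide) (by decide) (by decide) k1 k2
    rcases C.ab 1 1 (by decide) (by decide) with h | h | h | h
    · exact absurd (k3 : Cm (C.X (0, 2, 0)) (C.Y (1, 1, 0))) (C.c2.ncm rfl (h.symm : C.X (-1, -2, 1) = C.Y (1, 1, 0))
        (by decide) (by decide) (by decide))
    · exact h
    · exact absurd (k3 : Cm (C.X (0, 2, 0)) (C.Y (1, 1, 0))) (C.c2.ncm rfl (h.symm : C.X (-1, 0, -1) = C.Y (1, 1, 0))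
        (by decide) (by decide) (by decide))
    · exact absurd (k3 : Cm (C.X (0, 2, 0)) (C.Y (1, 1, 0))) (C.c2.ncm rfl (h.symm : C.X (1, 0, 1) = C.Y (1, 1, 0))
        (by decide) (by decide) (by decide))
  have i2 : C.Y (1, 0, -1) = C.X (2, -1, -1) := by
    have k1 : Cm (C.X (2, 0, 0)) (C.X (1, 1, 2)) := C.c3.cm rfl rfl (by decide) (by decide) (by decide)
      (by decide)
    have k2 : Cm (C.X (2, 0, 0)) (C.X (1, -2, -1)) := C.c2.cm rfl rfl (by decide) (by decide) (by decide)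
      (by decide)
    have k3 : Cm (C.X (2, 0, 0)) (C.Y (1, 0, -1)) := C.cw.gn (y := (1, 0, 0)) (z := (0, 0, -1)) C.a_pos C.c_neg rfl
      (by decide) (by decide) (by decide) (by decide) k1 k2
    rcases C.ac 1 (-1) (by decide) (by decide) with h | h | h | h
    · exact absurd (k3 : Cm (C.X (2, 0, 0)) (C.Y (1, 0, -1))) (C.c1.ncm rfl (h.symm : C.X (-2, 1, 1) = C.Y (1, 0, -1))
        (by decide) (by decide) (by decide))
    · exact h
    · exact absurd (k3 : Cm (C.X (2, 0, 0)) (C.Y (1, 0, -1))) (C.c1.ncm rfl (h.symm : C.X (0, 1, -1) = C.Y (1, 0, -1))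
        (by decide) (by decide) (by decide))
    · exact absurd (k3 : Cm (C.X (2, 0, 0)) (C.Y (1, 0, -1))) (C.c1.ncm rfl (h.symm : C.X (0, -1, 1) = C.Y (1, 0, -1))
        (by decide) (by decide) (by decide))
  have h0 : Cm (C.X (0, 2, 0)) (C.X (1, 1, -2)) := C.c3.cm (y := (0, 2, 0)) (z := (1, 1, -2)) rfl rfl (by decide) (by decide)
      (by decide) (by decide)
  have h1 : Cm (C.X (0, 2, 0)) (C.X (1, 2, -1)) := C.c2.cm (y := (0, 2, 0)) (z := (1, 2, -1)) rfl rfl (by decide) (by decide)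
      (by decide) (by decide)
  have h2 : Cm (C.X (0, 2, 0)) (C.X (2, -1, -1)) := C.cw.gn (y := (0, -1, -1)) (z := (1, 1, 0)) (w := (1, 0, -1)) i0 i1 i2
      (by decide) (by decide) (by decide) (by decide) h0 h1
  exact C.c1.ncm (y := (2, -1, -1)) (z := (0, 2, 0)) rfl rfl (by decide) (by decide) (by decide) h2.symm

theorem pat5 (C : Conf G 1 1 1 (-1) 1 (-1)) : False := by
  have i0 : C.Y (-1, 0, 1) = C.X (-2, 1, 1) := by
    have k1 : Cm (C.X (-2, 0, 0)) (C.X (-1, -1, -2)) := C.c3.cm rfl rfl (by decide) (by decide) (by decide)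
      (by decide)
    have k2 : Cm (C.X (-2, 0, 0)) (C.X (-1, 2, -1)) := C.c2.cm rfl rfl (by decide) (by decide) (by decide)
      (by decide)
    have k3 : Cm (C.X (-2, 0, 0)) (C.Y (-1, 0, 1)) := C.cw.gn (y := (-1, 0, 0)) (z := (0, 0, 1)) C.a_neg C.c_pos rfl
      (by decide) (by decide) (by decide) (by decide) k1 k2
    rcases C.ac (-1) 1 (by decide) (by decide) with h | h | h | h
    · exact h
    · exact absurd (k3 : Cm (C.X (-2, 0, 0)) (C.Y (-1, 0, 1))) (C.c1.ncm rfl (h.symm : C.X (2, -1, -1) = C.Y (-1, 0, 1))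
        (by decide) (by decide) (by decide))
    · exact absurd (k3 : Cm (C.X (-2, 0, 0)) (C.Y (-1, 0, 1))) (C.c1.ncm rfl (h.symm : C.X (0, 1, -1) = C.Y (-1, 0, 1))
        (by decide) (by decide) (by decide))
    · exact absurd (k3 : Cm (C.X (-2, 0, 0)) (C.Y (-1, 0, 1))) (C.c1.ncm rfl (h.symm : C.X (0, -1, 1) = C.Y (-1, 0, 1))
        (by decide) (by decide) (by decide))
  have i1 : C.Y (1, 0, 0) = C.X (1, 1, 2) := C.a_pos
  have i2 : C.Y (0, 0, 1) = C.X (-1, 2, -1) := C.c_pos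
  have h0 : Cm (C.X (-2, 1, 1)) (C.X (0, 0, 2)) := C.c1.cm (y := (-2, 1, 1)) (z := (0, 0, 2)) rfl rfl (by decide) (by decide)
      (by decide) (by decide)
  have h1 : Cm (C.X (1, 1, 2)) (C.X (0, 0, 2)) := C.c3.cm (y := (1, 1, 2)) (z := (0, 0, 2)) rfl rfl (by decide) (by decide)
      (by decide) (by decide)
  have h2 : Cm (C.X (0, 0, 2)) (C.X (-1, 2, -1)) := C.cw.gn (y := (-1, 0, 1)) (z := (1, 0, 0)) (w := (0, 0, 1)) i0 i1 i2
      (by decide) (by decide) (by decide) (by decide) h0.symm h1.symm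
  exact C.c2.ncm (y := (0, 0, 2)) (z := (-1, 2, -1)) rfl rfl (by decide) (by decide) (by decide) h2

theorem pat6 (C : Conf G 1 1 1 (-1) (-1) 1) : False := by
  have i0 : C.Y (0, -1, -1) = C.X (1, 1, -2) := by
    have k1 : Cm (C.X (0, 0, -2)) (C.X (-2, -1, -1)) := C.c1.cm rfl rfl (by decide) (by decide) (by decide)
      (by decide)
    have k2 : Cm (C.X (0, 0, -2)) (C.X (1, 2, -1)) := C.c2.cm rfl rfl (by decide) (by decide) (by decide)
      (by decide)
    have k3 : Cm (C.X (0, 0, -2)) (C.Y (0, -1, -1)) := C.cw.gn (y := (0, -1, 0)) (z := (0, 0, -1)) C.b_neg C.c_neg rfl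
      (by decide) (by decide) (by decide) (by decide) k1 k2
    rcases C.bc (-1) (-1) (by decide) (by decide) with h | h | h | h
    · exact h
    · exact absurd (k3 : Cm (C.X (0, 0, -2)) (C.Y (0, -1, -1))) (C.c3.ncm rfl (h.symm : C.X (-1, -1, 2) = C.Y (0, -1, -1))
        (by decide) (by decide) (by decide))
    · exact absurd (k3 : Cm (C.X (0, 0, -2)) (C.Y (0, -1, -1))) (C.c3.ncm rfl (h.symm : C.X (1, -1, 0) = C.Y (0, -1, -1))
        (by decide) (by decide) (by decide))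
    · exact absurd (k3 : Cm (C.X (0, 0, -2)) (C.Y (0, -1, -1))) (C.c3.ncm rfl (h.symm : C.X (-1, 1, 0) = C.Y (0, -1, -1))
        (by decide) (by decide) (by decide))
  have i1 : C.Y (1, 1, 0) = C.X (-1, 2, 1) := by
    have k1 : Cm (C.X (0, 2, 0)) (C.X (1, 1, 2)) := C.c3.cm rfl rfl (by decide) (by decide) (by decide)
      (by decide)
    have k2 : Cm (C.X (0, 2, 0)) (C.X (2, 1, 1)) := C.c1.cm rfl rfl (by decide) (by decide) (by decide)
      (by decide)
    have k3 : Cm (C.X (0, 2, 0)) (C.Y (1, 1, 0)) := C.cw.gn (y := (1, 0, 0)) (z := (0, 1, 0)) C.a_pos C.b_pos rfl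
      (by decide) (by decide) (by decide) (by decide) k1 k2
    rcases C.ab 1 1 (by decide) (by decide) with h | h | h | h
    · exact h
    · exact absurd (k3 : Cm (C.X (0, 2, 0)) (C.Y (1, 1, 0))) (C.c2.ncm rfl (h.symm : C.X (1, -2, -1) = C.Y (1, 1, 0))
        (by decide) (by decide) (by decide))
    · exact absurd (k3 : Cm (C.X (0, 2, 0)) (C.Y (1, 1, 0))) (C.c2.ncm rfl (h.symm : C.X (-1, 0, -1) = C.Y (1, 1, 0))
        (by decide) (by decide) (by decide))
    · exact absurd (k3 : Cm (C.X (0, 2, 0)) (C.Y (1, 1, 0))) (C.c2.ncm rfl (h.symm : C.X (1, 0, 1) = C.Y (1, 1, 0))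
        (by decide) (by decide) (by decide))
  have i2 : C.Y (1, 0, -1) = C.X (2, -1, -1) := by
    have k1 : Cm (C.X (2, 0, 0)) (C.X (1, 1, 2)) := C.c3.cm rfl rfl (by decide) (by decide) (by decide)
      (by decide)
    have k2 : Cm (C.X (2, 0, 0)) (C.X (1, 2, -1)) := C.c2.cm rfl rfl (by decide) (by decide) (by decide)
      (by decide)
    have k3 : Cm (C.X (2, 0, 0)) (C.Y (1, 0, -1)) := C.cw.gn (y := (1, 0, 0)) (z := (0, 0, -1)) C.a_pos C.c_neg rfl
      (by decide) (by decide) (by decide) (by decide) k1 k2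
    rcases C.ac 1 (-1) (by decide) (by decide) with h | h | h | h
    · exact absurd (k3 : Cm (C.X (2, 0, 0)) (C.Y (1, 0, -1))) (C.c1.ncm rfl (h.symm : C.X (-2, 1, 1) = C.Y (1, 0, -1))
        (by decide) (by decide) (by decide))
    · exact h
    · exact absurd (k3 : Cm (C.X (2, 0, 0)) (C.Y (1, 0, -1))) (C.c1.ncm rfl (h.symm : C.X (0, 1, -1) = C.Y (1, 0, -1))
        (by decide) (by decide) (by decide))
    · exact absurd (k3 : Cm (C.X (2, 0, 0)) (C.Y (1, 0, -1))) (C.c1.ncm rfl (h.symm : C.X (0, -1, 1) = C.Y (1, 0, -1))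
        (by decide) (by decide) (by decide))
  have h0 : Cm (C.X (0, 2, 0)) (C.X (1, 1, -2)) := C.c3.cm (y := (0, 2, 0)) (z := (1, 1, -2)) rfl rfl (by decide) (by decide)
      (by decide) (by decide)
  have h1 : Cm (C.X (0, 2, 0)) (C.X (-1, 2, 1)) := C.c2.cm (y := (0, 2, 0)) (z := (-1, 2, 1)) rfl rfl (by decide) (by decide)
      (by decide) (by decide)
  have h2 : Cm (C.X (0, 2, 0)) (C.X (2, -1, -1)) := C.cw.gn (y := (0, -1, -1)) (z := (1, 1, 0)) (w := (1, 0, -1)) i0 i1 i2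
      (by decide) (by decide) (by decide) (by decide) h0 h1
  exact C.c1.ncm (y := (2, -1, -1)) (z := (0, 2, 0)) rfl rfl (by decide) (by decide) (by decide) h2.symm

theorem pat7 (C : Conf G 1 1 1 (-1) (-1) (-1)) : False := by
  have i0 : C.Y (-1, 0, 1) = C.X (-2, 1, 1) := by
    have k1 : Cm (C.X (-2, 0, 0)) (C.X (-1, -1, -2)) := C.c3.cm rfl rfl (by decide) (by decide) (by decide)
      (by decide)
    have k2 : Cm (C.X (-2, 0, 0)) (C.X (-1, -2, -1)) := C.c2.cm rfl rfl (by decide) (by decide) (by decide)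
      (by decide)
    have k3 : Cm (C.X (-2, 0, 0)) (C.Y (-1, 0, 1)) := C.cw.gn (y := (-1, 0, 0)) (z := (0, 0, 1)) C.a_neg C.c_pos rfl
      (by decide) (by decide) (by decide) (by decide) k1 k2
    rcases C.ac (-1) 1 (by decide) (by decide) with h | h | h | h
    · exact h
    · exact absurd (k3 : Cm (C.X (-2, 0, 0)) (C.Y (-1, 0, 1))) (C.c1.ncm rfl (h.symm : C.X (2, -1, -1) = C.Y (-1, 0, 1))
        (by decide) (by decide) (by decide))
    · exact absurd (k3 : Cm (C.X (-2, 0, 0)) (C.Y (-1, 0, 1))) (C.c1.ncm rfl (h.symm : C.X (0, 1, -1) = C.Y (-1, 0, 1))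
        (by decide) (by decide) (by decide))
    · exact absurd (k3 : Cm (C.X (-2, 0, 0)) (C.Y (-1, 0, 1))) (C.c1.ncm rfl (h.symm : C.X (0, -1, 1) = C.Y (-1, 0, 1))
        (by decide) (by decide) (by decide))
  have i1 : C.Y (1, 0, 0) = C.X (1, 1, 2) := C.a_pos
  have i2 : C.Y (0, 0, 1) = C.X (-1, -2, -1) := C.c_pos
  have h0 : Cm (C.X (-2, 1, 1)) (C.X (0, 0, 2)) := C.c1.cm (y := (-2, 1, 1)) (z := (0, 0, 2)) rfl rfl (by decide) (by decide)
      (by decide) (by decide)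
  have h1 : Cm (C.X (1, 1, 2)) (C.X (0, 0, 2)) := C.c3.cm (y := (1, 1, 2)) (z := (0, 0, 2)) rfl rfl (by decide) (by decide)
      (by decide) (by decide)
  have h2 : Cm (C.X (0, 0, 2)) (C.X (-1, -2, -1)) := C.cw.gn (y := (-1, 0, 1)) (z := (1, 0, 0)) (w := (0, 0, 1)) i0 i1 i2
      (by decide) (by decide) (by decide) (by decide) h0.symm h1.symm
  exact C.c2.ncm (y := (0, 0, 2)) (z := (-1, -2, -1)) rfl rfl (by decide) (by decide) (by decide) h2

theorem pat8 (C : Conf G 1 1 (-1) 1 1 1) : False := by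
  have i0 : C.Y (-1, 0, -1) = C.X (-2, 1, -1) := by
    have k1 : Cm (C.X (-2, 0, 0)) (C.X (-1, -1, -2)) := C.c3.cm rfl rfl (by decide) (by decide) (by decide)
      (by decide)
    have k2 : Cm (C.X (-2, 0, 0)) (C.X (-1, -2, -1)) := C.c2.cm rfl rfl (by decide) (by decide) (by decide)
      (by decide)
    have k3 : Cm (C.X (-2, 0, 0)) (C.Y (-1, 0, -1)) := C.cw.gn (y := (-1, 0, 0)) (z := (0, 0, -1)) C.a_neg C.c_neg rfl
      (by decide) (by decide) (by decide) (by decide) k1 k2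
    rcases C.ac (-1) (-1) (by decide) (by decide) with h | h | h | h
    · exact h
    · exact absurd (k3 : Cm (C.X (-2, 0, 0)) (C.Y (-1, 0, -1))) (C.c1.ncm rfl (h.symm : C.X (2, -1, 1) = C.Y (-1, 0, -1))
        (by decide) (by decide) (by decide))
    · exact absurd (k3 : Cm (C.X (-2, 0, 0)) (C.Y (-1, 0, -1))) (C.c1.ncm rfl (h.symm : C.X (0, 1, 1) = C.Y (-1, 0, -1))
        (by decide) (by decide) (by decide))
    · exact absurd (k3 : Cm (C.X (-2, 0, 0)) (C.Y (-1, 0, -1))) (C.c1.ncm rfl (h.symm : C.X (0, -1, -1) = C.Y (-1, 0, -1))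
        (by decide) (by decide) (by decide))
  have i1 : C.Y (1, 1, 0) = C.X (-1, 2, -1) := by
    have k1 : Cm (C.X (0, 2, 0)) (C.X (1, 1, 2)) := C.c3.cm rfl rfl (by decide) (by decide) (by decide)
      (by decide)
    have k2 : Cm (C.X (0, 2, 0)) (C.X (2, 1, -1)) := C.c1.cm rfl rfl (by decide) (by decide) (by decide)
      (by decide)
    have k3 : Cm (C.X (0, 2, 0)) (C.Y (1, 1, 0)) := C.cw.gn (y := (1, 0, 0)) (z := (0, 1, 0)) C.a_pos C.b_pos rfl
      (by decide) (by decide) (by decide) (by decide) k1 k2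
    rcases C.ab 1 1 (by decide) (by decide) with h | h | h | h
    · exact absurd (k3 : Cm (C.X (0, 2, 0)) (C.Y (1, 1, 0))) (C.c2.ncm rfl (h.symm : C.X (1, -2, 1) = C.Y (1, 1, 0))
        (by decide) (by decide) (by decide))
    · exact h
    · exact absurd (k3 : Cm (C.X (0, 2, 0)) (C.Y (1, 1, 0))) (C.c2.ncm rfl (h.symm : C.X (1, 0, -1) = C.Y (1, 1, 0))
        (by decide) (by decide) (by decide))
    · exact absurd (k3 : Cm (C.X (0, 2, 0)) (C.Y (1, 1, 0))) (C.c2.ncm rfl (h.symm : C.X (-1, 0, 1) = C.Y (1, 1, 0))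
        (by decide) (by decide) (by decide))
  have i2 : C.Y (0, 1, -1) = C.X (1, 1, -2) := by
    have k1 : Cm (C.X (0, 0, -2)) (C.X (2, 1, -1)) := C.c1.cm rfl rfl (by decide) (by decide) (by decide)
      (by decide)
    have k2 : Cm (C.X (0, 0, -2)) (C.X (-1, -2, -1)) := C.c2.cm rfl rfl (by decide) (by decide) (by decide)
      (by decide)
    have k3 : Cm (C.X (0, 0, -2)) (C.Y (0, 1, -1)) := C.cw.gn (y := (0, 1, 0)) (z := (0, 0, -1)) C.b_pos C.c_neg rfl
      (by decide) (by decide) (by decide) (by decide) k1 k2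
    rcases C.bc 1 (-1) (by decide) (by decide) with h | h | h | h
    · exact h
    · exact absurd (k3 : Cm (C.X (0, 0, -2)) (C.Y (0, 1, -1))) (C.c3.ncm rfl (h.symm : C.X (-1, -1, 2) = C.Y (0, 1, -1))
        (by decide) (by decide) (by decide))
    · exact absurd (k3 : Cm (C.X (0, 0, -2)) (C.Y (0, 1, -1))) (C.c3.ncm rfl (h.symm : C.X (1, -1, 0) = C.Y (0, 1, -1))
        (by decide) (by decide) (by decide))
    · exact absurd (k3 : Cm (C.X (0, 0, -2)) (C.Y (0, 1, -1))) (C.c3.ncm rfl (h.symm : C.X (-1, 1, 0) = C.Y (0, 1, -1))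
        (by decide) (by decide) (by decide))
  have h0 : Cm (C.X (-2, 1, -1)) (C.X (-2, 0, 0)) := C.c1.cm (y := (-2, 1, -1)) (z := (-2, 0, 0)) rfl rfl (by decide) (by decide)
      (by decide) (by decide)
  have h1 : Cm (C.X (-1, 2, -1)) (C.X (-2, 0, 0)) := C.c2.cm (y := (-1, 2, -1)) (z := (-2, 0, 0)) rfl rfl (by decide) (by decide)
      (by decide) (by decide)
  have h2 : Cm (C.X (-2, 0, 0)) (C.X (1, 1, -2)) := C.cw.gn (y := (-1, 0, -1)) (z := (1, 1, 0)) (w := (0, 1, -1)) i0 i1 i2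
      (by decide) (by decide) (by decide) (by decide) h0.symm h1.symm
  exact C.c3.ncm (y := (1, 1, -2)) (z := (-2, 0, 0)) rfl rfl (by decide) (by decide) (by decide) h2.symm

theorem pat9 (C : Conf G 1 1 (-1) 1 1 (-1)) : False := by
  have i0 : C.Y (-1, 0, -1) = C.X (-2, 1, -1) := by
    have k1 : Cm (C.X (-2, 0, 0)) (C.X (-1, -1, -2)) := C.c3.cm rfl rfl (by decide) (by decide) (by decide)
      (by decide)
    have k2 : Cm (C.X (-2, 0, 0)) (C.X (-1, -2, 1)) := C.c2.cm rfl rfl (by decide) (by decide) (by decide)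
      (by decide)
    have k3 : Cm (C.X (-2, 0, 0)) (C.Y (-1, 0, -1)) := C.cw.gn (y := (-1, 0, 0)) (z := (0, 0, -1)) C.a_neg C.c_neg rfl
      (by decide) (by decide) (by decide) (by decide) k1 k2
    rcases C.ac (-1) (-1) (by decide) (by decide) with h | h | h | h
    · exact h
    · exact absurd (k3 : Cm (C.X (-2, 0, 0)) (C.Y (-1, 0, -1))) (C.c1.ncm rfl (h.symm : C.X (2, -1, 1) = C.Y (-1, 0, -1))
        (by decide) (by decide) (by decide))
    · exact absurd (k3 : Cm (C.X (-2, 0, 0)) (C.Y (-1, 0, -1))) (C.c1.ncm rfl (h.symm : C.X (0, 1, 1) = C.Y (-1, 0, -1))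
        (by decide) (by decide) (by decide))
    · exact absurd (k3 : Cm (C.X (-2, 0, 0)) (C.Y (-1, 0, -1))) (C.c1.ncm rfl (h.symm : C.X (0, -1, -1) = C.Y (-1, 0, -1))
        (by decide) (by decide) (by decide))
  have i1 : C.Y (1, 0, 0) = C.X (1, 1, 2) := C.a_pos
  have i2 : C.Y (0, 0, -1) = C.X (-1, -2, 1) := C.c_neg
  have h0 : Cm (C.X (-2, 1, -1)) (C.X (0, 2, 0)) := C.c1.cm (y := (-2, 1, -1)) (z := (0, 2, 0)) rfl rfl (by decide) (by decide)
      (by decide) (by decide)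
  have h1 : Cm (C.X (0, 2, 0)) (C.X (1, 1, 2)) := C.c3.cm (y := (0, 2, 0)) (z := (1, 1, 2)) rfl rfl (by decide) (by decide)
      (by decide) (by decide)
  have h2 : Cm (C.X (0, 2, 0)) (C.X (-1, -2, 1)) := C.cw.gn (y := (-1, 0, -1)) (z := (1, 0, 0)) (w := (0, 0, -1)) i0 i1 i2
      (by decide) (by decide) (by decide) (by decide) h0.symm h1
  exact C.c2.ncm (y := (-1, -2, 1)) (z := (0, 2, 0)) rfl rfl (by decide) (by decide) (by decide) h2.symm

theorem pat10 (C : Conf G 1 1 (-1) 1 (-1) 1) : False := by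
  have i0 : C.Y (1, 1, 0) = C.X (1, 2, 1) := by
    have k1 : Cm (C.X (0, 2, 0)) (C.X (1, 1, 2)) := C.c3.cm rfl rfl (by decide) (by decide) (by decide)
      (by decide)
    have k2 : Cm (C.X (0, 2, 0)) (C.X (2, 1, -1)) := C.c1.cm rfl rfl (by decide) (by decide) (by decide)
      (by decide)
    have k3 : Cm (C.X (0, 2, 0)) (C.Y (1, 1, 0)) := C.cw.gn (y := (1, 0, 0)) (z := (0, 1, 0)) C.a_pos C.b_pos rfl
      (by decide) (by decide) (by decide) (by decide) k1 k2
    rcases C.ab 1 1 (by decide) (by decide) with h | h | h | h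
    · exact h
    · exact absurd (k3 : Cm (C.X (0, 2, 0)) (C.Y (1, 1, 0))) (C.c2.ncm rfl (h.symm : C.X (-1, -2, -1) = C.Y (1, 1, 0))
        (by decide) (by decide) (by decide))
    · exact absurd (k3 : Cm (C.X (0, 2, 0)) (C.Y (1, 1, 0))) (C.c2.ncm rfl (h.symm : C.X (1, 0, -1) = C.Y (1, 1, 0))
        (by decide) (by decide) (by decide))
    · exact absurd (k3 : Cm (C.X (0, 2, 0)) (C.Y (1, 1, 0))) (C.c2.ncm rfl (h.symm : C.X (-1, 0, 1) = C.Y (1, 1, 0))
        (by decide) (by decide) (by decide))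
  have i1 : C.Y (0, 1, 0) = C.X (2, 1, -1) := C.b_pos
  have i2 : C.Y (-1, 0, -1) = C.X (-2, 1, -1) := by
    have k1 : Cm (C.X (-2, 0, 0)) (C.X (-1, -1, -2)) := C.c3.cm rfl rfl (by decide) (by decide) (by decide)
      (by decide)
    have k2 : Cm (C.X (-2, 0, 0)) (C.X (-1, 2, -1)) := C.c2.cm rfl rfl (by decide) (by decide) (by decide)
      (by decide)
    have k3 : Cm (C.X (-2, 0, 0)) (C.Y (-1, 0, -1)) := C.cw.gn (y := (-1, 0, 0)) (z := (0, 0, -1)) C.a_neg C.c_neg rfl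
      (by decide) (by decide) (by decide) (by decide) k1 k2
    rcases C.ac (-1) (-1) (by decide) (by decide) with h | h | h | h
    · exact h
    · exact absurd (k3 : Cm (C.X (-2, 0, 0)) (C.Y (-1, 0, -1))) (C.c1.ncm rfl (h.symm : C.X (2, -1, 1) = C.Y (-1, 0, -1))
        (by decide) (by decide) (by decide))
    · exact absurd (k3 : Cm (C.X (-2, 0, 0)) (C.Y (-1, 0, -1))) (C.c1.ncm rfl (h.symm : C.X (0, 1, 1) = C.Y (-1, 0, -1))
        (by decide) (by decide) (by decide))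
    · exact absurd (k3 : Cm (C.X (-2, 0, 0)) (C.Y (-1, 0, -1))) (C.c1.ncm rfl (h.symm : C.X (0, -1, -1) = C.Y (-1, 0, -1))
        (by decide) (by decide) (by decide))
  have i3 : C.Y (0, 1, -1) = C.X (1, 1, -2) := by
    have k1 : Cm (C.X (0, 0, -2)) (C.X (2, 1, -1)) := C.c1.cm rfl rfl (by decide) (by decide) (by decide)
      (by decide)
    have k2 : Cm (C.X (0, 0, -2)) (C.X (-1, 2, -1)) := C.c2.cm rfl rfl (by decide) (by decide) (by decide)
      (by decide)
    have k3 : Cm (C.X (0, 0, -2)) (C.Y (0, 1, -1)) := C.cw.gn (y := (0, 1, 0)) (z := (0, 0, -1)) C.b_pos C.c_neg rfl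
      (by decide) (by decide) (by decide) (by decide) k1 k2
    rcases C.bc 1 (-1) (by decide) (by decide) with h | h | h | h
    · exact h
    · exact absurd (k3 : Cm (C.X (0, 0, -2)) (C.Y (0, 1, -1))) (C.c3.ncm rfl (h.symm : C.X (-1, -1, 2) = C.Y (0, 1, -1))
        (by decide) (by decide) (by decide))
    · exact absurd (k3 : Cm (C.X (0, 0, -2)) (C.Y (0, 1, -1))) (C.c3.ncm rfl (h.symm : C.X (1, -1, 0) = C.Y (0, 1, -1))
        (by decide) (by decide) (by decide))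
    · exact absurd (k3 : Cm (C.X (0, 0, -2)) (C.Y (0, 1, -1))) (C.c3.ncm rfl (h.symm : C.X (-1, 1, 0) = C.Y (0, 1, -1))
        (by decide) (by decide) (by decide))
  have i4 : C.Y (0, 0, -1) = C.X (-1, 2, -1) := C.c_neg
  have i5 : C.Y (1, 0, 0) = C.X (1, 1, 2) := C.a_pos
  have h0 : Cm (C.X (1, 2, 1)) (C.X (2, 1, -1)) := C.cw.cm (y := (1, 1, 0)) (z := (0, 1, 0)) i0 i1 (by decide) (by decide)
      (by decide) (by decide)
  have h1 : Cm (C.X (-1, 2, 1)) (C.X (-2, 1, -1)) := nst1 C.n1 (v := (1, 2, 1)) (w := (2, 1, -1)) (by decide) (by decide)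
      (by decide) (by decide) h0
  have h2 : Cm (C.X (1, 2, 1)) (C.X (-1, 2, 1)) := C.c2.cm (y := (1, 2, 1)) (z := (-1, 2, 1)) rfl rfl (by decide) (by decide)
      (by decide) (by decide)
  have h3 : Cm (C.X (-1, 2, 1)) (C.X (1, 1, -2)) := C.cw.gn (y := (-1, 0, -1)) (z := (1, 1, 0)) (w := (0, 1, -1)) i2 i0 i3
      (by decide) (by decide) (by decide) (by decide) h1 h2.symm
  have h4 : Cm (C.X (-1, 2, -1)) (C.X (1, 1, 2)) := nst3 C.n3 (v := (-1, 2, 1)) (w := (1, 1, -2)) (by decide) (by decide)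
      (by decide) (by decide) h3
  exact C.cw.ncm (y := (0, 0, -1)) (z := (1, 0, 0)) i4 i5 (by decide) (by decide) (by decide) h4

theorem pat11 (C : Conf G 1 1 (-1) 1 (-1) (-1)) : False := by
  have i0 : C.Y (0, -1, -1) = C.X (-1, -1, 2) := by
    have k1 : Cm (C.X (0, 0, 2)) (C.X (-2, -1, 1)) := C.c1.cm rfl rfl (by decide) (by decide) (by decide)
      (by decide)
    have k2 : Cm (C.X (0, 0, 2)) (C.X (-1, 2, 1)) := C.c2.cm rfl rfl (by decide) (by decide) (by decide)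
      (by decide)
    have k3 : Cm (C.X (0, 0, 2)) (C.Y (0, -1, -1)) := C.cw.gn (y := (0, -1, 0)) (z := (0, 0, -1)) C.b_neg C.c_neg rfl
      (by decide) (by decide) (by decide) (by decide) k1 k2
    rcases C.bc (-1) (-1) (by decide) (by decide) with h | h | h | h
    · exact absurd (k3 : Cm (C.X (0, 0, 2)) (C.Y (0, -1, -1))) (C.c3.ncm rfl (h.symm : C.X (1, 1, -2) = C.Y (0, -1, -1))
        (by decide) (by decide) (by decide))
    · exact h
    · exact absurd (k3 : Cm (C.X (0, 0, 2)) (C.Y (0, -1, -1))) (C.c3.ncm rfl (h.symm : C.X (1, -1, 0) = C.Y (0, -1, -1))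
        (by decide) (by decide) (by decide))
    · exact absurd (k3 : Cm (C.X (0, 0, 2)) (C.Y (0, -1, -1))) (C.c3.ncm rfl (h.symm : C.X (-1, 1, 0) = C.Y (0, -1, -1))
        (by decide) (by decide) (by decide))
  have i1 : C.Y (-1, 0, -1) = C.X (-2, 1, -1) := by
    have k1 : Cm (C.X (-2, 0, 0)) (C.X (-1, -1, -2)) := C.c3.cm rfl rfl (by decide) (by decide) (by decide)
      (by decide)
    have k2 : Cm (C.X (-2, 0, 0)) (C.X (-1, 2, 1)) := C.c2.cm rfl rfl (by decide) (by decide) (by decide)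
      (by decide)
    have k3 : Cm (C.X (-2, 0, 0)) (C.Y (-1, 0, -1)) := C.cw.gn (y := (-1, 0, 0)) (z := (0, 0, -1)) C.a_neg C.c_neg rfl
      (by decide) (by decide) (by decide) (by decide) k1 k2
    rcases C.ac (-1) (-1) (by decide) (by decide) with h | h | h | h
    · exact h
    · exact absurd (k3 : Cm (C.X (-2, 0, 0)) (C.Y (-1, 0, -1))) (C.c1.ncm rfl (h.symm : C.X (2, -1, 1) = C.Y (-1, 0, -1))
        (by decide) (by decide) (by decide))
    · exact absurd (k3 : Cm (C.X (-2, 0, 0)) (C.Y (-1, 0, -1))) (C.c1.ncm rfl (h.symm : C.X (0, 1, 1) = C.Y (-1, 0, -1))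
        (by decide) (by decide) (by decide))
    · exact absurd (k3 : Cm (C.X (-2, 0, 0)) (C.Y (-1, 0, -1))) (C.c1.ncm rfl (h.symm : C.X (0, -1, -1) = C.Y (-1, 0, -1))
        (by decide) (by decide) (by decide))
  have i2 : C.Y (-1, 0, 0) = C.X (-1, -1, -2) := C.a_neg
  have i3 : C.Y (0, -1, 0) = C.X (-2, -1, 1) := C.b_neg
  have h0 : Cm (C.X (-1, -1, 2)) (C.X (-2, 1, -1)) := C.cw.cm (y := (0, -1, -1)) (z := (-1, 0, -1)) i0 i1 (by decide) (by decide)
      (by decide) (by decide)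
  have h1 : Cm (C.X (-1, -1, -2)) (C.X (-2, 1, 1)) := nst3 C.n3 (v := (-1, -1, 2)) (w := (-2, 1, -1)) (by decide) (by decide)
      (by decide) (by decide) h0
  have h2 : Cm (C.X (-1, -1, -2)) (C.X (0, -2, 0)) := C.c3.cm (y := (-1, -1, -2)) (z := (0, -2, 0)) rfl rfl (by decide) (by decide)
      (by decide) (by decide)
  have h3 : Cm (C.X (-1, -1, -2)) (C.X (-2, -1, 1)) := C.c1.gn (y := (-2, 1, 1)) (z := (0, -2, 0)) (w := (-2, -1, 1)) rfl rfl rfl
      (by decide) (by decide) (by decide) (by decide) h1 h2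
  exact C.cw.ncm (y := (-1, 0, 0)) (z := (0, -1, 0)) i2 i3 (by decide) (by decide) (by decide) h3

theorem pat12 (C : Conf G 1 1 (-1) (-1) 1 1) : False := by
  have i0 : C.Y (-1, 0, 1) = C.X (-2, 1, -1) := by
    have k1 : Cm (C.X (-2, 0, 0)) (C.X (-1, -1, -2)) := C.c3.cm rfl rfl (by decide) (by decide) (by decide)
      (by decide)
    have k2 : Cm (C.X (-2, 0, 0)) (C.X (-1, 2, 1)) := C.c2.cm rfl rfl (by decide) (by decide) (by decide)
      (by decide)
    have k3 : Cm (C.X (-2, 0, 0)) (C.Y (-1, 0, 1)) := C.cw.gn (y := (-1, 0, 0)) (z := (0, 0, 1)) C.a_neg C.c_pos rfl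
      (by decide) (by decide) (by decide) (by decide) k1 k2
    rcases C.ac (-1) 1 (by decide) (by decide) with h | h | h | h
    · exact h
    · exact absurd (k3 : Cm (C.X (-2, 0, 0)) (C.Y (-1, 0, 1))) (C.c1.ncm rfl (h.symm : C.X (2, -1, 1) = C.Y (-1, 0, 1))
        (by decide) (by decide) (by decide))
    · exact absurd (k3 : Cm (C.X (-2, 0, 0)) (C.Y (-1, 0, 1))) (C.c1.ncm rfl (h.symm : C.X (0, 1, 1) = C.Y (-1, 0, 1))
        (by decide) (by decide) (by decide))
    · exact absurd (k3 : Cm (C.X (-2, 0, 0)) (C.Y (-1, 0, 1))) (C.c1.ncm rfl (h.symm : C.X (0, -1, -1) = C.Y (-1, 0, 1))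
        (by decide) (by decide) (by decide))
  have i1 : C.Y (0, -1, 1) = C.X (-1, -1, 2) := by
    have k1 : Cm (C.X (0, 0, 2)) (C.X (-2, -1, 1)) := C.c1.cm rfl rfl (by decide) (by decide) (by decide)
      (by decide)
    have k2 : Cm (C.X (0, 0, 2)) (C.X (-1, 2, 1)) := C.c2.cm rfl rfl (by decide) (by decide) (by decide)
      (by decide)
    have k3 : Cm (C.X (0, 0, 2)) (C.Y (0, -1, 1)) := C.cw.gn (y := (0, -1, 0)) (z := (0, 0, 1)) C.b_neg C.c_pos rfl
      (by decide) (by decide) (by decide) (by decide) k1 k2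
    rcases C.bc (-1) 1 (by decide) (by decide) with h | h | h | h
    · exact absurd (k3 : Cm (C.X (0, 0, 2)) (C.Y (0, -1, 1))) (C.c3.ncm rfl (h.symm : C.X (1, 1, -2) = C.Y (0, -1, 1))
        (by decide) (by decide) (by decide))
    · exact h
    · exact absurd (k3 : Cm (C.X (0, 0, 2)) (C.Y (0, -1, 1))) (C.c3.ncm rfl (h.symm : C.X (1, -1, 0) = C.Y (0, -1, 1))
        (by decide) (by decide) (by decide))
    · exact absurd (k3 : Cm (C.X (0, 0, 2)) (C.Y (0, -1, 1))) (C.c3.ncm rfl (h.symm : C.X (-1, 1, 0) = C.Y (0, -1, 1))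
        (by decide) (by decide) (by decide))
  have i2 : C.Y (-1, 0, 0) = C.X (-1, -1, -2) := C.a_neg
  have i3 : C.Y (0, -1, 0) = C.X (-2, -1, 1) := C.b_neg
  have h0 : Cm (C.X (-2, 1, -1)) (C.X (-1, -1, 2)) := C.cw.cm (y := (-1, 0, 1)) (z := (0, -1, 1)) i0 i1 (by decide) (by decide)
      (by decide) (by decide)
  have h1 : Cm (C.X (-2, 1, 1)) (C.X (-1, -1, -2)) := nst3 C.n3 (v := (-2, 1, -1)) (w := (-1, -1, 2)) (by decide) (by decide)
      (by decide) (by decide) h0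
  have h2 : Cm (C.X (-1, -1, -2)) (C.X (0, -2, 0)) := C.c3.cm (y := (-1, -1, -2)) (z := (0, -2, 0)) rfl rfl (by decide) (by decide)
      (by decide) (by decide)
  have h3 : Cm (C.X (-1, -1, -2)) (C.X (-2, -1, 1)) := C.c1.gn (y := (-2, 1, 1)) (z := (0, -2, 0)) (w := (-2, -1, 1)) rfl rfl rfl
      (by decide) (by decide) (by decide) (by decide) h1.symm h2
  exact C.cw.ncm (y := (-1, 0, 0)) (z := (0, -1, 0)) i2 i3 (by decide) (by decide) (by decide) h3

theorem pat13 (C : Conf G 1 1 (-1) (-1) 1 (-1)) : False := by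
  have i0 : C.Y (0, -1, -1) = C.X (-1, -1, 2) := by
    have k1 : Cm (C.X (0, 0, 2)) (C.X (-2, -1, 1)) := C.c1.cm rfl rfl (by decide) (by decide) (by decide)
      (by decide)
    have k2 : Cm (C.X (0, 0, 2)) (C.X (1, -2, 1)) := C.c2.cm rfl rfl (by decide) (by decide) (by decide)
      (by decide)
    have k3 : Cm (C.X (0, 0, 2)) (C.Y (0, -1, -1)) := C.cw.gn (y := (0, -1, 0)) (z := (0, 0, -1)) C.b_neg C.c_neg rfl
      (by decide) (by decide) (by decide) (by decide) k1 k2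
    rcases C.bc (-1) (-1) (by decide) (by decide) with h | h | h | h
    · exact absurd (k3 : Cm (C.X (0, 0, 2)) (C.Y (0, -1, -1))) (C.c3.ncm rfl (h.symm : C.X (1, 1, -2) = C.Y (0, -1, -1))
        (by decide) (by decide) (by decide))
    · exact h
    · exact absurd (k3 : Cm (C.X (0, 0, 2)) (C.Y (0, -1, -1))) (C.c3.ncm rfl (h.symm : C.X (1, -1, 0) = C.Y (0, -1, -1))
        (by decide) (by decide) (by decide))
    · exact absurd (k3 : Cm (C.X (0, 0, 2)) (C.Y (0, -1, -1))) (C.c3.ncm rfl (h.symm : C.X (-1, 1, 0) = C.Y (0, -1, -1))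
        (by decide) (by decide) (by decide))
  have i1 : C.Y (0, 0, -1) = C.X (1, -2, 1) := C.c_neg
  have i2 : C.Y (1, 1, 0) = C.X (1, 2, 1) := by
    have k1 : Cm (C.X (0, 2, 0)) (C.X (1, 1, 2)) := C.c3.cm rfl rfl (by decide) (by decide) (by decide)
      (by decide)
    have k2 : Cm (C.X (0, 2, 0)) (C.X (2, 1, -1)) := C.c1.cm rfl rfl (by decide) (by decide) (by decide)
      (by decide)
    have k3 : Cm (C.X (0, 2, 0)) (C.Y (1, 1, 0)) := C.cw.gn (y := (1, 0, 0)) (z := (0, 1, 0)) C.a_pos C.b_pos rfl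
      (by decide) (by decide) (by decide) (by decide) k1 k2
    rcases C.ab 1 1 (by decide) (by decide) with h | h | h | h
    · exact absurd (k3 : Cm (C.X (0, 2, 0)) (C.Y (1, 1, 0))) (C.c2.ncm rfl (h.symm : C.X (-1, -2, -1) = C.Y (1, 1, 0))
        (by decide) (by decide) (by decide))
    · exact h
    · exact absurd (k3 : Cm (C.X (0, 2, 0)) (C.Y (1, 1, 0))) (C.c2.ncm rfl (h.symm : C.X (-1, 0, 1) = C.Y (1, 1, 0))
        (by decide) (by decide) (by decide))
    · exact absurd (k3 : Cm (C.X (0, 2, 0)) (C.Y (1, 1, 0))) (C.c2.ncm rfl (h.symm : C.X (1, 0, -1) = C.Y (1, 1, 0))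
        (by decide) (by decide) (by decide))
  have i3 : C.Y (1, 0, -1) = C.X (2, -1, 1) := by
    have k1 : Cm (C.X (2, 0, 0)) (C.X (1, 1, 2)) := C.c3.cm rfl rfl (by decide) (by decide) (by decide)
      (by decide)
    have k2 : Cm (C.X (2, 0, 0)) (C.X (1, -2, 1)) := C.c2.cm rfl rfl (by decide) (by decide) (by decide)
      (by decide)
    have k3 : Cm (C.X (2, 0, 0)) (C.Y (1, 0, -1)) := C.cw.gn (y := (1, 0, 0)) (z := (0, 0, -1)) C.a_pos C.c_neg rfl
      (by decide) (by decide) (by decide) (by decide) k1 k2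
    rcases C.ac 1 (-1) (by decide) (by decide) with h | h | h | h
    · exact absurd (k3 : Cm (C.X (2, 0, 0)) (C.Y (1, 0, -1))) (C.c1.ncm rfl (h.symm : C.X (-2, 1, -1) = C.Y (1, 0, -1))
        (by decide) (by decide) (by decide))
    · exact h
    · exact absurd (k3 : Cm (C.X (2, 0, 0)) (C.Y (1, 0, -1))) (C.c1.ncm rfl (h.symm : C.X (0, 1, 1) = C.Y (1, 0, -1))
        (by decide) (by decide) (by decide))
    · exact absurd (k3 : Cm (C.X (2, 0, 0)) (C.Y (1, 0, -1))) (C.c1.ncm rfl (h.symm : C.X (0, -1, -1) = C.Y (1, 0, -1))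
        (by decide) (by decide) (by decide))
  have i4 : C.Y (1, 0, 0) = C.X (1, 1, 2) := C.a_pos
  have i5 : C.Y (0, -1, 0) = C.X (-2, -1, 1) := C.b_neg
  have h0 : Cm (C.X (-1, 1, 2)) (C.X (-1, -1, 2)) := C.c3.cm (y := (-1, 1, 2)) (z := (-1, -1, 2)) rfl rfl (by decide) (by decide)
      (by decide) (by decide)
  have h1 : Cm (C.X (-1, -1, 2)) (C.X (1, -2, 1)) := C.cw.cm (y := (0, -1, -1)) (z := (0, 0, -1)) i0 i1 (by decide) (by decide)
      (by decide) (by decide)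
  have h2 : Cm (C.X (-1, 1, 2)) (C.X (1, 2, 1)) := nst2 C.n2 (v := (-1, -1, 2)) (w := (1, -2, 1)) (by decide) (by decide)
      (by decide) (by decide) h1
  have h3 : Cm (C.X (-1, 1, 2)) (C.X (2, -1, 1)) := C.cw.gn (y := (0, -1, -1)) (z := (1, 1, 0)) (w := (1, 0, -1)) i0 i2 i3
      (by decide) (by decide) (by decide) (by decide) h0 h2
  have h4 : Cm (C.X (1, 1, 2)) (C.X (-2, -1, 1)) := nst1 C.n1 (v := (-1, 1, 2)) (w := (2, -1, 1)) (by decide) (by decide)
      (by decide) (by decide) h3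
  exact C.cw.ncm (y := (1, 0, 0)) (z := (0, -1, 0)) i4 i5 (by decide) (by decide) (by decide) h4

theorem pat14 (C : Conf G 1 1 (-1) (-1) (-1) 1) : False := by
  have i0 : C.Y (-1, 0, 1) = C.X (-2, 1, -1) := by
    have k1 : Cm (C.X (-2, 0, 0)) (C.X (-1, -1, -2)) := C.c3.cm rfl rfl (by decide) (by decide) (by decide)
      (by decide)
    have k2 : Cm (C.X (-2, 0, 0)) (C.X (-1, -2, 1)) := C.c2.cm rfl rfl (by decide) (by decide) (by decide)
      (by decide)
    have k3 : Cm (C.X (-2, 0, 0)) (C.Y (-1, 0, 1)) := C.cw.gn (y := (-1, 0, 0)) (z := (0, 0, 1)) C.a_neg C.c_pos rfl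
      (by decide) (by decide) (by decide) (by decide) k1 k2
    rcases C.ac (-1) 1 (by decide) (by decide) with h | h | h | h
    · exact h
    · exact absurd (k3 : Cm (C.X (-2, 0, 0)) (C.Y (-1, 0, 1))) (C.c1.ncm rfl (h.symm : C.X (2, -1, 1) = C.Y (-1, 0, 1))
        (by decide) (by decide) (by decide))
    · exact absurd (k3 : Cm (C.X (-2, 0, 0)) (C.Y (-1, 0, 1))) (C.c1.ncm rfl (h.symm : C.X (0, 1, 1) = C.Y (-1, 0, 1))
        (by decide) (by decide) (by decide))
    · exact absurd (k3 : Cm (C.X (-2, 0, 0)) (C.Y (-1, 0, 1))) (C.c1.ncm rfl (h.symm : C.X (0, -1, -1) = C.Y (-1, 0, 1))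
        (by decide) (by decide) (by decide))
  have i1 : C.Y (1, 0, 0) = C.X (1, 1, 2) := C.a_pos
  have i2 : C.Y (0, 0, 1) = C.X (-1, -2, 1) := C.c_pos
  have h0 : Cm (C.X (-2, 1, -1)) (C.X (0, 2, 0)) := C.c1.cm (y := (-2, 1, -1)) (z := (0, 2, 0)) rfl rfl (by decide) (by decide)
      (by decide) (by decide)
  have h1 : Cm (C.X (0, 2, 0)) (C.X (1, 1, 2)) := C.c3.cm (y := (0, 2, 0)) (z := (1, 1, 2)) rfl rfl (by decide) (by decide)
      (by decide) (by decide)
  have h2 : Cm (C.X (0, 2, 0)) (C.X (-1, -2, 1)) := C.cw.gn (y := (-1, 0, 1)) (z := (1, 0, 0)) (w := (0, 0, 1)) i0 i1 i2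
      (by decide) (by decide) (by decide) (by decide) h0.symm h1
  exact C.c2.ncm (y := (-1, -2, 1)) (z := (0, 2, 0)) rfl rfl (by decide) (by decide) (by decide) h2.symm

theorem pat15 (C : Conf G 1 1 (-1) (-1) (-1) (-1)) : False := by
  have i0 : C.Y (0, -1, -1) = C.X (-1, -1, 2) := by
    have k1 : Cm (C.X (0, 0, 2)) (C.X (-2, -1, 1)) := C.c1.cm rfl rfl (by decide) (by decide) (by decide)
      (by decide)
    have k2 : Cm (C.X (0, 0, 2)) (C.X (1, 2, 1)) := C.c2.cm rfl rfl (by decide) (by decide) (by decide)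
      (by decide)
    have k3 : Cm (C.X (0, 0, 2)) (C.Y (0, -1, -1)) := C.cw.gn (y := (0, -1, 0)) (z := (0, 0, -1)) C.b_neg C.c_neg rfl
      (by decide) (by decide) (by decide) (by decide) k1 k2
    rcases C.bc (-1) (-1) (by decide) (by decide) with h | h | h | h
    · exact absurd (k3 : Cm (C.X (0, 0, 2)) (C.Y (0, -1, -1))) (C.c3.ncm rfl (h.symm : C.X (1, 1, -2) = C.Y (0, -1, -1))
        (by decide) (by decide) (by decide))
    · exact h
    · exact absurd (k3 : Cm (C.X (0, 0, 2)) (C.Y (0, -1, -1))) (C.c3.ncm rfl (h.symm : C.X (1, -1, 0) = C.Y (0, -1, -1))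
        (by decide) (by decide) (by decide))
    · exact absurd (k3 : Cm (C.X (0, 0, 2)) (C.Y (0, -1, -1))) (C.c3.ncm rfl (h.symm : C.X (-1, 1, 0) = C.Y (0, -1, -1))
        (by decide) (by decide) (by decide))
  have i1 : C.Y (1, 1, 0) = C.X (-1, 2, -1) := by
    have k1 : Cm (C.X (0, 2, 0)) (C.X (1, 1, 2)) := C.c3.cm rfl rfl (by decide) (by decide) (by decide)
      (by decide)
    have k2 : Cm (C.X (0, 2, 0)) (C.X (2, 1, -1)) := C.c1.cm rfl rfl (by decide) (by decide) (by decide)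
      (by decide)
    have k3 : Cm (C.X (0, 2, 0)) (C.Y (1, 1, 0)) := C.cw.gn (y := (1, 0, 0)) (z := (0, 1, 0)) C.a_pos C.b_pos rfl
      (by decide) (by decide) (by decide) (by decide) k1 k2
    rcases C.ab 1 1 (by decide) (by decide) with h | h | h | h
    · exact h
    · exact absurd (k3 : Cm (C.X (0, 2, 0)) (C.Y (1, 1, 0))) (C.c2.ncm rfl (h.symm : C.X (1, -2, 1) = C.Y (1, 1, 0))
        (by decide) (by decide) (by decide))
    · exact absurd (k3 : Cm (C.X (0, 2, 0)) (C.Y (1, 1, 0))) (C.c2.ncm rfl (h.symm : C.X (-1, 0, 1) = C.Y (1, 1, 0))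
        (by decide) (by decide) (by decide))
    · exact absurd (k3 : Cm (C.X (0, 2, 0)) (C.Y (1, 1, 0))) (C.c2.ncm rfl (h.symm : C.X (1, 0, -1) = C.Y (1, 1, 0))
        (by decide) (by decide) (by decide))
  have i2 : C.Y (1, 0, -1) = C.X (2, -1, 1) := by
    have k1 : Cm (C.X (2, 0, 0)) (C.X (1, 1, 2)) := C.c3.cm rfl rfl (by decide) (by decide) (by decide)
      (by decide)
    have k2 : Cm (C.X (2, 0, 0)) (C.X (1, 2, 1)) := C.c2.cm rfl rfl (by decide) (by decide) (by decide)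
      (by decide)
    have k3 : Cm (C.X (2, 0, 0)) (C.Y (1, 0, -1)) := C.cw.gn (y := (1, 0, 0)) (z := (0, 0, -1)) C.a_pos C.c_neg rfl
      (by decide) (by decide) (by decide) (by decide) k1 k2
    rcases C.ac 1 (-1) (by decide) (by decide) with h | h | h | h
    · exact absurd (k3 : Cm (C.X (2, 0, 0)) (C.Y (1, 0, -1))) (C.c1.ncm rfl (h.symm : C.X (-2, 1, -1) = C.Y (1, 0, -1))
        (by decide) (by decide) (by decide))
    · exact h
    · exact absurd (k3 : Cm (C.X (2, 0, 0)) (C.Y (1, 0, -1))) (C.c1.ncm rfl (h.symm : C.X (0, 1, 1) = C.Y (1, 0, -1))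
        (by decide) (by decide) (by decide))
    · exact absurd (k3 : Cm (C.X (2, 0, 0)) (C.Y (1, 0, -1))) (C.c1.ncm rfl (h.symm : C.X (0, -1, -1) = C.Y (1, 0, -1))
        (by decide) (by decide) (by decide))
  have h0 : Cm (C.X (-1, -1, 2)) (C.X (-2, 0, 0)) := C.c3.cm (y := (-1, -1, 2)) (z := (-2, 0, 0)) rfl rfl (by decide) (by decide)
      (by decide) (by decide)
  have h1 : Cm (C.X (-1, 2, -1)) (C.X (-2, 0, 0)) := C.c2.cm (y := (-1, 2, -1)) (z := (-2, 0, 0)) rfl rfl (by decide) (by decide)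
      (by decide) (by decide)
  have h2 : Cm (C.X (-2, 0, 0)) (C.X (2, -1, 1)) := C.cw.gn (y := (0, -1, -1)) (z := (1, 1, 0)) (w := (1, 0, -1)) i0 i1 i2
      (by decide) (by decide) (by decide) (by decide) h0.symm h1.symm
  exact C.c1.ncm (y := (2, -1, 1)) (z := (-2, 0, 0)) rfl rfl (by decide) (by decide) (by decide) h2.symm

theorem pat16 (C : Conf G 1 (-1) 1 1 1 1) : False := by
  have i0 : C.Y (0, -1, -1) = C.X (1, 1, -2) := by
    have k1 : Cm (C.X (0, 0, -2)) (C.X (-2, 1, -1)) := C.c1.cm rfl rfl (by decide) (by decide) (by decide)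
      (by decide)
    have k2 : Cm (C.X (0, 0, -2)) (C.X (-1, -2, -1)) := C.c2.cm rfl rfl (by decide) (by decide) (by decide)
      (by decide)
    have k3 : Cm (C.X (0, 0, -2)) (C.Y (0, -1, -1)) := C.cw.gn (y := (0, -1, 0)) (z := (0, 0, -1)) C.b_neg C.c_neg rfl
      (by decide) (by decide) (by decide) (by decide) k1 k2
    rcases C.bc (-1) (-1) (by decide) (by decide) with h | h | h | h
    · exact h
    · exact absurd (k3 : Cm (C.X (0, 0, -2)) (C.Y (0, -1, -1))) (C.c3.ncm rfl (h.symm : C.X (-1, -1, 2) = C.Y (0, -1, -1))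
        (by decide) (by decide) (by decide))
    · exact absurd (k3 : Cm (C.X (0, 0, -2)) (C.Y (0, -1, -1))) (C.c3.ncm rfl (h.symm : C.X (1, -1, 0) = C.Y (0, -1, -1))
        (by decide) (by decide) (by decide))
    · exact absurd (k3 : Cm (C.X (0, 0, -2)) (C.Y (0, -1, -1))) (C.c3.ncm rfl (h.symm : C.X (-1, 1, 0) = C.Y (0, -1, -1))
        (by decide) (by decide) (by decide))
  have i1 : C.Y (1, 0, 1) = C.X (2, 1, -1) := by
    have k1 : Cm (C.X (2, 0, 0)) (C.X (1, 1, 2)) := C.c3.cm rfl rfl (by decide) (by decide) (by decide)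
      (by decide)
    have k2 : Cm (C.X (2, 0, 0)) (C.X (1, 2, 1)) := C.c2.cm rfl rfl (by decide) (by decide) (by decide)
      (by decide)
    have k3 : Cm (C.X (2, 0, 0)) (C.Y (1, 0, 1)) := C.cw.gn (y := (1, 0, 0)) (z := (0, 0, 1)) C.a_pos C.c_pos rfl
      (by decide) (by decide) (by decide) (by decide) k1 k2
    rcases C.ac 1 1 (by decide) (by decide) with h | h | h | h
    · exact absurd (k3 : Cm (C.X (2, 0, 0)) (C.Y (1, 0, 1))) (C.c1.ncm rfl (h.symm : C.X (-2, -1, 1) = C.Y (1, 0, 1))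
        (by decide) (by decide) (by decide))
    · exact h
    · exact absurd (k3 : Cm (C.X (2, 0, 0)) (C.Y (1, 0, 1))) (C.c1.ncm rfl (h.symm : C.X (0, -1, -1) = C.Y (1, 0, 1))
        (by decide) (by decide) (by decide))
    · exact absurd (k3 : Cm (C.X (2, 0, 0)) (C.Y (1, 0, 1))) (C.c1.ncm rfl (h.symm : C.X (0, 1, 1) = C.Y (1, 0, 1))
        (by decide) (by decide) (by decide))
  have i2 : C.Y (1, -1, 0) = C.X (-1, 2, -1) := by
    have k1 : Cm (C.X (0, 2, 0)) (C.X (1, 1, 2)) := C.c3.cm rfl rfl (by decide) (by decide) (by decide)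
      (by decide)
    have k2 : Cm (C.X (0, 2, 0)) (C.X (-2, 1, -1)) := C.c1.cm rfl rfl (by decide) (by decide) (by decide)
      (by decide)
    have k3 : Cm (C.X (0, 2, 0)) (C.Y (1, -1, 0)) := C.cw.gn (y := (1, 0, 0)) (z := (0, -1, 0)) C.a_pos C.b_neg rfl
      (by decide) (by decide) (by decide) (by decide) k1 k2
    rcases C.ab 1 (-1) (by decide) (by decide) with h | h | h | h
    · exact absurd (k3 : Cm (C.X (0, 2, 0)) (C.Y (1, -1, 0))) (C.c2.ncm rfl (h.symm : C.X (1, -2, 1) = C.Y (1, -1, 0))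
        (by decide) (by decide) (by decide))
    · exact h
    · exact absurd (k3 : Cm (C.X (0, 2, 0)) (C.Y (1, -1, 0))) (C.c2.ncm rfl (h.symm : C.X (1, 0, -1) = C.Y (1, -1, 0))
        (by decide) (by decide) (by decide))
    · exact absurd (k3 : Cm (C.X (0, 2, 0)) (C.Y (1, -1, 0))) (C.c2.ncm rfl (h.symm : C.X (-1, 0, 1) = C.Y (1, -1, 0))
        (by decide) (by decide) (by decide))
  have h0 : Cm (C.X (2, 0, 0)) (C.X (1, 1, -2)) := C.c3.cm (y := (2, 0, 0)) (z := (1, 1, -2)) rfl rfl (by decide) (by decide)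
      (by decide) (by decide)
  have h1 : Cm (C.X (2, 0, 0)) (C.X (2, 1, -1)) := C.c1.cm (y := (2, 0, 0)) (z := (2, 1, -1)) rfl rfl (by decide) (by decide)
      (by decide) (by decide)
  have h2 : Cm (C.X (2, 0, 0)) (C.X (-1, 2, -1)) := C.cw.gn (y := (0, -1, -1)) (z := (1, 0, 1)) (w := (1, -1, 0)) i0 i1 i2
      (by decide) (by decide) (by decide) (by decide) h0 h1
  exact C.c2.ncm (y := (2, 0, 0)) (z := (-1, 2, -1)) rfl rfl (by decide) (by decide) (by decide) h2

theorem pat17 (C : Conf G 1 (-1) 1 1 1 (-1)) : False := by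
  have i0 : C.Y (-1, 0, -1) = C.X (-2, -1, 1) := by
    have k1 : Cm (C.X (-2, 0, 0)) (C.X (-1, -1, -2)) := C.c3.cm rfl rfl (by decide) (by decide) (by decide)
      (by decide)
    have k2 : Cm (C.X (-2, 0, 0)) (C.X (-1, -2, 1)) := C.c2.cm rfl rfl (by decide) (by decide) (by decide)
      (by decide)
    have k3 : Cm (C.X (-2, 0, 0)) (C.Y (-1, 0, -1)) := C.cw.gn (y := (-1, 0, 0)) (z := (0, 0, -1)) C.a_neg C.c_neg rfl
      (by decide) (by decide) (by decide) (by decide) k1 k2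
    rcases C.ac (-1) (-1) (by decide) (by decide) with h | h | h | h
    · exact h
    · exact absurd (k3 : Cm (C.X (-2, 0, 0)) (C.Y (-1, 0, -1))) (C.c1.ncm rfl (h.symm : C.X (2, 1, -1) = C.Y (-1, 0, -1))
        (by decide) (by decide) (by decide))
    · exact absurd (k3 : Cm (C.X (-2, 0, 0)) (C.Y (-1, 0, -1))) (C.c1.ncm rfl (h.symm : C.X (0, -1, -1) = C.Y (-1, 0, -1))
        (by decide) (by decide) (by decide))
    · exact absurd (k3 : Cm (C.X (-2, 0, 0)) (C.Y (-1, 0, -1))) (C.c1.ncm rfl (h.symm : C.X (0, 1, 1) = C.Y (-1, 0, -1))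
        (by decide) (by decide) (by decide))
  have i1 : C.Y (-1, 1, 0) = C.X (1, -2, -1) := by
    have k1 : Cm (C.X (0, -2, 0)) (C.X (-1, -1, -2)) := C.c3.cm rfl rfl (by decide) (by decide) (by decide)
      (by decide)
    have k2 : Cm (C.X (0, -2, 0)) (C.X (2, -1, 1)) := C.c1.cm rfl rfl (by decide) (by decide) (by decide)
      (by decide)
    have k3 : Cm (C.X (0, -2, 0)) (C.Y (-1, 1, 0)) := C.cw.gn (y := (-1, 0, 0)) (z := (0, 1, 0)) C.a_neg C.b_pos rfl
      (by decide) (by decide) (by decide) (by decide) k1 k2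
    rcases C.ab (-1) 1 (by decide) (by decide) with h | h | h | h
    · exact h
    · exact absurd (k3 : Cm (C.X (0, -2, 0)) (C.Y (-1, 1, 0))) (C.c2.ncm rfl (h.symm : C.X (-1, 2, 1) = C.Y (-1, 1, 0))
        (by decide) (by decide) (by decide))
    · exact absurd (k3 : Cm (C.X (0, -2, 0)) (C.Y (-1, 1, 0))) (C.c2.ncm rfl (h.symm : C.X (1, 0, 1) = C.Y (-1, 1, 0))
        (by decide) (by decide) (by decide))
    · exact absurd (k3 : Cm (C.X (0, -2, 0)) (C.Y (-1, 1, 0))) (C.c2.ncm rfl (h.symm : C.X (-1, 0, -1) = C.Y (-1, 1, 0))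
        (by decide) (by decide) (by decide))
  have i2 : C.Y (0, 0, 1) = C.X (1, 2, -1) := C.c_pos
  have i3 : C.Y (0, -1, 0) = C.X (-2, 1, -1) := C.b_neg
  have h0 : Cm (C.X (-2, -1, 1)) (C.X (1, -2, -1)) := C.cw.cm (y := (-1, 0, -1)) (z := (-1, 1, 0)) i0 i1 (by decide) (by decide)
      (by decide) (by decide)
  have h1 : Cm (C.X (-2, 1, 1)) (C.X (1, 2, -1)) := nst2 C.n2 (v := (-2, -1, 1)) (w := (1, -2, -1)) (by decide) (by decide)
      (by decide) (by decide) h0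
  have h2 : Cm (C.X (0, 0, -2)) (C.X (1, 2, -1)) := C.c2.cm (y := (0, 0, -2)) (z := (1, 2, -1)) rfl rfl (by decide) (by decide)
      (by decide) (by decide)
  have h3 : Cm (C.X (1, 2, -1)) (C.X (-2, 1, -1)) := C.c1.gn (y := (-2, 1, 1)) (z := (0, 0, -2)) (w := (-2, 1, -1)) rfl rfl rfl
      (by decide) (by decide) (by decide) (by decide) h1.symm h2.symm
  exact C.cw.ncm (y := (0, 0, 1)) (z := (0, -1, 0)) i2 i3 (by decide) (by decide) (by decide) h3

theorem pat18 (C : Conf G 1 (-1) 1 1 (-1) 1) : False := by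
  have i0 : C.Y (0, -1, -1) = C.X (1, 1, -2) := by
    have k1 : Cm (C.X (0, 0, -2)) (C.X (-2, 1, -1)) := C.c1.cm rfl rfl (by decide) (by decide) (by decide)
      (by decide)
    have k2 : Cm (C.X (0, 0, -2)) (C.X (-1, 2, -1)) := C.c2.cm rfl rfl (by decide) (by decide) (by decide)
      (by decide)
    have k3 : Cm (C.X (0, 0, -2)) (C.Y (0, -1, -1)) := C.cw.gn (y := (0, -1, 0)) (z := (0, 0, -1)) C.b_neg C.c_neg rfl
      (by decide) (by decide) (by decide) (by decide) k1 k2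
    rcases C.bc (-1) (-1) (by decide) (by decide) with h | h | h | h
    · exact h
    · exact absurd (k3 : Cm (C.X (0, 0, -2)) (C.Y (0, -1, -1))) (C.c3.ncm rfl (h.symm : C.X (-1, -1, 2) = C.Y (0, -1, -1))
        (by decide) (by decide) (by decide))
    · exact absurd (k3 : Cm (C.X (0, 0, -2)) (C.Y (0, -1, -1))) (C.c3.ncm rfl (h.symm : C.X (1, -1, 0) = C.Y (0, -1, -1))
        (by decide) (by decide) (by decide))
    · exact absurd (k3 : Cm (C.X (0, 0, -2)) (C.Y (0, -1, -1))) (C.c3.ncm rfl (h.symm : C.X (-1, 1, 0) = C.Y (0, -1, -1))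
        (by decide) (by decide) (by decide))
  have i1 : C.Y (1, 0, 1) = C.X (2, 1, -1) := by
    have k1 : Cm (C.X (2, 0, 0)) (C.X (1, 1, 2)) := C.c3.cm rfl rfl (by decide) (by decide) (by decide)
      (by decide)
    have k2 : Cm (C.X (2, 0, 0)) (C.X (1, -2, 1)) := C.c2.cm rfl rfl (by decide) (by decide) (by decide)
      (by decide)
    have k3 : Cm (C.X (2, 0, 0)) (C.Y (1, 0, 1)) := C.cw.gn (y := (1, 0, 0)) (z := (0, 0, 1)) C.a_pos C.c_pos rfl
      (by decide) (by decide) (by decide) (by decide) k1 k2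
    rcases C.ac 1 1 (by decide) (by decide) with h | h | h | h
    · exact absurd (k3 : Cm (C.X (2, 0, 0)) (C.Y (1, 0, 1))) (C.c1.ncm rfl (h.symm : C.X (-2, -1, 1) = C.Y (1, 0, 1))
        (by decide) (by decide) (by decide))
    · exact h
    · exact absurd (k3 : Cm (C.X (2, 0, 0)) (C.Y (1, 0, 1))) (C.c1.ncm rfl (h.symm : C.X (0, -1, -1) = C.Y (1, 0, 1))
        (by decide) (by decide) (by decide))
    · exact absurd (k3 : Cm (C.X (2, 0, 0)) (C.Y (1, 0, 1))) (C.c1.ncm rfl (h.symm : C.X (0, 1, 1) = C.Y (1, 0, 1))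
        (by decide) (by decide) (by decide))
  have i2 : C.Y (1, -1, 0) = C.X (1, 2, 1) := by
    have k1 : Cm (C.X (0, 2, 0)) (C.X (1, 1, 2)) := C.c3.cm rfl rfl (by decide) (by decide) (by decide)
      (by decide)
    have k2 : Cm (C.X (0, 2, 0)) (C.X (-2, 1, -1)) := C.c1.cm rfl rfl (by decide) (by decide) (by decide)
      (by decide)
    have k3 : Cm (C.X (0, 2, 0)) (C.Y (1, -1, 0)) := C.cw.gn (y := (1, 0, 0)) (z := (0, -1, 0)) C.a_pos C.b_neg rfl
      (by decide) (by decide) (by decide) (by decide) k1 k2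
    rcases C.ab 1 (-1) (by decide) (by decide) with h | h | h | h
    · exact h
    · exact absurd (k3 : Cm (C.X (0, 2, 0)) (C.Y (1, -1, 0))) (C.c2.ncm rfl (h.symm : C.X (-1, -2, -1) = C.Y (1, -1, 0))
        (by decide) (by decide) (by decide))
    · exact absurd (k3 : Cm (C.X (0, 2, 0)) (C.Y (1, -1, 0))) (C.c2.ncm rfl (h.symm : C.X (1, 0, -1) = C.Y (1, -1, 0))
        (by decide) (by decide) (by decide))
    · exact absurd (k3 : Cm (C.X (0, 2, 0)) (C.Y (1, -1, 0))) (C.c2.ncm rfl (h.symm : C.X (-1, 0, 1) = C.Y (1, -1, 0))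
        (by decide) (by decide) (by decide))
  have h0 : Cm (C.X (0, 0, -2)) (C.X (1, 1, -2)) := C.c3.cm (y := (0, 0, -2)) (z := (1, 1, -2)) rfl rfl (by decide) (by decide)
      (by decide) (by decide)
  have h1 : Cm (C.X (0, 0, -2)) (C.X (2, 1, -1)) := C.c1.cm (y := (0, 0, -2)) (z := (2, 1, -1)) rfl rfl (by decide) (by decide)
      (by decide) (by decide)
  have h2 : Cm (C.X (0, 0, -2)) (C.X (1, 2, 1)) := C.cw.gn (y := (0, -1, -1)) (z := (1, 0, 1)) (w := (1, -1, 0)) i0 i1 i2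
      (by decide) (by decide) (by decide) (by decide) h0 h1
  exact C.c2.ncm (y := (0, 0, -2)) (z := (1, 2, 1)) rfl rfl (by decide) (by decide) (by decide) h2

theorem pat19 (C : Conf G 1 (-1) 1 1 (-1) (-1)) : False := by
  have i0 : C.Y (0, 1, 0) = C.X (2, -1, 1) := C.b_pos
  have i1 : C.Y (-1, 1, 0) = C.X (-1, -2, 1) := by
    have k1 : Cm (C.X (0, -2, 0)) (C.X (-1, -1, -2)) := C.c3.cm rfl rfl (by decide) (by decide) (by decide)
      (by decide)
    have k2 : Cm (C.X (0, -2, 0)) (C.X (2, -1, 1)) := C.c1.cm rfl rfl (by decide) (by decide) (by decide)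
      (by decide)
    have k3 : Cm (C.X (0, -2, 0)) (C.Y (-1, 1, 0)) := C.cw.gn (y := (-1, 0, 0)) (z := (0, 1, 0)) C.a_neg C.b_pos rfl
      (by decide) (by decide) (by decide) (by decide) k1 k2
    rcases C.ab (-1) 1 (by decide) (by decide) with h | h | h | h
    · exact absurd (k3 : Cm (C.X (0, -2, 0)) (C.Y (-1, 1, 0))) (C.c2.ncm rfl (h.symm : C.X (1, 2, -1) = C.Y (-1, 1, 0))
        (by decide) (by decide) (by decide))
    · exact h
    · exact absurd (k3 : Cm (C.X (0, -2, 0)) (C.Y (-1, 1, 0))) (C.c2.ncm rfl (h.symm : C.X (1, 0, 1) = C.Y (-1, 1, 0))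
        (by decide) (by decide) (by decide))
    · exact absurd (k3 : Cm (C.X (0, -2, 0)) (C.Y (-1, 1, 0))) (C.c2.ncm rfl (h.symm : C.X (-1, 0, -1) = C.Y (-1, 1, 0))
        (by decide) (by decide) (by decide))
  have i2 : C.Y (0, -1, 1) = C.X (1, 1, -2) := by
    have k1 : Cm (C.X (0, 0, -2)) (C.X (-2, 1, -1)) := C.c1.cm rfl rfl (by decide) (by decide) (by decide)
      (by decide)
    have k2 : Cm (C.X (0, 0, -2)) (C.X (1, -2, -1)) := C.c2.cm rfl rfl (by decide) (by decide) (by decide)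
      (by decide)
    have k3 : Cm (C.X (0, 0, -2)) (C.Y (0, -1, 1)) := C.cw.gn (y := (0, -1, 0)) (z := (0, 0, 1)) C.b_neg C.c_pos rfl
      (by decide) (by decide) (by decide) (by decide) k1 k2
    rcases C.bc (-1) 1 (by decide) (by decide) with h | h | h | h
    · exact h
    · exact absurd (k3 : Cm (C.X (0, 0, -2)) (C.Y (0, -1, 1))) (C.c3.ncm rfl (h.symm : C.X (-1, -1, 2) = C.Y (0, -1, 1))
        (by decide) (by decide) (by decide))
    · exact absurd (k3 : Cm (C.X (0, 0, -2)) (C.Y (0, -1, 1))) (C.c3.ncm rfl (h.symm : C.X (1, -1, 0) = C.Y (0, -1, 1))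
        (by decide) (by decide) (by decide))
    · exact absurd (k3 : Cm (C.X (0, 0, -2)) (C.Y (0, -1, 1))) (C.c3.ncm rfl (h.symm : C.X (-1, 1, 0) = C.Y (0, -1, 1))
        (by decide) (by decide) (by decide))
  have i3 : C.Y (0, 0, 1) = C.X (1, -2, -1) := C.c_pos
  have i4 : C.Y (-1, 0, -1) = C.X (-2, -1, 1) := by
    have k1 : Cm (C.X (-2, 0, 0)) (C.X (-1, -1, -2)) := C.c3.cm rfl rfl (by decide) (by decide) (by decide)
      (by decide)
    have k2 : Cm (C.X (-2, 0, 0)) (C.X (-1, 2, 1)) := C.c2.cm rfl rfl (by decide) (by decide) (by decide)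
      (by decide)
    have k3 : Cm (C.X (-2, 0, 0)) (C.Y (-1, 0, -1)) := C.cw.gn (y := (-1, 0, 0)) (z := (0, 0, -1)) C.a_neg C.c_neg rfl
      (by decide) (by decide) (by decide) (by decide) k1 k2
    rcases C.ac (-1) (-1) (by decide) (by decide) with h | h | h | h
    · exact h
    · exact absurd (k3 : Cm (C.X (-2, 0, 0)) (C.Y (-1, 0, -1))) (C.c1.ncm rfl (h.symm : C.X (2, 1, -1) = C.Y (-1, 0, -1))
        (by decide) (by decide) (by decide))
    · exact absurd (k3 : Cm (C.X (-2, 0, 0)) (C.Y (-1, 0, -1))) (C.c1.ncm rfl (h.symm : C.X (0, -1, -1) = C.Y (-1, 0, -1))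
        (by decide) (by decide) (by decide))
    · exact absurd (k3 : Cm (C.X (-2, 0, 0)) (C.Y (-1, 0, -1))) (C.c1.ncm rfl (h.symm : C.X (0, 1, 1) = C.Y (-1, 0, -1))
        (by decide) (by decide) (by decide))
  have i5 : C.Y (1, 0, 0) = C.X (1, 1, 2) := C.a_pos
  have i6 : C.Y (0, 0, -1) = C.X (-1, 2, 1) := C.c_neg
  have h0 : Cm (C.X (2, -1, 1)) (C.X (-1, -2, 1)) := C.cw.cm (y := (0, 1, 0)) (z := (-1, 1, 0)) i0 i1 (by decide) (by decide)
      (by decide) (by decide)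
  have h1 : Cm (C.X (-2, -1, 1)) (C.X (1, -2, 1)) := nst1 C.n1 (v := (2, -1, 1)) (w := (-1, -2, 1)) (by decide) (by decide)
      (by decide) (by decide) h0
  have h2 : Cm (C.X (1, 1, -2)) (C.X (1, -2, -1)) := C.cw.cm (y := (0, -1, 1)) (z := (0, 0, 1)) i2 i3 (by decide) (by decide)
      (by decide) (by decide)
  have h3 : Cm (C.X (1, 1, 2)) (C.X (1, -2, 1)) := nst3 C.n3 (v := (1, 1, -2)) (w := (1, -2, -1)) (by decide) (by decide)
      (by decide) (by decide) h2
  have h4 : Cm (C.X (1, -2, 1)) (C.X (-1, 2, 1)) := C.cw.gn (y := (-1, 0, -1)) (z := (1, 0, 0)) (w := (0, 0, -1)) i4 i5 i6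
      (by decide) (by decide) (by decide) (by decide) h1.symm h3.symm
  exact C.c2.ncm (y := (1, -2, 1)) (z := (-1, 2, 1)) rfl rfl (by decide) (by decide) (by decide) h4

theorem pat20 (C : Conf G 1 (-1) 1 (-1) 1 1) : False := by
  have i0 : C.Y (1, 0, 0) = C.X (1, 1, 2) := C.a_pos
  have i1 : C.Y (1, -1, 0) = C.X (1, 2, -1) := by
    have k1 : Cm (C.X (0, 2, 0)) (C.X (1, 1, 2)) := C.c3.cm rfl rfl (by decide) (by decide) (by decide)
      (by decide)
    have k2 : Cm (C.X (0, 2, 0)) (C.X (-2, 1, -1)) := C.c1.cm rfl rfl (by decide) (by decide) (by decide)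
      (by decide)
    have k3 : Cm (C.X (0, 2, 0)) (C.Y (1, -1, 0)) := C.cw.gn (y := (1, 0, 0)) (z := (0, -1, 0)) C.a_pos C.b_neg rfl
      (by decide) (by decide) (by decide) (by decide) k1 k2
    rcases C.ab 1 (-1) (by decide) (by decide) with h | h | h | h
    · exact absurd (k3 : Cm (C.X (0, 2, 0)) (C.Y (1, -1, 0))) (C.c2.ncm rfl (h.symm : C.X (-1, -2, 1) = C.Y (1, -1, 0))
        (by decide) (by decide) (by decide))
    · exact h
    · exact absurd (k3 : Cm (C.X (0, 2, 0)) (C.Y (1, -1, 0))) (C.c2.ncm rfl (h.symm : C.X (-1, 0, -1) = C.Y (1, -1, 0))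
        (by decide) (by decide) (by decide))
    · exact absurd (k3 : Cm (C.X (0, 2, 0)) (C.Y (1, -1, 0))) (C.c2.ncm rfl (h.symm : C.X (1, 0, 1) = C.Y (1, -1, 0))
        (by decide) (by decide) (by decide))
  have i2 : C.Y (-1, 0, 1) = C.X (-2, -1, 1) := by
    have k1 : Cm (C.X (-2, 0, 0)) (C.X (-1, -1, -2)) := C.c3.cm rfl rfl (by decide) (by decide) (by decide)
      (by decide)
    have k2 : Cm (C.X (-2, 0, 0)) (C.X (-1, 2, 1)) := C.c2.cm rfl rfl (by decide) (by decide) (by decide)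
      (by decide)
    have k3 : Cm (C.X (-2, 0, 0)) (C.Y (-1, 0, 1)) := C.cw.gn (y := (-1, 0, 0)) (z := (0, 0, 1)) C.a_neg C.c_pos rfl
      (by decide) (by decide) (by decide) (by decide) k1 k2
    rcases C.ac (-1) 1 (by decide) (by decide) with h | h | h | h
    · exact h
    · exact absurd (k3 : Cm (C.X (-2, 0, 0)) (C.Y (-1, 0, 1))) (C.c1.ncm rfl (h.symm : C.X (2, 1, -1) = C.Y (-1, 0, 1))
        (by decide) (by decide) (by decide))
    · exact absurd (k3 : Cm (C.X (-2, 0, 0)) (C.Y (-1, 0, 1))) (C.c1.ncm rfl (h.symm : C.X (0, -1, -1) = C.Y (-1, 0, 1))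
        (by decide) (by decide) (by decide))
    · exact absurd (k3 : Cm (C.X (-2, 0, 0)) (C.Y (-1, 0, 1))) (C.c1.ncm rfl (h.symm : C.X (0, 1, 1) = C.Y (-1, 0, 1))
        (by decide) (by decide) (by decide))
  have i3 : C.Y (0, 0, 1) = C.X (-1, 2, 1) := C.c_pos
  have i4 : C.Y (0, -1, -1) = C.X (1, 1, -2) := by
    have k1 : Cm (C.X (0, 0, -2)) (C.X (-2, 1, -1)) := C.c1.cm rfl rfl (by decide) (by decide) (by decide)
      (by decide)
    have k2 : Cm (C.X (0, 0, -2)) (C.X (1, -2, -1)) := C.c2.cm rfl rfl (by decide) (by decide) (by decide)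
      (by decide)
    have k3 : Cm (C.X (0, 0, -2)) (C.Y (0, -1, -1)) := C.cw.gn (y := (0, -1, 0)) (z := (0, 0, -1)) C.b_neg C.c_neg rfl
      (by decide) (by decide) (by decide) (by decide) k1 k2
    rcases C.bc (-1) (-1) (by decide) (by decide) with h | h | h | h
    · exact h
    · exact absurd (k3 : Cm (C.X (0, 0, -2)) (C.Y (0, -1, -1))) (C.c3.ncm rfl (h.symm : C.X (-1, -1, 2) = C.Y (0, -1, -1))
        (by decide) (by decide) (by decide))
    · exact absurd (k3 : Cm (C.X (0, 0, -2)) (C.Y (0, -1, -1))) (C.c3.ncm rfl (h.symm : C.X (1, -1, 0) = C.Y (0, -1, -1))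
        (by decide) (by decide) (by decide))
    · exact absurd (k3 : Cm (C.X (0, 0, -2)) (C.Y (0, -1, -1))) (C.c3.ncm rfl (h.symm : C.X (-1, 1, 0) = C.Y (0, -1, -1))
        (by decide) (by decide) (by decide))
  have i5 : C.Y (0, 1, 0) = C.X (2, -1, 1) := C.b_pos
  have i6 : C.Y (0, 0, -1) = C.X (1, -2, -1) := C.c_neg
  have h0 : Cm (C.X (1, 1, 2)) (C.X (1, 2, -1)) := C.cw.cm (y := (1, 0, 0)) (z := (1, -1, 0)) i0 i1 (by decide) (by decide)
      (by decide) (by decide)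
  have h1 : Cm (C.X (1, 1, -2)) (C.X (1, 2, 1)) := nst3 C.n3 (v := (1, 1, 2)) (w := (1, 2, -1)) (by decide) (by decide)
      (by decide) (by decide) h0
  have h2 : Cm (C.X (-2, -1, 1)) (C.X (-1, 2, 1)) := C.cw.cm (y := (-1, 0, 1)) (z := (0, 0, 1)) i2 i3 (by decide) (by decide)
      (by decide) (by decide)
  have h3 : Cm (C.X (2, -1, 1)) (C.X (1, 2, 1)) := nst1 C.n1 (v := (-2, -1, 1)) (w := (-1, 2, 1)) (by decide) (by decide)
      (by decide) (by decide) h2
  have h4 : Cm (C.X (1, 2, 1)) (C.X (1, -2, -1)) := C.cw.gn (y := (0, -1, -1)) (z := (0, 1, 0)) (w := (0, 0, -1)) i4 i5 i6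
      (by decide) (by decide) (by decide) (by decide) h1.symm h3.symm
  exact C.c2.ncm (y := (1, -2, -1)) (z := (1, 2, 1)) rfl rfl (by decide) (by decide) (by decide) h4.symm

theorem pat21 (C : Conf G 1 (-1) 1 (-1) 1 (-1)) : False := by
  have i0 : C.Y (-1, 0, 1) = C.X (-2, -1, 1) := by
    have k1 : Cm (C.X (-2, 0, 0)) (C.X (-1, -1, -2)) := C.c3.cm rfl rfl (by decide) (by decide) (by decide)
      (by decide)
    have k2 : Cm (C.X (-2, 0, 0)) (C.X (-1, 2, -1)) := C.c2.cm rfl rfl (by decide) (by decide) (by decide)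
      (by decide)
    have k3 : Cm (C.X (-2, 0, 0)) (C.Y (-1, 0, 1)) := C.cw.gn (y := (-1, 0, 0)) (z := (0, 0, 1)) C.a_neg C.c_pos rfl
      (by decide) (by decide) (by decide) (by decide) k1 k2
    rcases C.ac (-1) 1 (by decide) (by decide) with h | h | h | h
    · exact h
    · exact absurd (k3 : Cm (C.X (-2, 0, 0)) (C.Y (-1, 0, 1))) (C.c1.ncm rfl (h.symm : C.X (2, 1, -1) = C.Y (-1, 0, 1))
        (by decide) (by decide) (by decide))
    · exact absurd (k3 : Cm (C.X (-2, 0, 0)) (C.Y (-1, 0, 1))) (C.c1.ncm rfl (h.symm : C.X (0, -1, -1) = C.Y (-1, 0, 1))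
        (by decide) (by decide) (by decide))
    · exact absurd (k3 : Cm (C.X (-2, 0, 0)) (C.Y (-1, 0, 1))) (C.c1.ncm rfl (h.symm : C.X (0, 1, 1) = C.Y (-1, 0, 1))
        (by decide) (by decide) (by decide))
  have i1 : C.Y (1, 0, 0) = C.X (1, 1, 2) := C.a_pos
  have i2 : C.Y (0, 0, 1) = C.X (-1, 2, -1) := C.c_pos
  have h0 : Cm (C.X (-2, -1, 1)) (C.X (0, 0, 2)) := C.c1.cm (y := (-2, -1, 1)) (z := (0, 0, 2)) rfl rfl (by decide) (by decide)
      (by decide) (by decide)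
  have h1 : Cm (C.X (1, 1, 2)) (C.X (0, 0, 2)) := C.c3.cm (y := (1, 1, 2)) (z := (0, 0, 2)) rfl rfl (by decide) (by decide)
      (by decide) (by decide)
  have h2 : Cm (C.X (0, 0, 2)) (C.X (-1, 2, -1)) := C.cw.gn (y := (-1, 0, 1)) (z := (1, 0, 0)) (w := (0, 0, 1)) i0 i1 i2
      (by decide) (by decide) (by decide) (by decide) h0.symm h1.symm
  exact C.c2.ncm (y := (0, 0, 2)) (z := (-1, 2, -1)) rfl rfl (by decide) (by decide) (by decide) h2

theorem pat22 (C : Conf G 1 (-1) 1 (-1) (-1) 1) : False := by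
  have i0 : C.Y (-1, 0, 1) = C.X (-2, -1, 1) := by
    have k1 : Cm (C.X (-2, 0, 0)) (C.X (-1, -1, -2)) := C.c3.cm rfl rfl (by decide) (by decide) (by decide)
      (by decide)
    have k2 : Cm (C.X (-2, 0, 0)) (C.X (-1, -2, 1)) := C.c2.cm rfl rfl (by decide) (by decide) (by decide)
      (by decide)
    have k3 : Cm (C.X (-2, 0, 0)) (C.Y (-1, 0, 1)) := C.cw.gn (y := (-1, 0, 0)) (z := (0, 0, 1)) C.a_neg C.c_pos rfl
      (by decide) (by decide) (by decide) (by decide) k1 k2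
    rcases C.ac (-1) 1 (by decide) (by decide) with h | h | h | h
    · exact h
    · exact absurd (k3 : Cm (C.X (-2, 0, 0)) (C.Y (-1, 0, 1))) (C.c1.ncm rfl (h.symm : C.X (2, 1, -1) = C.Y (-1, 0, 1))
        (by decide) (by decide) (by decide))
    · exact absurd (k3 : Cm (C.X (-2, 0, 0)) (C.Y (-1, 0, 1))) (C.c1.ncm rfl (h.symm : C.X (0, -1, -1) = C.Y (-1, 0, 1))
        (by decide) (by decide) (by decide))
    · exact absurd (k3 : Cm (C.X (-2, 0, 0)) (C.Y (-1, 0, 1))) (C.c1.ncm rfl (h.symm : C.X (0, 1, 1) = C.Y (-1, 0, 1))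
        (by decide) (by decide) (by decide))
  have i1 : C.Y (-1, 1, 0) = C.X (1, -2, -1) := by
    have k1 : Cm (C.X (0, -2, 0)) (C.X (-1, -1, -2)) := C.c3.cm rfl rfl (by decide) (by decide) (by decide)
      (by decide)
    have k2 : Cm (C.X (0, -2, 0)) (C.X (2, -1, 1)) := C.c1.cm rfl rfl (by decide) (by decide) (by decide)
      (by decide)
    have k3 : Cm (C.X (0, -2, 0)) (C.Y (-1, 1, 0)) := C.cw.gn (y := (-1, 0, 0)) (z := (0, 1, 0)) C.a_neg C.b_pos rfl
      (by decide) (by decide) (by decide) (by decide) k1 k2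
    rcases C.ab (-1) 1 (by decide) (by decide) with h | h | h | h
    · exact absurd (k3 : Cm (C.X (0, -2, 0)) (C.Y (-1, 1, 0))) (C.c2.ncm rfl (h.symm : C.X (-1, 2, 1) = C.Y (-1, 1, 0))
        (by decide) (by decide) (by decide))
    · exact h
    · exact absurd (k3 : Cm (C.X (0, -2, 0)) (C.Y (-1, 1, 0))) (C.c2.ncm rfl (h.symm : C.X (-1, 0, -1) = C.Y (-1, 1, 0))
        (by decide) (by decide) (by decide))
    · exact absurd (k3 : Cm (C.X (0, -2, 0)) (C.Y (-1, 1, 0))) (C.c2.ncm rfl (h.symm : C.X (1, 0, 1) = C.Y (-1, 1, 0))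
        (by decide) (by decide) (by decide))
  have i2 : C.Y (0, 0, -1) = C.X (1, 2, -1) := C.c_neg
  have i3 : C.Y (0, -1, 0) = C.X (-2, 1, -1) := C.b_neg
  have h0 : Cm (C.X (-2, -1, 1)) (C.X (1, -2, -1)) := C.cw.cm (y := (-1, 0, 1)) (z := (-1, 1, 0)) i0 i1 (by decide) (by decide)
      (by decide) (by decide)
  have h1 : Cm (C.X (-2, 1, 1)) (C.X (1, 2, -1)) := nst2 C.n2 (v := (-2, -1, 1)) (w := (1, -2, -1)) (by decide) (by decide)
      (by decide) (by decide) h0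
  have h2 : Cm (C.X (0, 0, -2)) (C.X (1, 2, -1)) := C.c2.cm (y := (0, 0, -2)) (z := (1, 2, -1)) rfl rfl (by decide) (by decide)
      (by decide) (by decide)
  have h3 : Cm (C.X (1, 2, -1)) (C.X (-2, 1, -1)) := C.c1.gn (y := (-2, 1, 1)) (z := (0, 0, -2)) (w := (-2, 1, -1)) rfl rfl rfl
      (by decide) (by decide) (by decide) (by decide) h1.symm h2.symm
  exact C.cw.ncm (y := (0, 0, -1)) (z := (0, -1, 0)) i2 i3 (by decide) (by decide) (by decide) h3

theorem pat23 (C : Conf G 1 (-1) 1 (-1) (-1) (-1)) : False := by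
  have i0 : C.Y (-1, 0, 1) = C.X (-2, -1, 1) := by
    have k1 : Cm (C.X (-2, 0, 0)) (C.X (-1, -1, -2)) := C.c3.cm rfl rfl (by decide) (by decide) (by decide)
      (by decide)
    have k2 : Cm (C.X (-2, 0, 0)) (C.X (-1, -2, -1)) := C.c2.cm rfl rfl (by decide) (by decide) (by decide)
      (by decide)
    have k3 : Cm (C.X (-2, 0, 0)) (C.Y (-1, 0, 1)) := C.cw.gn (y := (-1, 0, 0)) (z := (0, 0, 1)) C.a_neg C.c_pos rfl
      (by decide) (by decide) (by decide) (by decide) k1 k2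
    rcases C.ac (-1) 1 (by decide) (by decide) with h | h | h | h
    · exact h
    · exact absurd (k3 : Cm (C.X (-2, 0, 0)) (C.Y (-1, 0, 1))) (C.c1.ncm rfl (h.symm : C.X (2, 1, -1) = C.Y (-1, 0, 1))
        (by decide) (by decide) (by decide))
    · exact absurd (k3 : Cm (C.X (-2, 0, 0)) (C.Y (-1, 0, 1))) (C.c1.ncm rfl (h.symm : C.X (0, -1, -1) = C.Y (-1, 0, 1))
        (by decide) (by decide) (by decide))
    · exact absurd (k3 : Cm (C.X (-2, 0, 0)) (C.Y (-1, 0, 1))) (C.c1.ncm rfl (h.symm : C.X (0, 1, 1) = C.Y (-1, 0, 1))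
        (by decide) (by decide) (by decide))
  have i1 : C.Y (1, 0, 0) = C.X (1, 1, 2) := C.a_pos
  have i2 : C.Y (0, 0, 1) = C.X (-1, -2, -1) := C.c_pos
  have h0 : Cm (C.X (-2, -1, 1)) (C.X (0, 0, 2)) := C.c1.cm (y := (-2, -1, 1)) (z := (0, 0, 2)) rfl rfl (by decide) (by decide)
      (by decide) (by decide)
  have h1 : Cm (C.X (1, 1, 2)) (C.X (0, 0, 2)) := C.c3.cm (y := (1, 1, 2)) (z := (0, 0, 2)) rfl rfl (by decide) (by decide)
      (by decide) (by decide)
  have h2 : Cm (C.X (0, 0, 2)) (C.X (-1, -2, -1)) := C.cw.gn (y := (-1, 0, 1)) (z := (1, 0, 0)) (w := (0, 0, 1)) i0 i1 i2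
      (by decide) (by decide) (by decide) (by decide) h0.symm h1.symm
  exact C.c2.ncm (y := (0, 0, 2)) (z := (-1, -2, -1)) rfl rfl (by decide) (by decide) (by decide) h2

theorem pat24 (C : Conf G 1 (-1) (-1) 1 1 1) : False := by
  have i0 : C.Y (0, 1, 0) = C.X (2, -1, -1) := C.b_pos
  have i1 : C.Y (1, -1, 0) = C.X (-1, 2, -1) := by
    have k1 : Cm (C.X (0, 2, 0)) (C.X (1, 1, 2)) := C.c3.cm rfl rfl (by decide) (by decide) (by decide)
      (by decide)
    have k2 : Cm (C.X (0, 2, 0)) (C.X (-2, 1, 1)) := C.c1.cm rfl rfl (by decide) (by decide) (by decide)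
      (by decide)
    have k3 : Cm (C.X (0, 2, 0)) (C.Y (1, -1, 0)) := C.cw.gn (y := (1, 0, 0)) (z := (0, -1, 0)) C.a_pos C.b_neg rfl
      (by decide) (by decide) (by decide) (by decide) k1 k2
    rcases C.ab 1 (-1) (by decide) (by decide) with h | h | h | h
    · exact absurd (k3 : Cm (C.X (0, 2, 0)) (C.Y (1, -1, 0))) (C.c2.ncm rfl (h.symm : C.X (1, -2, 1) = C.Y (1, -1, 0))
        (by decide) (by decide) (by decide))
    · exact h
    · exact absurd (k3 : Cm (C.X (0, 2, 0)) (C.Y (1, -1, 0))) (C.c2.ncm rfl (h.symm : C.X (1, 0, -1) = C.Y (1, -1, 0))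
        (by decide) (by decide) (by decide))
    · exact absurd (k3 : Cm (C.X (0, 2, 0)) (C.Y (1, -1, 0))) (C.c2.ncm rfl (h.symm : C.X (-1, 0, 1) = C.Y (1, -1, 0))
        (by decide) (by decide) (by decide))
  have i2 : C.Y (1, 0, 0) = C.X (1, 1, 2) := C.a_pos
  have h0 : Cm (C.X (2, -1, -1)) (C.X (0, 0, -2)) := C.c1.cm (y := (2, -1, -1)) (z := (0, 0, -2)) rfl rfl (by decide) (by decide)
      (by decide) (by decide)
  have h1 : Cm (C.X (-1, 2, -1)) (C.X (0, 0, -2)) := C.c2.cm (y := (-1, 2, -1)) (z := (0, 0, -2)) rfl rfl (by decide) (by decide)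
      (by decide) (by decide)
  have h2 : Cm (C.X (0, 0, -2)) (C.X (1, 1, 2)) := C.cw.gn (y := (0, 1, 0)) (z := (1, -1, 0)) (w := (1, 0, 0)) i0 i1 i2
      (by decide) (by decide) (by decide) (by decide) h0.symm h1.symm
  exact C.c3.ncm (y := (0, 0, -2)) (z := (1, 1, 2)) rfl rfl (by decide) (by decide) (by decide) h2

theorem pat25 (C : Conf G 1 (-1) (-1) 1 1 (-1)) : False := by
  have i0 : C.Y (0, -1, -1) = C.X (-1, -1, 2) := by
    have k1 : Cm (C.X (0, 0, 2)) (C.X (-2, 1, 1)) := C.c1.cm rfl rfl (by decide) (by decide) (by decide)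
      (by decide)
    have k2 : Cm (C.X (0, 0, 2)) (C.X (-1, -2, 1)) := C.c2.cm rfl rfl (by decide) (by decide) (by decide)
      (by decide)
    have k3 : Cm (C.X (0, 0, 2)) (C.Y (0, -1, -1)) := C.cw.gn (y := (0, -1, 0)) (z := (0, 0, -1)) C.b_neg C.c_neg rfl
      (by decide) (by decide) (by decide) (by decide) k1 k2
    rcases C.bc (-1) (-1) (by decide) (by decide) with h | h | h | h
    · exact absurd (k3 : Cm (C.X (0, 0, 2)) (C.Y (0, -1, -1))) (C.c3.ncm rfl (h.symm : C.X (1, 1, -2) = C.Y (0, -1, -1))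
        (by decide) (by decide) (by decide))
    · exact h
    · exact absurd (k3 : Cm (C.X (0, 0, 2)) (C.Y (0, -1, -1))) (C.c3.ncm rfl (h.symm : C.X (1, -1, 0) = C.Y (0, -1, -1))
        (by decide) (by decide) (by decide))
    · exact absurd (k3 : Cm (C.X (0, 0, 2)) (C.Y (0, -1, -1))) (C.c3.ncm rfl (h.symm : C.X (-1, 1, 0) = C.Y (0, -1, -1))
        (by decide) (by decide) (by decide))
  have i1 : C.Y (0, -1, 0) = C.X (-2, 1, 1) := C.b_neg
  have i2 : C.Y (1, 0, 1) = C.X (2, 1, 1) := by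
    have k1 : Cm (C.X (2, 0, 0)) (C.X (1, 1, 2)) := C.c3.cm rfl rfl (by decide) (by decide) (by decide)
      (by decide)
    have k2 : Cm (C.X (2, 0, 0)) (C.X (1, 2, -1)) := C.c2.cm rfl rfl (by decide) (by decide) (by decide)
      (by decide)
    have k3 : Cm (C.X (2, 0, 0)) (C.Y (1, 0, 1)) := C.cw.gn (y := (1, 0, 0)) (z := (0, 0, 1)) C.a_pos C.c_pos rfl
      (by decide) (by decide) (by decide) (by decide) k1 k2
    rcases C.ac 1 1 (by decide) (by decide) with h | h | h | h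
    · exact absurd (k3 : Cm (C.X (2, 0, 0)) (C.Y (1, 0, 1))) (C.c1.ncm rfl (h.symm : C.X (-2, -1, -1) = C.Y (1, 0, 1))
        (by decide) (by decide) (by decide))
    · exact h
    · exact absurd (k3 : Cm (C.X (2, 0, 0)) (C.Y (1, 0, 1))) (C.c1.ncm rfl (h.symm : C.X (0, -1, 1) = C.Y (1, 0, 1))
        (by decide) (by decide) (by decide))
    · exact absurd (k3 : Cm (C.X (2, 0, 0)) (C.Y (1, 0, 1))) (C.c1.ncm rfl (h.symm : C.X (0, 1, -1) = C.Y (1, 0, 1))
        (by decide) (by decide) (by decide))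
  have i3 : C.Y (1, -1, 0) = C.X (-1, 2, 1) := by
    have k1 : Cm (C.X (0, 2, 0)) (C.X (1, 1, 2)) := C.c3.cm rfl rfl (by decide) (by decide) (by decide)
      (by decide)
    have k2 : Cm (C.X (0, 2, 0)) (C.X (-2, 1, 1)) := C.c1.cm rfl rfl (by decide) (by decide) (by decide)
      (by decide)
    have k3 : Cm (C.X (0, 2, 0)) (C.Y (1, -1, 0)) := C.cw.gn (y := (1, 0, 0)) (z := (0, -1, 0)) C.a_pos C.b_neg rfl
      (by decide) (by decide) (by decide) (by decide) k1 k2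
    rcases C.ab 1 (-1) (by decide) (by decide) with h | h | h | h
    · exact absurd (k3 : Cm (C.X (0, 2, 0)) (C.Y (1, -1, 0))) (C.c2.ncm rfl (h.symm : C.X (1, -2, -1) = C.Y (1, -1, 0))
        (by decide) (by decide) (by decide))
    · exact h
    · exact absurd (k3 : Cm (C.X (0, 2, 0)) (C.Y (1, -1, 0))) (C.c2.ncm rfl (h.symm : C.X (1, 0, 1) = C.Y (1, -1, 0))
        (by decide) (by decide) (by decide))
    · exact absurd (k3 : Cm (C.X (0, 2, 0)) (C.Y (1, -1, 0))) (C.c2.ncm rfl (h.symm : C.X (-1, 0, -1) = C.Y (1, -1, 0))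
        (by decide) (by decide) (by decide))
  have i4 : C.Y (0, 0, -1) = C.X (-1, -2, 1) := C.c_neg
  have i5 : C.Y (1, 0, 0) = C.X (1, 1, 2) := C.a_pos
  have h0 : Cm (C.X (1, -1, 2)) (C.X (-1, -1, 2)) := C.c3.cm (y := (1, -1, 2)) (z := (-1, -1, 2)) rfl rfl (by decide) (by decide)
      (by decide) (by decide)
  have h1 : Cm (C.X (-1, -1, 2)) (C.X (-2, 1, 1)) := C.cw.cm (y := (0, -1, -1)) (z := (0, -1, 0)) i0 i1 (by decide) (by decide)
      (by decide) (by decide)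
  have h2 : Cm (C.X (1, -1, 2)) (C.X (2, 1, 1)) := nst1 C.n1 (v := (-1, -1, 2)) (w := (-2, 1, 1)) (by decide) (by decide)
      (by decide) (by decide) h1
  have h3 : Cm (C.X (1, -1, 2)) (C.X (-1, 2, 1)) := C.cw.gn (y := (0, -1, -1)) (z := (1, 0, 1)) (w := (1, -1, 0)) i0 i2 i3
      (by decide) (by decide) (by decide) (by decide) h0 h2
  have h4 : Cm (C.X (1, 1, 2)) (C.X (-1, -2, 1)) := nst2 C.n2 (v := (1, -1, 2)) (w := (-1, 2, 1)) (by decide) (by decide)
      (by decide) (by decide) h3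
  exact C.cw.ncm (y := (0, 0, -1)) (z := (1, 0, 0)) i4 i5 (by decide) (by decide) (by decide) h4.symm

theorem pat26 (C : Conf G 1 (-1) (-1) 1 (-1) 1) : False := by
  have i0 : C.Y (1, 0, 1) = C.X (2, 1, 1) := by
    have k1 : Cm (C.X (2, 0, 0)) (C.X (1, 1, 2)) := C.c3.cm rfl rfl (by decide) (by decide) (by decide)
      (by decide)
    have k2 : Cm (C.X (2, 0, 0)) (C.X (1, -2, 1)) := C.c2.cm rfl rfl (by decide) (by decide) (by decide)
      (by decide)
    have k3 : Cm (C.X (2, 0, 0)) (C.Y (1, 0, 1)) := C.cw.gn (y := (1, 0, 0)) (z := (0, 0, 1)) C.a_pos C.c_pos rfl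
      (by decide) (by decide) (by decide) (by decide) k1 k2
    rcases C.ac 1 1 (by decide) (by decide) with h | h | h | h
    · exact absurd (k3 : Cm (C.X (2, 0, 0)) (C.Y (1, 0, 1))) (C.c1.ncm rfl (h.symm : C.X (-2, -1, -1) = C.Y (1, 0, 1))
        (by decide) (by decide) (by decide))
    · exact h
    · exact absurd (k3 : Cm (C.X (2, 0, 0)) (C.Y (1, 0, 1))) (C.c1.ncm rfl (h.symm : C.X (0, -1, 1) = C.Y (1, 0, 1))
        (by decide) (by decide) (by decide))
    · exact absurd (k3 : Cm (C.X (2, 0, 0)) (C.Y (1, 0, 1))) (C.c1.ncm rfl (h.symm : C.X (0, 1, -1) = C.Y (1, 0, 1))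
        (by decide) (by decide) (by decide))
  have i1 : C.Y (0, -1, 1) = C.X (-1, -1, 2) := by
    have k1 : Cm (C.X (0, 0, 2)) (C.X (-2, 1, 1)) := C.c1.cm rfl rfl (by decide) (by decide) (by decide)
      (by decide)
    have k2 : Cm (C.X (0, 0, 2)) (C.X (1, -2, 1)) := C.c2.cm rfl rfl (by decide) (by decide) (by decide)
      (by decide)
    have k3 : Cm (C.X (0, 0, 2)) (C.Y (0, -1, 1)) := C.cw.gn (y := (0, -1, 0)) (z := (0, 0, 1)) C.b_neg C.c_pos rfl
      (by decide) (by decide) (by decide) (by decide) k1 k2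
    rcases C.bc (-1) 1 (by decide) (by decide) with h | h | h | h
    · exact absurd (k3 : Cm (C.X (0, 0, 2)) (C.Y (0, -1, 1))) (C.c3.ncm rfl (h.symm : C.X (1, 1, -2) = C.Y (0, -1, 1))
        (by decide) (by decide) (by decide))
    · exact h
    · exact absurd (k3 : Cm (C.X (0, 0, 2)) (C.Y (0, -1, 1))) (C.c3.ncm rfl (h.symm : C.X (1, -1, 0) = C.Y (0, -1, 1))
        (by decide) (by decide) (by decide))
    · exact absurd (k3 : Cm (C.X (0, 0, 2)) (C.Y (0, -1, 1))) (C.c3.ncm rfl (h.symm : C.X (-1, 1, 0) = C.Y (0, -1, 1))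
        (by decide) (by decide) (by decide))
  have i2 : C.Y (-1, 0, 0) = C.X (-1, -1, -2) := C.a_neg
  have i3 : C.Y (0, 1, 0) = C.X (2, -1, -1) := C.b_pos
  have h0 : Cm (C.X (-1, -1, -2)) (C.X (0, -2, 0)) := C.c3.cm (y := (-1, -1, -2)) (z := (0, -2, 0)) rfl rfl (by decide) (by decide)
      (by decide) (by decide)
  have h1 : Cm (C.X (2, 1, 1)) (C.X (-1, -1, 2)) := C.cw.cm (y := (1, 0, 1)) (z := (0, -1, 1)) i0 i1 (by decide) (by decide)
      (by decide) (by decide)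
  have h2 : Cm (C.X (2, 1, -1)) (C.X (-1, -1, -2)) := nst3 C.n3 (v := (2, 1, 1)) (w := (-1, -1, 2)) (by decide) (by decide)
      (by decide) (by decide) h1
  have h3 : Cm (C.X (-1, -1, -2)) (C.X (2, -1, -1)) := C.c1.gn (y := (0, -2, 0)) (z := (2, 1, -1)) (w := (2, -1, -1)) rfl rfl rfl
      (by decide) (by decide) (by decide) (by decide) h0 h2.symm
  exact C.cw.ncm (y := (-1, 0, 0)) (z := (0, 1, 0)) i2 i3 (by decide) (by decide) (by decide) h3

theorem pat27 (C : Conf G 1 (-1) (-1) 1 (-1) (-1)) : False := by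
  have i0 : C.Y (0, -1, -1) = C.X (-1, -1, 2) := by
    have k1 : Cm (C.X (0, 0, 2)) (C.X (-2, 1, 1)) := C.c1.cm rfl rfl (by decide) (by decide) (by decide)
      (by decide)
    have k2 : Cm (C.X (0, 0, 2)) (C.X (-1, 2, 1)) := C.c2.cm rfl rfl (by decide) (by decide) (by decide)
      (by decide)
    have k3 : Cm (C.X (0, 0, 2)) (C.Y (0, -1, -1)) := C.cw.gn (y := (0, -1, 0)) (z := (0, 0, -1)) C.b_neg C.c_neg rfl
      (by decide) (by decide) (by decide) (by decide) k1 k2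
    rcases C.bc (-1) (-1) (by decide) (by decide) with h | h | h | h
    · exact absurd (k3 : Cm (C.X (0, 0, 2)) (C.Y (0, -1, -1))) (C.c3.ncm rfl (h.symm : C.X (1, 1, -2) = C.Y (0, -1, -1))
        (by decide) (by decide) (by decide))
    · exact h
    · exact absurd (k3 : Cm (C.X (0, 0, 2)) (C.Y (0, -1, -1))) (C.c3.ncm rfl (h.symm : C.X (1, -1, 0) = C.Y (0, -1, -1))
        (by decide) (by decide) (by decide))
    · exact absurd (k3 : Cm (C.X (0, 0, 2)) (C.Y (0, -1, -1))) (C.c3.ncm rfl (h.symm : C.X (-1, 1, 0) = C.Y (0, -1, -1))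
        (by decide) (by decide) (by decide))
  have i1 : C.Y (1, 0, 1) = C.X (2, 1, 1) := by
    have k1 : Cm (C.X (2, 0, 0)) (C.X (1, 1, 2)) := C.c3.cm rfl rfl (by decide) (by decide) (by decide)
      (by decide)
    have k2 : Cm (C.X (2, 0, 0)) (C.X (1, -2, -1)) := C.c2.cm rfl rfl (by decide) (by decide) (by decide)
      (by decide)
    have k3 : Cm (C.X (2, 0, 0)) (C.Y (1, 0, 1)) := C.cw.gn (y := (1, 0, 0)) (z := (0, 0, 1)) C.a_pos C.c_pos rfl
      (by decide) (by decide) (by decide) (by decide) k1 k2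
    rcases C.ac 1 1 (by decide) (by decide) with h | h | h | h
    · exact absurd (k3 : Cm (C.X (2, 0, 0)) (C.Y (1, 0, 1))) (C.c1.ncm rfl (h.symm : C.X (-2, -1, -1) = C.Y (1, 0, 1))
        (by decide) (by decide) (by decide))
    · exact h
    · exact absurd (k3 : Cm (C.X (2, 0, 0)) (C.Y (1, 0, 1))) (C.c1.ncm rfl (h.symm : C.X (0, -1, 1) = C.Y (1, 0, 1))
        (by decide) (by decide) (by decide))
    · exact absurd (k3 : Cm (C.X (2, 0, 0)) (C.Y (1, 0, 1))) (C.c1.ncm rfl (h.symm : C.X (0, 1, -1) = C.Y (1, 0, 1))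
        (by decide) (by decide) (by decide))
  have i2 : C.Y (1, -1, 0) = C.X (1, 2, -1) := by
    have k1 : Cm (C.X (0, 2, 0)) (C.X (1, 1, 2)) := C.c3.cm rfl rfl (by decide) (by decide) (by decide)
      (by decide)
    have k2 : Cm (C.X (0, 2, 0)) (C.X (-2, 1, 1)) := C.c1.cm rfl rfl (by decide) (by decide) (by decide)
      (by decide)
    have k3 : Cm (C.X (0, 2, 0)) (C.Y (1, -1, 0)) := C.cw.gn (y := (1, 0, 0)) (z := (0, -1, 0)) C.a_pos C.b_neg rfl
      (by decide) (by decide) (by decide) (by decide) k1 k2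
    rcases C.ab 1 (-1) (by decide) (by decide) with h | h | h | h
    · exact h
    · exact absurd (k3 : Cm (C.X (0, 2, 0)) (C.Y (1, -1, 0))) (C.c2.ncm rfl (h.symm : C.X (-1, -2, 1) = C.Y (1, -1, 0))
        (by decide) (by decide) (by decide))
    · exact absurd (k3 : Cm (C.X (0, 2, 0)) (C.Y (1, -1, 0))) (C.c2.ncm rfl (h.symm : C.X (1, 0, 1) = C.Y (1, -1, 0))
        (by decide) (by decide) (by decide))
    · exact absurd (k3 : Cm (C.X (0, 2, 0)) (C.Y (1, -1, 0))) (C.c2.ncm rfl (h.symm : C.X (-1, 0, -1) = C.Y (1, -1, 0))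
        (by decide) (by decide) (by decide))
  have h0 : Cm (C.X (-1, -1, 2)) (C.X (0, 0, 2)) := C.c3.cm (y := (-1, -1, 2)) (z := (0, 0, 2)) rfl rfl (by decide) (by decide)
      (by decide) (by decide)
  have h1 : Cm (C.X (2, 1, 1)) (C.X (0, 0, 2)) := C.c1.cm (y := (2, 1, 1)) (z := (0, 0, 2)) rfl rfl (by decide) (by decide)
      (by decide) (by decide)
  have h2 : Cm (C.X (0, 0, 2)) (C.X (1, 2, -1)) := C.cw.gn (y := (0, -1, -1)) (z := (1, 0, 1)) (w := (1, -1, 0)) i0 i1 i2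
      (by decide) (by decide) (by decide) (by decide) h0.symm h1.symm
  exact C.c2.ncm (y := (1, 2, -1)) (z := (0, 0, 2)) rfl rfl (by decide) (by decide) (by decide) h2.symm

theorem pat28 (C : Conf G 1 (-1) (-1) (-1) 1 1) : False := by
  have i0 : C.Y (-1, 0, 1) = C.X (-2, -1, -1) := by
    have k1 : Cm (C.X (-2, 0, 0)) (C.X (-1, -1, -2)) := C.c3.cm rfl rfl (by decide) (by decide) (by decide)
      (by decide)
    have k2 : Cm (C.X (-2, 0, 0)) (C.X (-1, 2, 1)) := C.c2.cm rfl rfl (by decide) (by decide) (by decide)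
      (by decide)
    have k3 : Cm (C.X (-2, 0, 0)) (C.Y (-1, 0, 1)) := C.cw.gn (y := (-1, 0, 0)) (z := (0, 0, 1)) C.a_neg C.c_pos rfl
      (by decide) (by decide) (by decide) (by decide) k1 k2
    rcases C.ac (-1) 1 (by decide) (by decide) with h | h | h | h
    · exact h
    · exact absurd (k3 : Cm (C.X (-2, 0, 0)) (C.Y (-1, 0, 1))) (C.c1.ncm rfl (h.symm : C.X (2, 1, 1) = C.Y (-1, 0, 1))
        (by decide) (by decide) (by decide))
    · exact absurd (k3 : Cm (C.X (-2, 0, 0)) (C.Y (-1, 0, 1))) (C.c1.ncm rfl (h.symm : C.X (0, -1, 1) = C.Y (-1, 0, 1))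
        (by decide) (by decide) (by decide))
    · exact absurd (k3 : Cm (C.X (-2, 0, 0)) (C.Y (-1, 0, 1))) (C.c1.ncm rfl (h.symm : C.X (0, 1, -1) = C.Y (-1, 0, 1))
        (by decide) (by decide) (by decide))
  have i1 : C.Y (1, -1, 0) = C.X (1, 2, -1) := by
    have k1 : Cm (C.X (0, 2, 0)) (C.X (1, 1, 2)) := C.c3.cm rfl rfl (by decide) (by decide) (by decide)
      (by decide)
    have k2 : Cm (C.X (0, 2, 0)) (C.X (-2, 1, 1)) := C.c1.cm rfl rfl (by decide) (by decide) (by decide)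
      (by decide)
    have k3 : Cm (C.X (0, 2, 0)) (C.Y (1, -1, 0)) := C.cw.gn (y := (1, 0, 0)) (z := (0, -1, 0)) C.a_pos C.b_neg rfl
      (by decide) (by decide) (by decide) (by decide) k1 k2
    rcases C.ab 1 (-1) (by decide) (by decide) with h | h | h | h
    · exact absurd (k3 : Cm (C.X (0, 2, 0)) (C.Y (1, -1, 0))) (C.c2.ncm rfl (h.symm : C.X (-1, -2, 1) = C.Y (1, -1, 0))
        (by decide) (by decide) (by decide))
    · exact h
    · exact absurd (k3 : Cm (C.X (0, 2, 0)) (C.Y (1, -1, 0))) (C.c2.ncm rfl (h.symm : C.X (-1, 0, -1) = C.Y (1, -1, 0))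
        (by decide) (by decide) (by decide))
    · exact absurd (k3 : Cm (C.X (0, 2, 0)) (C.Y (1, -1, 0))) (C.c2.ncm rfl (h.symm : C.X (1, 0, 1) = C.Y (1, -1, 0))
        (by decide) (by decide) (by decide))
  have i2 : C.Y (0, -1, 1) = C.X (-1, -1, 2) := by
    have k1 : Cm (C.X (0, 0, 2)) (C.X (-2, 1, 1)) := C.c1.cm rfl rfl (by decide) (by decide) (by decide)
      (by decide)
    have k2 : Cm (C.X (0, 0, 2)) (C.X (-1, 2, 1)) := C.c2.cm rfl rfl (by decide) (by decide) (by decide)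
      (by decide)
    have k3 : Cm (C.X (0, 0, 2)) (C.Y (0, -1, 1)) := C.cw.gn (y := (0, -1, 0)) (z := (0, 0, 1)) C.b_neg C.c_pos rfl
      (by decide) (by decide) (by decide) (by decide) k1 k2
    rcases C.bc (-1) 1 (by decide) (by decide) with h | h | h | h
    · exact absurd (k3 : Cm (C.X (0, 0, 2)) (C.Y (0, -1, 1))) (C.c3.ncm rfl (h.symm : C.X (1, 1, -2) = C.Y (0, -1, 1))
        (by decide) (by decide) (by decide))
    · exact h
    · exact absurd (k3 : Cm (C.X (0, 0, 2)) (C.Y (0, -1, 1))) (C.c3.ncm rfl (h.symm : C.X (1, -1, 0) = C.Y (0, -1, 1))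
        (by decide) (by decide) (by decide))
    · exact absurd (k3 : Cm (C.X (0, 0, 2)) (C.Y (0, -1, 1))) (C.c3.ncm rfl (h.symm : C.X (-1, 1, 0) = C.Y (0, -1, 1))
        (by decide) (by decide) (by decide))
  have h0 : Cm (C.X (-2, -1, -1)) (C.X (0, 0, -2)) := C.c1.cm (y := (-2, -1, -1)) (z := (0, 0, -2)) rfl rfl (by decide) (by decide)
      (by decide) (by decide)
  have h1 : Cm (C.X (0, 0, -2)) (C.X (1, 2, -1)) := C.c2.cm (y := (0, 0, -2)) (z := (1, 2, -1)) rfl rfl (by decide) (by decide)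
      (by decide) (by decide)
  have h2 : Cm (C.X (0, 0, -2)) (C.X (-1, -1, 2)) := C.cw.gn (y := (-1, 0, 1)) (z := (1, -1, 0)) (w := (0, -1, 1)) i0 i1 i2
      (by decide) (by decide) (by decide) (by decide) h0.symm h1
  exact C.c3.ncm (y := (0, 0, -2)) (z := (-1, -1, 2)) rfl rfl (by decide) (by decide) (by decide) h2

theorem pat29 (C : Conf G 1 (-1) (-1) (-1) 1 (-1)) : False := by
  have i0 : C.Y (0, -1, -1) = C.X (-1, -1, 2) := by
    have k1 : Cm (C.X (0, 0, 2)) (C.X (-2, 1, 1)) := C.c1.cm rfl rfl (by decide) (by decide) (by decide)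
      (by decide)
    have k2 : Cm (C.X (0, 0, 2)) (C.X (1, -2, 1)) := C.c2.cm rfl rfl (by decide) (by decide) (by decide)
      (by decide)
    have k3 : Cm (C.X (0, 0, 2)) (C.Y (0, -1, -1)) := C.cw.gn (y := (0, -1, 0)) (z := (0, 0, -1)) C.b_neg C.c_neg rfl
      (by decide) (by decide) (by decide) (by decide) k1 k2
    rcases C.bc (-1) (-1) (by decide) (by decide) with h | h | h | h
    · exact absurd (k3 : Cm (C.X (0, 0, 2)) (C.Y (0, -1, -1))) (C.c3.ncm rfl (h.symm : C.X (1, 1, -2) = C.Y (0, -1, -1))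
        (by decide) (by decide) (by decide))
    · exact h
    · exact absurd (k3 : Cm (C.X (0, 0, 2)) (C.Y (0, -1, -1))) (C.c3.ncm rfl (h.symm : C.X (1, -1, 0) = C.Y (0, -1, -1))
        (by decide) (by decide) (by decide))
    · exact absurd (k3 : Cm (C.X (0, 0, 2)) (C.Y (0, -1, -1))) (C.c3.ncm rfl (h.symm : C.X (-1, 1, 0) = C.Y (0, -1, -1))
        (by decide) (by decide) (by decide))
  have i1 : C.Y (1, 0, -1) = C.X (2, 1, 1) := by
    have k1 : Cm (C.X (2, 0, 0)) (C.X (1, 1, 2)) := C.c3.cm rfl rfl (by decide) (by decide) (by decide)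
      (by decide)
    have k2 : Cm (C.X (2, 0, 0)) (C.X (1, -2, 1)) := C.c2.cm rfl rfl (by decide) (by decide) (by decide)
      (by decide)
    have k3 : Cm (C.X (2, 0, 0)) (C.Y (1, 0, -1)) := C.cw.gn (y := (1, 0, 0)) (z := (0, 0, -1)) C.a_pos C.c_neg rfl
      (by decide) (by decide) (by decide) (by decide) k1 k2
    rcases C.ac 1 (-1) (by decide) (by decide) with h | h | h | h
    · exact absurd (k3 : Cm (C.X (2, 0, 0)) (C.Y (1, 0, -1))) (C.c1.ncm rfl (h.symm : C.X (-2, -1, -1) = C.Y (1, 0, -1))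
        (by decide) (by decide) (by decide))
    · exact h
    · exact absurd (k3 : Cm (C.X (2, 0, 0)) (C.Y (1, 0, -1))) (C.c1.ncm rfl (h.symm : C.X (0, -1, 1) = C.Y (1, 0, -1))
        (by decide) (by decide) (by decide))
    · exact absurd (k3 : Cm (C.X (2, 0, 0)) (C.Y (1, 0, -1))) (C.c1.ncm rfl (h.symm : C.X (0, 1, -1) = C.Y (1, 0, -1))
        (by decide) (by decide) (by decide))
  have i2 : C.Y (-1, 0, 0) = C.X (-1, -1, -2) := C.a_neg
  have i3 : C.Y (0, 1, 0) = C.X (2, -1, -1) := C.b_pos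
  have h0 : Cm (C.X (-1, -1, -2)) (C.X (0, -2, 0)) := C.c3.cm (y := (-1, -1, -2)) (z := (0, -2, 0)) rfl rfl (by decide) (by decide)
      (by decide) (by decide)
  have h1 : Cm (C.X (-1, -1, 2)) (C.X (2, 1, 1)) := C.cw.cm (y := (0, -1, -1)) (z := (1, 0, -1)) i0 i1 (by decide) (by decide)
      (by decide) (by decide)
  have h2 : Cm (C.X (-1, -1, -2)) (C.X (2, 1, -1)) := nst3 C.n3 (v := (-1, -1, 2)) (w := (2, 1, 1)) (by decide) (by decide)
      (by decide) (by decide) h1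
  have h3 : Cm (C.X (-1, -1, -2)) (C.X (2, -1, -1)) := C.c1.gn (y := (0, -2, 0)) (z := (2, 1, -1)) (w := (2, -1, -1)) rfl rfl rfl
      (by decide) (by decide) (by decide) (by decide) h0 h2
  exact C.cw.ncm (y := (-1, 0, 0)) (z := (0, 1, 0)) i2 i3 (by decide) (by decide) (by decide) h3

theorem pat30 (C : Conf G 1 (-1) (-1) (-1) (-1) 1) : False := by
  have i0 : C.Y (-1, 0, 1) = C.X (-2, -1, -1) := by
    have k1 : Cm (C.X (-2, 0, 0)) (C.X (-1, -1, -2)) := C.c3.cm rfl rfl (by decide) (by decide) (by decide)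
      (by decide)
    have k2 : Cm (C.X (-2, 0, 0)) (C.X (-1, -2, 1)) := C.c2.cm rfl rfl (by decide) (by decide) (by decide)
      (by decide)
    have k3 : Cm (C.X (-2, 0, 0)) (C.Y (-1, 0, 1)) := C.cw.gn (y := (-1, 0, 0)) (z := (0, 0, 1)) C.a_neg C.c_pos rfl
      (by decide) (by decide) (by decide) (by decide) k1 k2
    rcases C.ac (-1) 1 (by decide) (by decide) with h | h | h | h
    · exact h
    · exact absurd (k3 : Cm (C.X (-2, 0, 0)) (C.Y (-1, 0, 1))) (C.c1.ncm rfl (h.symm : C.X (2, 1, 1) = C.Y (-1, 0, 1))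
        (by decide) (by decide) (by decide))
    · exact absurd (k3 : Cm (C.X (-2, 0, 0)) (C.Y (-1, 0, 1))) (C.c1.ncm rfl (h.symm : C.X (0, -1, 1) = C.Y (-1, 0, 1))
        (by decide) (by decide) (by decide))
    · exact absurd (k3 : Cm (C.X (-2, 0, 0)) (C.Y (-1, 0, 1))) (C.c1.ncm rfl (h.symm : C.X (0, 1, -1) = C.Y (-1, 0, 1))
        (by decide) (by decide) (by decide))
  have i1 : C.Y (0, 0, 1) = C.X (-1, -2, 1) := C.c_pos
  have i2 : C.Y (1, -1, 0) = C.X (-1, 2, 1) := by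
    have k1 : Cm (C.X (0, 2, 0)) (C.X (1, 1, 2)) := C.c3.cm rfl rfl (by decide) (by decide) (by decide)
      (by decide)
    have k2 : Cm (C.X (0, 2, 0)) (C.X (-2, 1, 1)) := C.c1.cm rfl rfl (by decide) (by decide) (by decide)
      (by decide)
    have k3 : Cm (C.X (0, 2, 0)) (C.Y (1, -1, 0)) := C.cw.gn (y := (1, 0, 0)) (z := (0, -1, 0)) C.a_pos C.b_neg rfl
      (by decide) (by decide) (by decide) (by decide) k1 k2
    rcases C.ab 1 (-1) (by decide) (by decide) with h | h | h | h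
    · exact h
    · exact absurd (k3 : Cm (C.X (0, 2, 0)) (C.Y (1, -1, 0))) (C.c2.ncm rfl (h.symm : C.X (1, -2, -1) = C.Y (1, -1, 0))
        (by decide) (by decide) (by decide))
    · exact absurd (k3 : Cm (C.X (0, 2, 0)) (C.Y (1, -1, 0))) (C.c2.ncm rfl (h.symm : C.X (-1, 0, -1) = C.Y (1, -1, 0))
        (by decide) (by decide) (by decide))
    · exact absurd (k3 : Cm (C.X (0, 2, 0)) (C.Y (1, -1, 0))) (C.c2.ncm rfl (h.symm : C.X (1, 0, 1) = C.Y (1, -1, 0))
        (by decide) (by decide) (by decide))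
  have i3 : C.Y (0, -1, 1) = C.X (-1, -1, 2) := by
    have k1 : Cm (C.X (0, 0, 2)) (C.X (-2, 1, 1)) := C.c1.cm rfl rfl (by decide) (by decide) (by decide)
      (by decide)
    have k2 : Cm (C.X (0, 0, 2)) (C.X (-1, -2, 1)) := C.c2.cm rfl rfl (by decide) (by decide) (by decide)
      (by decide)
    have k3 : Cm (C.X (0, 0, 2)) (C.Y (0, -1, 1)) := C.cw.gn (y := (0, -1, 0)) (z := (0, 0, 1)) C.b_neg C.c_pos rfl
      (by decide) (by decide) (by decide) (by decide) k1 k2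
    rcases C.bc (-1) 1 (by decide) (by decide) with h | h | h | h
    · exact absurd (k3 : Cm (C.X (0, 0, 2)) (C.Y (0, -1, 1))) (C.c3.ncm rfl (h.symm : C.X (1, 1, -2) = C.Y (0, -1, 1))
        (by decide) (by decide) (by decide))
    · exact h
    · exact absurd (k3 : Cm (C.X (0, 0, 2)) (C.Y (0, -1, 1))) (C.c3.ncm rfl (h.symm : C.X (1, -1, 0) = C.Y (0, -1, 1))
        (by decide) (by decide) (by decide))
    · exact absurd (k3 : Cm (C.X (0, 0, 2)) (C.Y (0, -1, 1))) (C.c3.ncm rfl (h.symm : C.X (-1, 1, 0) = C.Y (0, -1, 1))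
        (by decide) (by decide) (by decide))
  have i4 : C.Y (-1, 0, 0) = C.X (-1, -1, -2) := C.a_neg
  have i5 : C.Y (0, -1, 0) = C.X (-2, 1, 1) := C.b_neg
  have h0 : Cm (C.X (-2, 1, -1)) (C.X (-2, -1, -1)) := C.c1.cm (y := (-2, 1, -1)) (z := (-2, -1, -1)) rfl rfl (by decide) (by decide)
      (by decide) (by decide)
  have h1 : Cm (C.X (-2, -1, -1)) (C.X (-1, -2, 1)) := C.cw.cm (y := (-1, 0, 1)) (z := (0, 0, 1)) i0 i1 (by decide) (by decide)
      (by decide) (by decide)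
  have h2 : Cm (C.X (-2, 1, -1)) (C.X (-1, 2, 1)) := nst2 C.n2 (v := (-2, -1, -1)) (w := (-1, -2, 1)) (by decide) (by decide)
      (by decide) (by decide) h1
  have h3 : Cm (C.X (-2, 1, -1)) (C.X (-1, -1, 2)) := C.cw.gn (y := (-1, 0, 1)) (z := (1, -1, 0)) (w := (0, -1, 1)) i0 i2 i3
      (by decide) (by decide) (by decide) (by decide) h0 h2
  have h4 : Cm (C.X (-2, 1, 1)) (C.X (-1, -1, -2)) := nst3 C.n3 (v := (-2, 1, -1)) (w := (-1, -1, 2)) (by decide) (by decide)
      (by decide) (by decide) h3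
  exact C.cw.ncm (y := (-1, 0, 0)) (z := (0, -1, 0)) i4 i5 (by decide) (by decide) (by decide) h4.symm

theorem pat31 (C : Conf G 1 (-1) (-1) (-1) (-1) (-1)) : False := by
  have i0 : C.Y (0, -1, -1) = C.X (-1, -1, 2) := by
    have k1 : Cm (C.X (0, 0, 2)) (C.X (-2, 1, 1)) := C.c1.cm rfl rfl (by decide) (by decide) (by decide)
      (by decide)
    have k2 : Cm (C.X (0, 0, 2)) (C.X (1, 2, 1)) := C.c2.cm rfl rfl (by decide) (by decide) (by decide)
      (by decide)
    have k3 : Cm (C.X (0, 0, 2)) (C.Y (0, -1, -1)) := C.cw.gn (y := (0, -1, 0)) (z := (0, 0, -1)) C.b_neg C.c_neg rfl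
      (by decide) (by decide) (by decide) (by decide) k1 k2
    rcases C.bc (-1) (-1) (by decide) (by decide) with h | h | h | h
    · exact absurd (k3 : Cm (C.X (0, 0, 2)) (C.Y (0, -1, -1))) (C.c3.ncm rfl (h.symm : C.X (1, 1, -2) = C.Y (0, -1, -1))
        (by decide) (by decide) (by decide))
    · exact h
    · exact absurd (k3 : Cm (C.X (0, 0, 2)) (C.Y (0, -1, -1))) (C.c3.ncm rfl (h.symm : C.X (1, -1, 0) = C.Y (0, -1, -1))
        (by decide) (by decide) (by decide))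
    · exact absurd (k3 : Cm (C.X (0, 0, 2)) (C.Y (0, -1, -1))) (C.c3.ncm rfl (h.symm : C.X (-1, 1, 0) = C.Y (0, -1, -1))
        (by decide) (by decide) (by decide))
  have i1 : C.Y (0, 1, 0) = C.X (2, -1, -1) := C.b_pos
  have i2 : C.Y (0, 0, -1) = C.X (1, 2, 1) := C.c_neg
  have h0 : Cm (C.X (-1, -1, 2)) (C.X (0, -2, 0)) := C.c3.cm (y := (-1, -1, 2)) (z := (0, -2, 0)) rfl rfl (by decide) (by decide)
      (by decide) (by decide)
  have h1 : Cm (C.X (0, -2, 0)) (C.X (2, -1, -1)) := C.c1.cm (y := (0, -2, 0)) (z := (2, -1, -1)) rfl rfl (by decide) (by decide)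
      (by decide) (by decide)
  have h2 : Cm (C.X (0, -2, 0)) (C.X (1, 2, 1)) := C.cw.gn (y := (0, -1, -1)) (z := (0, 1, 0)) (w := (0, 0, -1)) i0 i1 i2
      (by decide) (by decide) (by decide) (by decide) h0.symm h1
  exact C.c2.ncm (y := (0, -2, 0)) (z := (1, 2, 1)) rfl rfl (by decide) (by decide) (by decide) h2

theorem pat32 (C : Conf G (-1) 1 1 1 1 1) : False := by
  have i0 : C.Y (0, -1, -1) = C.X (1, 1, -2) := by
    have k1 : Cm (C.X (0, 0, -2)) (C.X (2, -1, -1)) := C.c1.cm rfl rfl (by decide) (by decide) (by decide)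
      (by decide)
    have k2 : Cm (C.X (0, 0, -2)) (C.X (-1, -2, -1)) := C.c2.cm rfl rfl (by decide) (by decide) (by decide)
      (by decide)
    have k3 : Cm (C.X (0, 0, -2)) (C.Y (0, -1, -1)) := C.cw.gn (y := (0, -1, 0)) (z := (0, 0, -1)) C.b_neg C.c_neg rfl
      (by decide) (by decide) (by decide) (by decide) k1 k2
    rcases C.bc (-1) (-1) (by decide) (by decide) with h | h | h | h
    · exact h
    · exact absurd (k3 : Cm (C.X (0, 0, -2)) (C.Y (0, -1, -1))) (C.c3.ncm rfl (h.symm : C.X (-1, -1, 2) = C.Y (0, -1, -1))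
        (by decide) (by decide) (by decide))
    · exact absurd (k3 : Cm (C.X (0, 0, -2)) (C.Y (0, -1, -1))) (C.c3.ncm rfl (h.symm : C.X (1, -1, 0) = C.Y (0, -1, -1))
        (by decide) (by decide) (by decide))
    · exact absurd (k3 : Cm (C.X (0, 0, -2)) (C.Y (0, -1, -1))) (C.c3.ncm rfl (h.symm : C.X (-1, 1, 0) = C.Y (0, -1, -1))
        (by decide) (by decide) (by decide))
  have i1 : C.Y (0, 1, 0) = C.X (-2, 1, 1) := C.b_pos
  have i2 : C.Y (0, 0, -1) = C.X (-1, -2, -1) := C.c_neg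
  have h0 : Cm (C.X (0, 2, 0)) (C.X (1, 1, -2)) := C.c3.cm (y := (0, 2, 0)) (z := (1, 1, -2)) rfl rfl (by decide) (by decide)
      (by decide) (by decide)
  have h1 : Cm (C.X (-2, 1, 1)) (C.X (0, 2, 0)) := C.c1.cm (y := (-2, 1, 1)) (z := (0, 2, 0)) rfl rfl (by decide) (by decide)
      (by decide) (by decide)
  have h2 : Cm (C.X (0, 2, 0)) (C.X (-1, -2, -1)) := C.cw.gn (y := (0, -1, -1)) (z := (0, 1, 0)) (w := (0, 0, -1)) i0 i1 i2
      (by decide) (by decide) (by decide) (by decide) h0 h1.symm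
  exact C.c2.ncm (y := (-1, -2, -1)) (z := (0, 2, 0)) rfl rfl (by decide) (by decide) (by decide) h2.symm

theorem pat33 (C : Conf G (-1) 1 1 1 1 (-1)) : False := by
  have i0 : C.Y (-1, 0, -1) = C.X (-2, -1, -1) := by
    have k1 : Cm (C.X (-2, 0, 0)) (C.X (-1, -1, -2)) := C.c3.cm rfl rfl (by decide) (by decide) (by decide)
      (by decide)
    have k2 : Cm (C.X (-2, 0, 0)) (C.X (-1, -2, 1)) := C.c2.cm rfl rfl (by decide) (by decide) (by decide)
      (by decide)
    have k3 : Cm (C.X (-2, 0, 0)) (C.Y (-1, 0, -1)) := C.cw.gn (y := (-1, 0, 0)) (z := (0, 0, -1)) C.a_neg C.c_neg rfl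
      (by decide) (by decide) (by decide) (by decide) k1 k2
    rcases C.ac (-1) (-1) (by decide) (by decide) with h | h | h | h
    · exact absurd (k3 : Cm (C.X (-2, 0, 0)) (C.Y (-1, 0, -1))) (C.c1.ncm rfl (h.symm : C.X (2, 1, 1) = C.Y (-1, 0, -1))
        (by decide) (by decide) (by decide))
    · exact h
    · exact absurd (k3 : Cm (C.X (-2, 0, 0)) (C.Y (-1, 0, -1))) (C.c1.ncm rfl (h.symm : C.X (0, 1, -1) = C.Y (-1, 0, -1))
        (by decide) (by decide) (by decide))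
    · exact absurd (k3 : Cm (C.X (-2, 0, 0)) (C.Y (-1, 0, -1))) (C.c1.ncm rfl (h.symm : C.X (0, -1, 1) = C.Y (-1, 0, -1))
        (by decide) (by decide) (by decide))
  have i1 : C.Y (0, 0, -1) = C.X (-1, -2, 1) := C.c_neg
  have i2 : C.Y (1, 1, 0) = C.X (-1, 2, 1) := by
    have k1 : Cm (C.X (0, 2, 0)) (C.X (1, 1, 2)) := C.c3.cm rfl rfl (by decide) (by decide) (by decide)
      (by decide)
    have k2 : Cm (C.X (0, 2, 0)) (C.X (-2, 1, 1)) := C.c1.cm rfl rfl (by decide) (by decide) (by decide)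
      (by decide)
    have k3 : Cm (C.X (0, 2, 0)) (C.Y (1, 1, 0)) := C.cw.gn (y := (1, 0, 0)) (z := (0, 1, 0)) C.a_pos C.b_pos rfl
      (by decide) (by decide) (by decide) (by decide) k1 k2
    rcases C.ab 1 1 (by decide) (by decide) with h | h | h | h
    · exact absurd (k3 : Cm (C.X (0, 2, 0)) (C.Y (1, 1, 0))) (C.c2.ncm rfl (h.symm : C.X (1, -2, -1) = C.Y (1, 1, 0))
        (by decide) (by decide) (by decide))
    · exact h
    · exact absurd (k3 : Cm (C.X (0, 2, 0)) (C.Y (1, 1, 0))) (C.c2.ncm rfl (h.symm : C.X (1, 0, 1) = C.Y (1, 1, 0))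
        (by decide) (by decide) (by decide))
    · exact absurd (k3 : Cm (C.X (0, 2, 0)) (C.Y (1, 1, 0))) (C.c2.ncm rfl (h.symm : C.X (-1, 0, -1) = C.Y (1, 1, 0))
        (by decide) (by decide) (by decide))
  have i3 : C.Y (0, 1, -1) = C.X (-1, -1, 2) := by
    have k1 : Cm (C.X (0, 0, 2)) (C.X (-2, 1, 1)) := C.c1.cm rfl rfl (by decide) (by decide) (by decide)
      (by decide)
    have k2 : Cm (C.X (0, 0, 2)) (C.X (-1, -2, 1)) := C.c2.cm rfl rfl (by decide) (by decide) (by decide)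
      (by decide)
    have k3 : Cm (C.X (0, 0, 2)) (C.Y (0, 1, -1)) := C.cw.gn (y := (0, 1, 0)) (z := (0, 0, -1)) C.b_pos C.c_neg rfl
      (by decide) (by decide) (by decide) (by decide) k1 k2
    rcases C.bc 1 (-1) (by decide) (by decide) with h | h | h | h
    · exact absurd (k3 : Cm (C.X (0, 0, 2)) (C.Y (0, 1, -1))) (C.c3.ncm rfl (h.symm : C.X (1, 1, -2) = C.Y (0, 1, -1))
        (by decide) (by decide) (by decide))
    · exact h
    · exact absurd (k3 : Cm (C.X (0, 0, 2)) (C.Y (0, 1, -1))) (C.c3.ncm rfl (h.symm : C.X (1, -1, 0) = C.Y (0, 1, -1))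
        (by decide) (by decide) (by decide))
    · exact absurd (k3 : Cm (C.X (0, 0, 2)) (C.Y (0, 1, -1))) (C.c3.ncm rfl (h.symm : C.X (-1, 1, 0) = C.Y (0, 1, -1))
        (by decide) (by decide) (by decide))
  have i4 : C.Y (-1, 0, 0) = C.X (-1, -1, -2) := C.a_neg
  have i5 : C.Y (0, 1, 0) = C.X (-2, 1, 1) := C.b_pos
  have h0 : Cm (C.X (-2, 1, -1)) (C.X (-2, -1, -1)) := C.c1.cm (y := (-2, 1, -1)) (z := (-2, -1, -1)) rfl rfl (by decide) (by decide)
      (by decide) (by decide)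
  have h1 : Cm (C.X (-2, -1, -1)) (C.X (-1, -2, 1)) := C.cw.cm (y := (-1, 0, -1)) (z := (0, 0, -1)) i0 i1 (by decide) (by decide)
      (by decide) (by decide)
  have h2 : Cm (C.X (-2, 1, -1)) (C.X (-1, 2, 1)) := nst2 C.n2 (v := (-2, -1, -1)) (w := (-1, -2, 1)) (by decide) (by decide)
      (by decide) (by decide) h1
  have h3 : Cm (C.X (-2, 1, -1)) (C.X (-1, -1, 2)) := C.cw.gn (y := (-1, 0, -1)) (z := (1, 1, 0)) (w := (0, 1, -1)) i0 i2 i3
      (by decide) (by decide) (by decide) (by decide) h0 h2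
  have h4 : Cm (C.X (-2, 1, 1)) (C.X (-1, -1, -2)) := nst3 C.n3 (v := (-2, 1, -1)) (w := (-1, -1, 2)) (by decide) (by decide)
      (by decide) (by decide) h3
  exact C.cw.ncm (y := (-1, 0, 0)) (z := (0, 1, 0)) i4 i5 (by decide) (by decide) (by decide) h4.symm

theorem pat34 (C : Conf G (-1) 1 1 1 (-1) 1) : False := by
  have i0 : C.Y (1, 0, 1) = C.X (2, 1, 1) := by
    have k1 : Cm (C.X (2, 0, 0)) (C.X (1, 1, 2)) := C.c3.cm rfl rfl (by decide) (by decide) (by decide)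
      (by decide)
    have k2 : Cm (C.X (2, 0, 0)) (C.X (1, -2, 1)) := C.c2.cm rfl rfl (by decide) (by decide) (by decide)
      (by decide)
    have k3 : Cm (C.X (2, 0, 0)) (C.Y (1, 0, 1)) := C.cw.gn (y := (1, 0, 0)) (z := (0, 0, 1)) C.a_pos C.c_pos rfl
      (by decide) (by decide) (by decide) (by decide) k1 k2
    rcases C.ac 1 1 (by decide) (by decide) with h | h | h | h
    · exact h
    · exact absurd (k3 : Cm (C.X (2, 0, 0)) (C.Y (1, 0, 1))) (C.c1.ncm rfl (h.symm : C.X (-2, -1, -1) = C.Y (1, 0, 1))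
        (by decide) (by decide) (by decide))
    · exact absurd (k3 : Cm (C.X (2, 0, 0)) (C.Y (1, 0, 1))) (C.c1.ncm rfl (h.symm : C.X (0, 1, -1) = C.Y (1, 0, 1))
        (by decide) (by decide) (by decide))
    · exact absurd (k3 : Cm (C.X (2, 0, 0)) (C.Y (1, 0, 1))) (C.c1.ncm rfl (h.symm : C.X (0, -1, 1) = C.Y (1, 0, 1))
        (by decide) (by decide) (by decide))
  have i1 : C.Y (0, 1, 1) = C.X (-1, -1, 2) := by
    have k1 : Cm (C.X (0, 0, 2)) (C.X (-2, 1, 1)) := C.c1.cm rfl rfl (by decide) (by decide) (by decide)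
      (by decide)
    have k2 : Cm (C.X (0, 0, 2)) (C.X (1, -2, 1)) := C.c2.cm rfl rfl (by decide) (by decide) (by decide)
      (by decide)
    have k3 : Cm (C.X (0, 0, 2)) (C.Y (0, 1, 1)) := C.cw.gn (y := (0, 1, 0)) (z := (0, 0, 1)) C.b_pos C.c_pos rfl
      (by decide) (by decide) (by decide) (by decide) k1 k2
    rcases C.bc 1 1 (by decide) (by decide) with h | h | h | h
    · exact absurd (k3 : Cm (C.X (0, 0, 2)) (C.Y (0, 1, 1))) (C.c3.ncm rfl (h.symm : C.X (1, 1, -2) = C.Y (0, 1, 1))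
        (by decide) (by decide) (by decide))
    · exact h
    · exact absurd (k3 : Cm (C.X (0, 0, 2)) (C.Y (0, 1, 1))) (C.c3.ncm rfl (h.symm : C.X (1, -1, 0) = C.Y (0, 1, 1))
        (by decide) (by decide) (by decide))
    · exact absurd (k3 : Cm (C.X (0, 0, 2)) (C.Y (0, 1, 1))) (C.c3.ncm rfl (h.symm : C.X (-1, 1, 0) = C.Y (0, 1, 1))
        (by decide) (by decide) (by decide))
  have i2 : C.Y (-1, 0, 0) = C.X (-1, -1, -2) := C.a_neg
  have i3 : C.Y (0, -1, 0) = C.X (2, -1, -1) := C.b_neg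
  have h0 : Cm (C.X (-1, -1, -2)) (C.X (0, -2, 0)) := C.c3.cm (y := (-1, -1, -2)) (z := (0, -2, 0)) rfl rfl (by decide) (by decide)
      (by decide) (by decide)
  have h1 : Cm (C.X (2, 1, 1)) (C.X (-1, -1, 2)) := C.cw.cm (y := (1, 0, 1)) (z := (0, 1, 1)) i0 i1 (by decide) (by decide)
      (by decide) (by decide)
  have h2 : Cm (C.X (2, 1, -1)) (C.X (-1, -1, -2)) := nst3 C.n3 (v := (2, 1, 1)) (w := (-1, -1, 2)) (by decide) (by decide)
      (by decide) (by decide) h1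
  have h3 : Cm (C.X (-1, -1, -2)) (C.X (2, -1, -1)) := C.c1.gn (y := (0, -2, 0)) (z := (2, 1, -1)) (w := (2, -1, -1)) rfl rfl rfl
      (by decide) (by decide) (by decide) (by decide) h0 h2.symm
  exact C.cw.ncm (y := (-1, 0, 0)) (z := (0, -1, 0)) i2 i3 (by decide) (by decide) (by decide) h3

theorem pat35 (C : Conf G (-1) 1 1 1 (-1) (-1)) : False := by
  have i0 : C.Y (-1, 0, -1) = C.X (-2, -1, -1) := by
    have k1 : Cm (C.X (-2, 0, 0)) (C.X (-1, -1, -2)) := C.c3.cm rfl rfl (by decide) (by decide) (by decide)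
      (by decide)
    have k2 : Cm (C.X (-2, 0, 0)) (C.X (-1, 2, 1)) := C.c2.cm rfl rfl (by decide) (by decide) (by decide)
      (by decide)
    have k3 : Cm (C.X (-2, 0, 0)) (C.Y (-1, 0, -1)) := C.cw.gn (y := (-1, 0, 0)) (z := (0, 0, -1)) C.a_neg C.c_neg rfl
      (by decide) (by decide) (by decide) (by decide) k1 k2
    rcases C.ac (-1) (-1) (by decide) (by decide) with h | h | h | h
    · exact absurd (k3 : Cm (C.X (-2, 0, 0)) (C.Y (-1, 0, -1))) (C.c1.ncm rfl (h.symm : C.X (2, 1, 1) = C.Y (-1, 0, -1))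
        (by decide) (by decide) (by decide))
    · exact h
    · exact absurd (k3 : Cm (C.X (-2, 0, 0)) (C.Y (-1, 0, -1))) (C.c1.ncm rfl (h.symm : C.X (0, 1, -1) = C.Y (-1, 0, -1))
        (by decide) (by decide) (by decide))
    · exact absurd (k3 : Cm (C.X (-2, 0, 0)) (C.Y (-1, 0, -1))) (C.c1.ncm rfl (h.symm : C.X (0, -1, 1) = C.Y (-1, 0, -1))
        (by decide) (by decide) (by decide))
  have i1 : C.Y (1, 1, 0) = C.X (1, 2, -1) := by
    have k1 : Cm (C.X (0, 2, 0)) (C.X (1, 1, 2)) := C.c3.cm rfl rfl (by decide) (by decide) (by decide)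
      (by decide)
    have k2 : Cm (C.X (0, 2, 0)) (C.X (-2, 1, 1)) := C.c1.cm rfl rfl (by decide) (by decide) (by decide)
      (by decide)
    have k3 : Cm (C.X (0, 2, 0)) (C.Y (1, 1, 0)) := C.cw.gn (y := (1, 0, 0)) (z := (0, 1, 0)) C.a_pos C.b_pos rfl
      (by decide) (by decide) (by decide) (by decide) k1 k2
    rcases C.ab 1 1 (by decide) (by decide) with h | h | h | h
    · exact h
    · exact absurd (k3 : Cm (C.X (0, 2, 0)) (C.Y (1, 1, 0))) (C.c2.ncm rfl (h.symm : C.X (-1, -2, 1) = C.Y (1, 1, 0))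
        (by decide) (by decide) (by decide))
    · exact absurd (k3 : Cm (C.X (0, 2, 0)) (C.Y (1, 1, 0))) (C.c2.ncm rfl (h.symm : C.X (1, 0, 1) = C.Y (1, 1, 0))
        (by decide) (by decide) (by decide))
    · exact absurd (k3 : Cm (C.X (0, 2, 0)) (C.Y (1, 1, 0))) (C.c2.ncm rfl (h.symm : C.X (-1, 0, -1) = C.Y (1, 1, 0))
        (by decide) (by decide) (by decide))
  have i2 : C.Y (0, 1, -1) = C.X (-1, -1, 2) := by
    have k1 : Cm (C.X (0, 0, 2)) (C.X (-2, 1, 1)) := C.c1.cm rfl rfl (by decide) (by decide) (by decide)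
      (by decide)
    have k2 : Cm (C.X (0, 0, 2)) (C.X (-1, 2, 1)) := C.c2.cm rfl rfl (by decide) (by decide) (by decide)
      (by decide)
    have k3 : Cm (C.X (0, 0, 2)) (C.Y (0, 1, -1)) := C.cw.gn (y := (0, 1, 0)) (z := (0, 0, -1)) C.b_pos C.c_neg rfl
      (by decide) (by decide) (by decide) (by decide) k1 k2
    rcases C.bc 1 (-1) (by decide) (by decide) with h | h | h | h
    · exact absurd (k3 : Cm (C.X (0, 0, 2)) (C.Y (0, 1, -1))) (C.c3.ncm rfl (h.symm : C.X (1, 1, -2) = C.Y (0, 1, -1))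
        (by decide) (by decide) (by decide))
    · exact h
    · exact absurd (k3 : Cm (C.X (0, 0, 2)) (C.Y (0, 1, -1))) (C.c3.ncm rfl (h.symm : C.X (1, -1, 0) = C.Y (0, 1, -1))
        (by decide) (by decide) (by decide))
    · exact absurd (k3 : Cm (C.X (0, 0, 2)) (C.Y (0, 1, -1))) (C.c3.ncm rfl (h.symm : C.X (-1, 1, 0) = C.Y (0, 1, -1))
        (by decide) (by decide) (by decide))
  have h0 : Cm (C.X (-2, -1, -1)) (C.X (0, 0, -2)) := C.c1.cm (y := (-2, -1, -1)) (z := (0, 0, -2)) rfl rfl (by decide) (by decide)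
      (by decide) (by decide)
  have h1 : Cm (C.X (0, 0, -2)) (C.X (1, 2, -1)) := C.c2.cm (y := (0, 0, -2)) (z := (1, 2, -1)) rfl rfl (by decide) (by decide)
      (by decide) (by decide)
  have h2 : Cm (C.X (0, 0, -2)) (C.X (-1, -1, 2)) := C.cw.gn (y := (-1, 0, -1)) (z := (1, 1, 0)) (w := (0, 1, -1)) i0 i1 i2
      (by decide) (by decide) (by decide) (by decide) h0.symm h1
  exact C.c3.ncm (y := (0, 0, -2)) (z := (-1, -1, 2)) rfl rfl (by decide) (by decide) (by decide) h2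

theorem pat36 (C : Conf G (-1) 1 1 (-1) 1 1) : False := by
  have i0 : C.Y (0, -1, -1) = C.X (1, 1, -2) := by
    have k1 : Cm (C.X (0, 0, -2)) (C.X (2, -1, -1)) := C.c1.cm rfl rfl (by decide) (by decide) (by decide)
      (by decide)
    have k2 : Cm (C.X (0, 0, -2)) (C.X (1, -2, -1)) := C.c2.cm rfl rfl (by decide) (by decide) (by decide)
      (by decide)
    have k3 : Cm (C.X (0, 0, -2)) (C.Y (0, -1, -1)) := C.cw.gn (y := (0, -1, 0)) (z := (0, 0, -1)) C.b_neg C.c_neg rfl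
      (by decide) (by decide) (by decide) (by decide) k1 k2
    rcases C.bc (-1) (-1) (by decide) (by decide) with h | h | h | h
    · exact h
    · exact absurd (k3 : Cm (C.X (0, 0, -2)) (C.Y (0, -1, -1))) (C.c3.ncm rfl (h.symm : C.X (-1, -1, 2) = C.Y (0, -1, -1))
        (by decide) (by decide) (by decide))
    · exact absurd (k3 : Cm (C.X (0, 0, -2)) (C.Y (0, -1, -1))) (C.c3.ncm rfl (h.symm : C.X (1, -1, 0) = C.Y (0, -1, -1))
        (by decide) (by decide) (by decide))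
    · exact absurd (k3 : Cm (C.X (0, 0, -2)) (C.Y (0, -1, -1))) (C.c3.ncm rfl (h.symm : C.X (-1, 1, 0) = C.Y (0, -1, -1))
        (by decide) (by decide) (by decide))
  have i1 : C.Y (1, 1, 0) = C.X (1, 2, -1) := by
    have k1 : Cm (C.X (0, 2, 0)) (C.X (1, 1, 2)) := C.c3.cm rfl rfl (by decide) (by decide) (by decide)
      (by decide)
    have k2 : Cm (C.X (0, 2, 0)) (C.X (-2, 1, 1)) := C.c1.cm rfl rfl (by decide) (by decide) (by decide)
      (by decide)
    have k3 : Cm (C.X (0, 2, 0)) (C.Y (1, 1, 0)) := C.cw.gn (y := (1, 0, 0)) (z := (0, 1, 0)) C.a_pos C.b_pos rfl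
      (by decide) (by decide) (by decide) (by decide) k1 k2
    rcases C.ab 1 1 (by decide) (by decide) with h | h | h | h
    · exact absurd (k3 : Cm (C.X (0, 2, 0)) (C.Y (1, 1, 0))) (C.c2.ncm rfl (h.symm : C.X (-1, -2, 1) = C.Y (1, 1, 0))
        (by decide) (by decide) (by decide))
    · exact h
    · exact absurd (k3 : Cm (C.X (0, 2, 0)) (C.Y (1, 1, 0))) (C.c2.ncm rfl (h.symm : C.X (-1, 0, -1) = C.Y (1, 1, 0))
        (by decide) (by decide) (by decide))
    · exact absurd (k3 : Cm (C.X (0, 2, 0)) (C.Y (1, 1, 0))) (C.c2.ncm rfl (h.symm : C.X (1, 0, 1) = C.Y (1, 1, 0))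
        (by decide) (by decide) (by decide))
  have i2 : C.Y (1, 0, -1) = C.X (2, 1, 1) := by
    have k1 : Cm (C.X (2, 0, 0)) (C.X (1, 1, 2)) := C.c3.cm rfl rfl (by decide) (by decide) (by decide)
      (by decide)
    have k2 : Cm (C.X (2, 0, 0)) (C.X (1, -2, -1)) := C.c2.cm rfl rfl (by decide) (by decide) (by decide)
      (by decide)
    have k3 : Cm (C.X (2, 0, 0)) (C.Y (1, 0, -1)) := C.cw.gn (y := (1, 0, 0)) (z := (0, 0, -1)) C.a_pos C.c_neg rfl
      (by decide) (by decide) (by decide) (by decide) k1 k2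
    rcases C.ac 1 (-1) (by decide) (by decide) with h | h | h | h
    · exact h
    · exact absurd (k3 : Cm (C.X (2, 0, 0)) (C.Y (1, 0, -1))) (C.c1.ncm rfl (h.symm : C.X (-2, -1, -1) = C.Y (1, 0, -1))
        (by decide) (by decide) (by decide))
    · exact absurd (k3 : Cm (C.X (2, 0, 0)) (C.Y (1, 0, -1))) (C.c1.ncm rfl (h.symm : C.X (0, 1, -1) = C.Y (1, 0, -1))
        (by decide) (by decide) (by decide))
    · exact absurd (k3 : Cm (C.X (2, 0, 0)) (C.Y (1, 0, -1))) (C.c1.ncm rfl (h.symm : C.X (0, -1, 1) = C.Y (1, 0, -1))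
        (by decide) (by decide) (by decide))
  have h0 : Cm (C.X (0, 0, -2)) (C.X (1, 1, -2)) := C.c3.cm (y := (0, 0, -2)) (z := (1, 1, -2)) rfl rfl (by decide) (by decide)
      (by decide) (by decide)
  have h1 : Cm (C.X (0, 0, -2)) (C.X (1, 2, -1)) := C.c2.cm (y := (0, 0, -2)) (z := (1, 2, -1)) rfl rfl (by decide) (by decide)
      (by decide) (by decide)
  have h2 : Cm (C.X (0, 0, -2)) (C.X (2, 1, 1)) := C.cw.gn (y := (0, -1, -1)) (z := (1, 1, 0)) (w := (1, 0, -1)) i0 i1 i2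
      (by decide) (by decide) (by decide) (by decide) h0 h1
  exact C.c1.ncm (y := (0, 0, -2)) (z := (2, 1, 1)) rfl rfl (by decide) (by decide) (by decide) h2

theorem pat37 (C : Conf G (-1) 1 1 (-1) 1 (-1)) : False := by
  have i0 : C.Y (1, 0, -1) = C.X (2, 1, 1) := by
    have k1 : Cm (C.X (2, 0, 0)) (C.X (1, 1, 2)) := C.c3.cm rfl rfl (by decide) (by decide) (by decide)
      (by decide)
    have k2 : Cm (C.X (2, 0, 0)) (C.X (1, -2, 1)) := C.c2.cm rfl rfl (by decide) (by decide) (by decide)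
      (by decide)
    have k3 : Cm (C.X (2, 0, 0)) (C.Y (1, 0, -1)) := C.cw.gn (y := (1, 0, 0)) (z := (0, 0, -1)) C.a_pos C.c_neg rfl
      (by decide) (by decide) (by decide) (by decide) k1 k2
    rcases C.ac 1 (-1) (by decide) (by decide) with h | h | h | h
    · exact h
    · exact absurd (k3 : Cm (C.X (2, 0, 0)) (C.Y (1, 0, -1))) (C.c1.ncm rfl (h.symm : C.X (-2, -1, -1) = C.Y (1, 0, -1))
        (by decide) (by decide) (by decide))
    · exact absurd (k3 : Cm (C.X (2, 0, 0)) (C.Y (1, 0, -1))) (C.c1.ncm rfl (h.symm : C.X (0, 1, -1) = C.Y (1, 0, -1))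
        (by decide) (by decide) (by decide))
    · exact absurd (k3 : Cm (C.X (2, 0, 0)) (C.Y (1, 0, -1))) (C.c1.ncm rfl (h.symm : C.X (0, -1, 1) = C.Y (1, 0, -1))
        (by decide) (by decide) (by decide))
  have i1 : C.Y (0, 1, -1) = C.X (-1, -1, 2) := by
    have k1 : Cm (C.X (0, 0, 2)) (C.X (-2, 1, 1)) := C.c1.cm rfl rfl (by decide) (by decide) (by decide)
      (by decide)
    have k2 : Cm (C.X (0, 0, 2)) (C.X (1, -2, 1)) := C.c2.cm rfl rfl (by decide) (by decide) (by decide)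
      (by decide)
    have k3 : Cm (C.X (0, 0, 2)) (C.Y (0, 1, -1)) := C.cw.gn (y := (0, 1, 0)) (z := (0, 0, -1)) C.b_pos C.c_neg rfl
      (by decide) (by decide) (by decide) (by decide) k1 k2
    rcases C.bc 1 (-1) (by decide) (by decide) with h | h | h | h
    · exact absurd (k3 : Cm (C.X (0, 0, 2)) (C.Y (0, 1, -1))) (C.c3.ncm rfl (h.symm : C.X (1, 1, -2) = C.Y (0, 1, -1))
        (by decide) (by decide) (by decide))
    · exact h
    · exact absurd (k3 : Cm (C.X (0, 0, 2)) (C.Y (0, 1, -1))) (C.c3.ncm rfl (h.symm : C.X (1, -1, 0) = C.Y (0, 1, -1))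
        (by decide) (by decide) (by decide))
    · exact absurd (k3 : Cm (C.X (0, 0, 2)) (C.Y (0, 1, -1))) (C.c3.ncm rfl (h.symm : C.X (-1, 1, 0) = C.Y (0, 1, -1))
        (by decide) (by decide) (by decide))
  have i2 : C.Y (-1, 0, 0) = C.X (-1, -1, -2) := C.a_neg
  have i3 : C.Y (0, -1, 0) = C.X (2, -1, -1) := C.b_neg
  have h0 : Cm (C.X (-1, -1, -2)) (C.X (0, -2, 0)) := C.c3.cm (y := (-1, -1, -2)) (z := (0, -2, 0)) rfl rfl (by decide) (by decide)
      (by decide) (by decide)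
  have h1 : Cm (C.X (2, 1, 1)) (C.X (-1, -1, 2)) := C.cw.cm (y := (1, 0, -1)) (z := (0, 1, -1)) i0 i1 (by decide) (by decide)
      (by decide) (by decide)
  have h2 : Cm (C.X (2, 1, -1)) (C.X (-1, -1, -2)) := nst3 C.n3 (v := (2, 1, 1)) (w := (-1, -1, 2)) (by decide) (by decide)
      (by decide) (by decide) h1
  have h3 : Cm (C.X (-1, -1, -2)) (C.X (2, -1, -1)) := C.c1.gn (y := (0, -2, 0)) (z := (2, 1, -1)) (w := (2, -1, -1)) rfl rfl rfl
      (by decide) (by decide) (by decide) (by decide) h0 h2.symm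
  exact C.cw.ncm (y := (-1, 0, 0)) (z := (0, -1, 0)) i2 i3 (by decide) (by decide) (by decide) h3

theorem pat38 (C : Conf G (-1) 1 1 (-1) (-1) 1) : False := by
  have i0 : C.Y (1, 1, 0) = C.X (-1, 2, 1) := by
    have k1 : Cm (C.X (0, 2, 0)) (C.X (1, 1, 2)) := C.c3.cm rfl rfl (by decide) (by decide) (by decide)
      (by decide)
    have k2 : Cm (C.X (0, 2, 0)) (C.X (-2, 1, 1)) := C.c1.cm rfl rfl (by decide) (by decide) (by decide)
      (by decide)
    have k3 : Cm (C.X (0, 2, 0)) (C.Y (1, 1, 0)) := C.cw.gn (y := (1, 0, 0)) (z := (0, 1, 0)) C.a_pos C.b_pos rfl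
      (by decide) (by decide) (by decide) (by decide) k1 k2
    rcases C.ab 1 1 (by decide) (by decide) with h | h | h | h
    · exact h
    · exact absurd (k3 : Cm (C.X (0, 2, 0)) (C.Y (1, 1, 0))) (C.c2.ncm rfl (h.symm : C.X (1, -2, -1) = C.Y (1, 1, 0))
        (by decide) (by decide) (by decide))
    · exact absurd (k3 : Cm (C.X (0, 2, 0)) (C.Y (1, 1, 0))) (C.c2.ncm rfl (h.symm : C.X (-1, 0, -1) = C.Y (1, 1, 0))
        (by decide) (by decide) (by decide))
    · exact absurd (k3 : Cm (C.X (0, 2, 0)) (C.Y (1, 1, 0))) (C.c2.ncm rfl (h.symm : C.X (1, 0, 1) = C.Y (1, 1, 0))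
        (by decide) (by decide) (by decide))
  have i1 : C.Y (1, 0, 0) = C.X (1, 1, 2) := C.a_pos
  have i2 : C.Y (0, -1, -1) = C.X (1, 1, -2) := by
    have k1 : Cm (C.X (0, 0, -2)) (C.X (2, -1, -1)) := C.c1.cm rfl rfl (by decide) (by decide) (by decide)
      (by decide)
    have k2 : Cm (C.X (0, 0, -2)) (C.X (1, 2, -1)) := C.c2.cm rfl rfl (by decide) (by decide) (by decide)
      (by decide)
    have k3 : Cm (C.X (0, 0, -2)) (C.Y (0, -1, -1)) := C.cw.gn (y := (0, -1, 0)) (z := (0, 0, -1)) C.b_neg C.c_neg rfl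
      (by decide) (by decide) (by decide) (by decide) k1 k2
    rcases C.bc (-1) (-1) (by decide) (by decide) with h | h | h | h
    · exact h
    · exact absurd (k3 : Cm (C.X (0, 0, -2)) (C.Y (0, -1, -1))) (C.c3.ncm rfl (h.symm : C.X (-1, -1, 2) = C.Y (0, -1, -1))
        (by decide) (by decide) (by decide))
    · exact absurd (k3 : Cm (C.X (0, 0, -2)) (C.Y (0, -1, -1))) (C.c3.ncm rfl (h.symm : C.X (1, -1, 0) = C.Y (0, -1, -1))
        (by decide) (by decide) (by decide))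
    · exact absurd (k3 : Cm (C.X (0, 0, -2)) (C.Y (0, -1, -1))) (C.c3.ncm rfl (h.symm : C.X (-1, 1, 0) = C.Y (0, -1, -1))
        (by decide) (by decide) (by decide))
  have i3 : C.Y (1, 0, -1) = C.X (2, 1, 1) := by
    have k1 : Cm (C.X (2, 0, 0)) (C.X (1, 1, 2)) := C.c3.cm rfl rfl (by decide) (by decide) (by decide)
      (by decide)
    have k2 : Cm (C.X (2, 0, 0)) (C.X (1, 2, -1)) := C.c2.cm rfl rfl (by decide) (by decide) (by decide)
      (by decide)
    have k3 : Cm (C.X (2, 0, 0)) (C.Y (1, 0, -1)) := C.cw.gn (y := (1, 0, 0)) (z := (0, 0, -1)) C.a_pos C.c_neg rfl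
      (by decide) (by decide) (by decide) (by decide) k1 k2
    rcases C.ac 1 (-1) (by decide) (by decide) with h | h | h | h
    · exact h
    · exact absurd (k3 : Cm (C.X (2, 0, 0)) (C.Y (1, 0, -1))) (C.c1.ncm rfl (h.symm : C.X (-2, -1, -1) = C.Y (1, 0, -1))
        (by decide) (by decide) (by decide))
    · exact absurd (k3 : Cm (C.X (2, 0, 0)) (C.Y (1, 0, -1))) (C.c1.ncm rfl (h.symm : C.X (0, 1, -1) = C.Y (1, 0, -1))
        (by decide) (by decide) (by decide))
    · exact absurd (k3 : Cm (C.X (2, 0, 0)) (C.Y (1, 0, -1))) (C.c1.ncm rfl (h.symm : C.X (0, -1, 1) = C.Y (1, 0, -1))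
        (by decide) (by decide) (by decide))
  have i4 : C.Y (0, 0, -1) = C.X (1, 2, -1) := C.c_neg
  have i5 : C.Y (0, 1, 0) = C.X (-2, 1, 1) := C.b_pos
  have h0 : Cm (C.X (-1, 2, 1)) (C.X (1, 1, 2)) := C.cw.cm (y := (1, 1, 0)) (z := (1, 0, 0)) i0 i1 (by decide) (by decide)
      (by decide) (by decide)
  have h1 : Cm (C.X (-1, 2, -1)) (C.X (1, 1, -2)) := nst3 C.n3 (v := (-1, 2, 1)) (w := (1, 1, 2)) (by decide) (by decide)
      (by decide) (by decide) h0
  have h2 : Cm (C.X (-1, 2, -1)) (C.X (-1, 2, 1)) := C.c2.cm (y := (-1, 2, -1)) (z := (-1, 2, 1)) rfl rfl (by decide) (by decide)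
      (by decide) (by decide)
  have h3 : Cm (C.X (-1, 2, -1)) (C.X (2, 1, 1)) := C.cw.gn (y := (0, -1, -1)) (z := (1, 1, 0)) (w := (1, 0, -1)) i2 i0 i3
      (by decide) (by decide) (by decide) (by decide) h1 h2
  have h4 : Cm (C.X (1, 2, -1)) (C.X (-2, 1, 1)) := nst1 C.n1 (v := (-1, 2, -1)) (w := (2, 1, 1)) (by decide) (by decide)
      (by decide) (by decide) h3
  exact C.cw.ncm (y := (0, 0, -1)) (z := (0, 1, 0)) i4 i5 (by decide) (by decide) (by decide) h4

theorem pat39 (C : Conf G (-1) 1 1 (-1) (-1) (-1)) : False := by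
  have i0 : C.Y (0, 1, 0) = C.X (-2, 1, 1) := C.b_pos
  have i1 : C.Y (1, 0, 0) = C.X (1, 1, 2) := C.a_pos
  have i2 : C.Y (1, 1, 0) = C.X (-1, 2, -1) := by
    have k1 : Cm (C.X (0, 2, 0)) (C.X (1, 1, 2)) := C.c3.cm rfl rfl (by decide) (by decide) (by decide)
      (by decide)
    have k2 : Cm (C.X (0, 2, 0)) (C.X (-2, 1, 1)) := C.c1.cm rfl rfl (by decide) (by decide) (by decide)
      (by decide)
    have k3 : Cm (C.X (0, 2, 0)) (C.Y (1, 1, 0)) := C.cw.gn (y := (1, 0, 0)) (z := (0, 1, 0)) C.a_pos C.b_pos rfl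
      (by decide) (by decide) (by decide) (by decide) k1 k2
    rcases C.ab 1 1 (by decide) (by decide) with h | h | h | h
    · exact h
    · exact absurd (k3 : Cm (C.X (0, 2, 0)) (C.Y (1, 1, 0))) (C.c2.ncm rfl (h.symm : C.X (1, -2, 1) = C.Y (1, 1, 0))
        (by decide) (by decide) (by decide))
    · exact absurd (k3 : Cm (C.X (0, 2, 0)) (C.Y (1, 1, 0))) (C.c2.ncm rfl (h.symm : C.X (-1, 0, 1) = C.Y (1, 1, 0))
        (by decide) (by decide) (by decide))
    · exact absurd (k3 : Cm (C.X (0, 2, 0)) (C.Y (1, 1, 0))) (C.c2.ncm rfl (h.symm : C.X (1, 0, -1) = C.Y (1, 1, 0))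
        (by decide) (by decide) (by decide))
  have h0 : Cm (C.X (-2, 1, 1)) (C.X (0, 0, 2)) := C.c1.cm (y := (-2, 1, 1)) (z := (0, 0, 2)) rfl rfl (by decide) (by decide)
      (by decide) (by decide)
  have h1 : Cm (C.X (1, 1, 2)) (C.X (0, 0, 2)) := C.c3.cm (y := (1, 1, 2)) (z := (0, 0, 2)) rfl rfl (by decide) (by decide)
      (by decide) (by decide)
  have h2 : Cm (C.X (0, 0, 2)) (C.X (-1, 2, -1)) := C.cw.gn (y := (0, 1, 0)) (z := (1, 0, 0)) (w := (1, 1, 0)) i0 i1 i2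
      (by decide) (by decide) (by decide) (by decide) h0.symm h1.symm
  exact C.c2.ncm (y := (0, 0, 2)) (z := (-1, 2, -1)) rfl rfl (by decide) (by decide) (by decide) h2

theorem pat40 (C : Conf G (-1) 1 (-1) 1 1 1) : False := by
  have i0 : C.Y (-1, 0, -1) = C.X (-2, -1, 1) := by
    have k1 : Cm (C.X (-2, 0, 0)) (C.X (-1, -1, -2)) := C.c3.cm rfl rfl (by decide) (by decide) (by decide)
      (by decide)
    have k2 : Cm (C.X (-2, 0, 0)) (C.X (-1, -2, -1)) := C.c2.cm rfl rfl (by decide) (by decide) (by decide)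
      (by decide)
    have k3 : Cm (C.X (-2, 0, 0)) (C.Y (-1, 0, -1)) := C.cw.gn (y := (-1, 0, 0)) (z := (0, 0, -1)) C.a_neg C.c_neg rfl
      (by decide) (by decide) (by decide) (by decide) k1 k2
    rcases C.ac (-1) (-1) (by decide) (by decide) with h | h | h | h
    · exact absurd (k3 : Cm (C.X (-2, 0, 0)) (C.Y (-1, 0, -1))) (C.c1.ncm rfl (h.symm : C.X (2, 1, -1) = C.Y (-1, 0, -1))
        (by decide) (by decide) (by decide))
    · exact h
    · exact absurd (k3 : Cm (C.X (-2, 0, 0)) (C.Y (-1, 0, -1))) (C.c1.ncm rfl (h.symm : C.X (0, 1, 1) = C.Y (-1, 0, -1))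
        (by decide) (by decide) (by decide))
    · exact absurd (k3 : Cm (C.X (-2, 0, 0)) (C.Y (-1, 0, -1))) (C.c1.ncm rfl (h.symm : C.X (0, -1, -1) = C.Y (-1, 0, -1))
        (by decide) (by decide) (by decide))
  have i1 : C.Y (1, 1, 0) = C.X (-1, 2, -1) := by
    have k1 : Cm (C.X (0, 2, 0)) (C.X (1, 1, 2)) := C.c3.cm rfl rfl (by decide) (by decide) (by decide)
      (by decide)
    have k2 : Cm (C.X (0, 2, 0)) (C.X (-2, 1, -1)) := C.c1.cm rfl rfl (by decide) (by decide) (by decide)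
      (by decide)
    have k3 : Cm (C.X (0, 2, 0)) (C.Y (1, 1, 0)) := C.cw.gn (y := (1, 0, 0)) (z := (0, 1, 0)) C.a_pos C.b_pos rfl
      (by decide) (by decide) (by decide) (by decide) k1 k2
    rcases C.ab 1 1 (by decide) (by decide) with h | h | h | h
    · exact absurd (k3 : Cm (C.X (0, 2, 0)) (C.Y (1, 1, 0))) (C.c2.ncm rfl (h.symm : C.X (1, -2, 1) = C.Y (1, 1, 0))
        (by decide) (by decide) (by decide))
    · exact h
    · exact absurd (k3 : Cm (C.X (0, 2, 0)) (C.Y (1, 1, 0))) (C.c2.ncm rfl (h.symm : C.X (1, 0, -1) = C.Y (1, 1, 0))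
        (by decide) (by decide) (by decide))
    · exact absurd (k3 : Cm (C.X (0, 2, 0)) (C.Y (1, 1, 0))) (C.c2.ncm rfl (h.symm : C.X (-1, 0, 1) = C.Y (1, 1, 0))
        (by decide) (by decide) (by decide))
  have i2 : C.Y (0, 1, -1) = C.X (1, 1, -2) := by
    have k1 : Cm (C.X (0, 0, -2)) (C.X (-2, 1, -1)) := C.c1.cm rfl rfl (by decide) (by decide) (by decide)
      (by decide)
    have k2 : Cm (C.X (0, 0, -2)) (C.X (-1, -2, -1)) := C.c2.cm rfl rfl (by decide) (by decide) (by decide)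
      (by decide)
    have k3 : Cm (C.X (0, 0, -2)) (C.Y (0, 1, -1)) := C.cw.gn (y := (0, 1, 0)) (z := (0, 0, -1)) C.b_pos C.c_neg rfl
      (by decide) (by decide) (by decide) (by decide) k1 k2
    rcases C.bc 1 (-1) (by decide) (by decide) with h | h | h | h
    · exact h
    · exact absurd (k3 : Cm (C.X (0, 0, -2)) (C.Y (0, 1, -1))) (C.c3.ncm rfl (h.symm : C.X (-1, -1, 2) = C.Y (0, 1, -1))
        (by decide) (by decide) (by decide))
    · exact absurd (k3 : Cm (C.X (0, 0, -2)) (C.Y (0, 1, -1))) (C.c3.ncm rfl (h.symm : C.X (1, -1, 0) = C.Y (0, 1, -1))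
        (by decide) (by decide) (by decide))
    · exact absurd (k3 : Cm (C.X (0, 0, -2)) (C.Y (0, 1, -1))) (C.c3.ncm rfl (h.symm : C.X (-1, 1, 0) = C.Y (0, 1, -1))
        (by decide) (by decide) (by decide))
  have h0 : Cm (C.X (-2, -1, 1)) (C.X (-2, 0, 0)) := C.c1.cm (y := (-2, -1, 1)) (z := (-2, 0, 0)) rfl rfl (by decide) (by decide)
      (by decide) (by decide)
  have h1 : Cm (C.X (-1, 2, -1)) (C.X (-2, 0, 0)) := C.c2.cm (y := (-1, 2, -1)) (z := (-2, 0, 0)) rfl rfl (by decide) (by decide)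
      (by decide) (by decide)
  have h2 : Cm (C.X (-2, 0, 0)) (C.X (1, 1, -2)) := C.cw.gn (y := (-1, 0, -1)) (z := (1, 1, 0)) (w := (0, 1, -1)) i0 i1 i2
      (by decide) (by decide) (by decide) (by decide) h0.symm h1.symm
  exact C.c3.ncm (y := (1, 1, -2)) (z := (-2, 0, 0)) rfl rfl (by decide) (by decide) (by decide) h2.symm

theorem pat41 (C : Conf G (-1) 1 (-1) 1 1 (-1)) : False := by
  have i0 : C.Y (-1, 0, -1) = C.X (-2, -1, 1) := by
    have k1 : Cm (C.X (-2, 0, 0)) (C.X (-1, -1, -2)) := C.c3.cm rfl rfl (by decide) (by decide) (by decide)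
      (by decide)
    have k2 : Cm (C.X (-2, 0, 0)) (C.X (-1, -2, 1)) := C.c2.cm rfl rfl (by decide) (by decide) (by decide)
      (by decide)
    have k3 : Cm (C.X (-2, 0, 0)) (C.Y (-1, 0, -1)) := C.cw.gn (y := (-1, 0, 0)) (z := (0, 0, -1)) C.a_neg C.c_neg rfl
      (by decide) (by decide) (by decide) (by decide) k1 k2
    rcases C.ac (-1) (-1) (by decide) (by decide) with h | h | h | h
    · exact absurd (k3 : Cm (C.X (-2, 0, 0)) (C.Y (-1, 0, -1))) (C.c1.ncm rfl (h.symm : C.X (2, 1, -1) = C.Y (-1, 0, -1))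
        (by decide) (by decide) (by decide))
    · exact h
    · exact absurd (k3 : Cm (C.X (-2, 0, 0)) (C.Y (-1, 0, -1))) (C.c1.ncm rfl (h.symm : C.X (0, 1, 1) = C.Y (-1, 0, -1))
        (by decide) (by decide) (by decide))
    · exact absurd (k3 : Cm (C.X (-2, 0, 0)) (C.Y (-1, 0, -1))) (C.c1.ncm rfl (h.symm : C.X (0, -1, -1) = C.Y (-1, 0, -1))
        (by decide) (by decide) (by decide))
  have i1 : C.Y (-1, -1, 0) = C.X (1, -2, -1) := by
    have k1 : Cm (C.X (0, -2, 0)) (C.X (-1, -1, -2)) := C.c3.cm rfl rfl (by decide) (by decide) (by decide)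
      (by decide)
    have k2 : Cm (C.X (0, -2, 0)) (C.X (2, -1, 1)) := C.c1.cm rfl rfl (by decide) (by decide) (by decide)
      (by decide)
    have k3 : Cm (C.X (0, -2, 0)) (C.Y (-1, -1, 0)) := C.cw.gn (y := (-1, 0, 0)) (z := (0, -1, 0)) C.a_neg C.b_neg rfl
      (by decide) (by decide) (by decide) (by decide) k1 k2
    rcases C.ab (-1) (-1) (by decide) (by decide) with h | h | h | h
    · exact h
    · exact absurd (k3 : Cm (C.X (0, -2, 0)) (C.Y (-1, -1, 0))) (C.c2.ncm rfl (h.symm : C.X (-1, 2, 1) = C.Y (-1, -1, 0))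
        (by decide) (by decide) (by decide))
    · exact absurd (k3 : Cm (C.X (0, -2, 0)) (C.Y (-1, -1, 0))) (C.c2.ncm rfl (h.symm : C.X (1, 0, 1) = C.Y (-1, -1, 0))
        (by decide) (by decide) (by decide))
    · exact absurd (k3 : Cm (C.X (0, -2, 0)) (C.Y (-1, -1, 0))) (C.c2.ncm rfl (h.symm : C.X (-1, 0, -1) = C.Y (-1, -1, 0))
        (by decide) (by decide) (by decide))
  have i2 : C.Y (0, 0, 1) = C.X (1, 2, -1) := C.c_pos
  have i3 : C.Y (0, 1, 0) = C.X (-2, 1, -1) := C.b_pos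
  have h0 : Cm (C.X (-2, -1, 1)) (C.X (1, -2, -1)) := C.cw.cm (y := (-1, 0, -1)) (z := (-1, -1, 0)) i0 i1 (by decide) (by decide)
      (by decide) (by decide)
  have h1 : Cm (C.X (-2, 1, 1)) (C.X (1, 2, -1)) := nst2 C.n2 (v := (-2, -1, 1)) (w := (1, -2, -1)) (by decide) (by decide)
      (by decide) (by decide) h0
  have h2 : Cm (C.X (0, 0, -2)) (C.X (1, 2, -1)) := C.c2.cm (y := (0, 0, -2)) (z := (1, 2, -1)) rfl rfl (by decide) (by decide)
      (by decide) (by decide)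
  have h3 : Cm (C.X (1, 2, -1)) (C.X (-2, 1, -1)) := C.c1.gn (y := (-2, 1, 1)) (z := (0, 0, -2)) (w := (-2, 1, -1)) rfl rfl rfl
      (by decide) (by decide) (by decide) (by decide) h1.symm h2.symm
  exact C.cw.ncm (y := (0, 0, 1)) (z := (0, 1, 0)) i2 i3 (by decide) (by decide) (by decide) h3

theorem pat42 (C : Conf G (-1) 1 (-1) 1 (-1) 1) : False := by
  have i0 : C.Y (-1, 0, -1) = C.X (-2, -1, 1) := by
    have k1 : Cm (C.X (-2, 0, 0)) (C.X (-1, -1, -2)) := C.c3.cm rfl rfl (by decide) (by decide) (by decide)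
      (by decide)
    have k2 : Cm (C.X (-2, 0, 0)) (C.X (-1, 2, -1)) := C.c2.cm rfl rfl (by decide) (by decide) (by decide)
      (by decide)
    have k3 : Cm (C.X (-2, 0, 0)) (C.Y (-1, 0, -1)) := C.cw.gn (y := (-1, 0, 0)) (z := (0, 0, -1)) C.a_neg C.c_neg rfl
      (by decide) (by decide) (by decide) (by decide) k1 k2
    rcases C.ac (-1) (-1) (by decide) (by decide) with h | h | h | h
    · exact absurd (k3 : Cm (C.X (-2, 0, 0)) (C.Y (-1, 0, -1))) (C.c1.ncm rfl (h.symm : C.X (2, 1, -1) = C.Y (-1, 0, -1))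
        (by decide) (by decide) (by decide))
    · exact h
    · exact absurd (k3 : Cm (C.X (-2, 0, 0)) (C.Y (-1, 0, -1))) (C.c1.ncm rfl (h.symm : C.X (0, 1, 1) = C.Y (-1, 0, -1))
        (by decide) (by decide) (by decide))
    · exact absurd (k3 : Cm (C.X (-2, 0, 0)) (C.Y (-1, 0, -1))) (C.c1.ncm rfl (h.symm : C.X (0, -1, -1) = C.Y (-1, 0, -1))
        (by decide) (by decide) (by decide))
  have i1 : C.Y (1, 1, 0) = C.X (1, 2, 1) := by
    have k1 : Cm (C.X (0, 2, 0)) (C.X (1, 1, 2)) := C.c3.cm rfl rfl (by decide) (by decide) (by decide)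
      (by decide)
    have k2 : Cm (C.X (0, 2, 0)) (C.X (-2, 1, -1)) := C.c1.cm rfl rfl (by decide) (by decide) (by decide)
      (by decide)
    have k3 : Cm (C.X (0, 2, 0)) (C.Y (1, 1, 0)) := C.cw.gn (y := (1, 0, 0)) (z := (0, 1, 0)) C.a_pos C.b_pos rfl
      (by decide) (by decide) (by decide) (by decide) k1 k2
    rcases C.ab 1 1 (by decide) (by decide) with h | h | h | h
    · exact h
    · exact absurd (k3 : Cm (C.X (0, 2, 0)) (C.Y (1, 1, 0))) (C.c2.ncm rfl (h.symm : C.X (-1, -2, -1) = C.Y (1, 1, 0))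
        (by decide) (by decide) (by decide))
    · exact absurd (k3 : Cm (C.X (0, 2, 0)) (C.Y (1, 1, 0))) (C.c2.ncm rfl (h.symm : C.X (1, 0, -1) = C.Y (1, 1, 0))
        (by decide) (by decide) (by decide))
    · exact absurd (k3 : Cm (C.X (0, 2, 0)) (C.Y (1, 1, 0))) (C.c2.ncm rfl (h.symm : C.X (-1, 0, 1) = C.Y (1, 1, 0))
        (by decide) (by decide) (by decide))
  have i2 : C.Y (0, 1, -1) = C.X (1, 1, -2) := by
    have k1 : Cm (C.X (0, 0, -2)) (C.X (-2, 1, -1)) := C.c1.cm rfl rfl (by decide) (by decide) (by decide)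
      (by decide)
    have k2 : Cm (C.X (0, 0, -2)) (C.X (-1, 2, -1)) := C.c2.cm rfl rfl (by decide) (by decide) (by decide)
      (by decide)
    have k3 : Cm (C.X (0, 0, -2)) (C.Y (0, 1, -1)) := C.cw.gn (y := (0, 1, 0)) (z := (0, 0, -1)) C.b_pos C.c_neg rfl
      (by decide) (by decide) (by decide) (by decide) k1 k2
    rcases C.bc 1 (-1) (by decide) (by decide) with h | h | h | h
    · exact h
    · exact absurd (k3 : Cm (C.X (0, 0, -2)) (C.Y (0, 1, -1))) (C.c3.ncm rfl (h.symm : C.X (-1, -1, 2) = C.Y (0, 1, -1))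
        (by decide) (by decide) (by decide))
    · exact absurd (k3 : Cm (C.X (0, 0, -2)) (C.Y (0, 1, -1))) (C.c3.ncm rfl (h.symm : C.X (1, -1, 0) = C.Y (0, 1, -1))
        (by decide) (by decide) (by decide))
    · exact absurd (k3 : Cm (C.X (0, 0, -2)) (C.Y (0, 1, -1))) (C.c3.ncm rfl (h.symm : C.X (-1, 1, 0) = C.Y (0, 1, -1))
        (by decide) (by decide) (by decide))
  have h0 : Cm (C.X (-2, -1, 1)) (C.X (0, 0, 2)) := C.c1.cm (y := (-2, -1, 1)) (z := (0, 0, 2)) rfl rfl (by decide) (by decide)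
      (by decide) (by decide)
  have h1 : Cm (C.X (1, 2, 1)) (C.X (0, 0, 2)) := C.c2.cm (y := (1, 2, 1)) (z := (0, 0, 2)) rfl rfl (by decide) (by decide)
      (by decide) (by decide)
  have h2 : Cm (C.X (0, 0, 2)) (C.X (1, 1, -2)) := C.cw.gn (y := (-1, 0, -1)) (z := (1, 1, 0)) (w := (0, 1, -1)) i0 i1 i2
      (by decide) (by decide) (by decide) (by decide) h0.symm h1.symm
  exact C.c3.ncm (y := (1, 1, -2)) (z := (0, 0, 2)) rfl rfl (by decide) (by decide) (by decide) h2.symm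

theorem pat43 (C : Conf G (-1) 1 (-1) 1 (-1) (-1)) : False := by
  have i0 : C.Y (-1, 0, 0) = C.X (-1, -1, -2) := C.a_neg
  have i1 : C.Y (-1, -1, 0) = C.X (-1, -2, 1) := by
    have k1 : Cm (C.X (0, -2, 0)) (C.X (-1, -1, -2)) := C.c3.cm rfl rfl (by decide) (by decide) (by decide)
      (by decide)
    have k2 : Cm (C.X (0, -2, 0)) (C.X (2, -1, 1)) := C.c1.cm rfl rfl (by decide) (by decide) (by decide)
      (by decide)
    have k3 : Cm (C.X (0, -2, 0)) (C.Y (-1, -1, 0)) := C.cw.gn (y := (-1, 0, 0)) (z := (0, -1, 0)) C.a_neg C.b_neg rfl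
      (by decide) (by decide) (by decide) (by decide) k1 k2
    rcases C.ab (-1) (-1) (by decide) (by decide) with h | h | h | h
    · exact absurd (k3 : Cm (C.X (0, -2, 0)) (C.Y (-1, -1, 0))) (C.c2.ncm rfl (h.symm : C.X (1, 2, -1) = C.Y (-1, -1, 0))
        (by decide) (by decide) (by decide))
    · exact h
    · exact absurd (k3 : Cm (C.X (0, -2, 0)) (C.Y (-1, -1, 0))) (C.c2.ncm rfl (h.symm : C.X (1, 0, 1) = C.Y (-1, -1, 0))
        (by decide) (by decide) (by decide))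
    · exact absurd (k3 : Cm (C.X (0, -2, 0)) (C.Y (-1, -1, 0))) (C.c2.ncm rfl (h.symm : C.X (-1, 0, -1) = C.Y (-1, -1, 0))
        (by decide) (by decide) (by decide))
  have i2 : C.Y (1, 0, 1) = C.X (2, 1, -1) := by
    have k1 : Cm (C.X (2, 0, 0)) (C.X (1, 1, 2)) := C.c3.cm rfl rfl (by decide) (by decide) (by decide)
      (by decide)
    have k2 : Cm (C.X (2, 0, 0)) (C.X (1, -2, -1)) := C.c2.cm rfl rfl (by decide) (by decide) (by decide)
      (by decide)
    have k3 : Cm (C.X (2, 0, 0)) (C.Y (1, 0, 1)) := C.cw.gn (y := (1, 0, 0)) (z := (0, 0, 1)) C.a_pos C.c_pos rfl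
      (by decide) (by decide) (by decide) (by decide) k1 k2
    rcases C.ac 1 1 (by decide) (by decide) with h | h | h | h
    · exact h
    · exact absurd (k3 : Cm (C.X (2, 0, 0)) (C.Y (1, 0, 1))) (C.c1.ncm rfl (h.symm : C.X (-2, -1, 1) = C.Y (1, 0, 1))
        (by decide) (by decide) (by decide))
    · exact absurd (k3 : Cm (C.X (2, 0, 0)) (C.Y (1, 0, 1))) (C.c1.ncm rfl (h.symm : C.X (0, 1, 1) = C.Y (1, 0, 1))
        (by decide) (by decide) (by decide))
    · exact absurd (k3 : Cm (C.X (2, 0, 0)) (C.Y (1, 0, 1))) (C.c1.ncm rfl (h.symm : C.X (0, -1, -1) = C.Y (1, 0, 1))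
        (by decide) (by decide) (by decide))
  have i3 : C.Y (0, 0, 1) = C.X (1, -2, -1) := C.c_pos
  have i4 : C.Y (0, -1, -1) = C.X (-1, -1, 2) := by
    have k1 : Cm (C.X (0, 0, 2)) (C.X (2, -1, 1)) := C.c1.cm rfl rfl (by decide) (by decide) (by decide)
      (by decide)
    have k2 : Cm (C.X (0, 0, 2)) (C.X (-1, 2, 1)) := C.c2.cm rfl rfl (by decide) (by decide) (by decide)
      (by decide)
    have k3 : Cm (C.X (0, 0, 2)) (C.Y (0, -1, -1)) := C.cw.gn (y := (0, -1, 0)) (z := (0, 0, -1)) C.b_neg C.c_neg rfl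
      (by decide) (by decide) (by decide) (by decide) k1 k2
    rcases C.bc (-1) (-1) (by decide) (by decide) with h | h | h | h
    · exact absurd (k3 : Cm (C.X (0, 0, 2)) (C.Y (0, -1, -1))) (C.c3.ncm rfl (h.symm : C.X (1, 1, -2) = C.Y (0, -1, -1))
        (by decide) (by decide) (by decide))
    · exact h
    · exact absurd (k3 : Cm (C.X (0, 0, 2)) (C.Y (0, -1, -1))) (C.c3.ncm rfl (h.symm : C.X (1, -1, 0) = C.Y (0, -1, -1))
        (by decide) (by decide) (by decide))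
    · exact absurd (k3 : Cm (C.X (0, 0, 2)) (C.Y (0, -1, -1))) (C.c3.ncm rfl (h.symm : C.X (-1, 1, 0) = C.Y (0, -1, -1))
        (by decide) (by decide) (by decide))
  have i5 : C.Y (0, 1, 0) = C.X (-2, 1, -1) := C.b_pos
  have i6 : C.Y (0, 0, -1) = C.X (-1, 2, 1) := C.c_neg
  have h0 : Cm (C.X (-1, -1, -2)) (C.X (-1, -2, 1)) := C.cw.cm (y := (-1, 0, 0)) (z := (-1, -1, 0)) i0 i1 (by decide) (by decide)
      (by decide) (by decide)
  have h1 : Cm (C.X (-1, -1, 2)) (C.X (-1, -2, -1)) := nst3 C.n3 (v := (-1, -1, -2)) (w := (-1, -2, 1)) (by decide) (by decide)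
      (by decide) (by decide) h0
  have h2 : Cm (C.X (2, 1, -1)) (C.X (1, -2, -1)) := C.cw.cm (y := (1, 0, 1)) (z := (0, 0, 1)) i2 i3 (by decide) (by decide)
      (by decide) (by decide)
  have h3 : Cm (C.X (-2, 1, -1)) (C.X (-1, -2, -1)) := nst1 C.n1 (v := (2, 1, -1)) (w := (1, -2, -1)) (by decide) (by decide)
      (by decide) (by decide) h2
  have h4 : Cm (C.X (-1, -2, -1)) (C.X (-1, 2, 1)) := C.cw.gn (y := (0, -1, -1)) (z := (0, 1, 0)) (w := (0, 0, -1)) i4 i5 i6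
      (by decide) (by decide) (by decide) (by decide) h1.symm h3.symm
  exact C.c2.ncm (y := (-1, -2, -1)) (z := (-1, 2, 1)) rfl rfl (by decide) (by decide) (by decide) h4

theorem pat44 (C : Conf G (-1) 1 (-1) (-1) 1 1) : False := by
  have i0 : C.Y (0, -1, 0) = C.X (2, -1, 1) := C.b_neg
  have i1 : C.Y (-1, -1, 0) = C.X (-1, -2, 1) := by
    have k1 : Cm (C.X (0, -2, 0)) (C.X (-1, -1, -2)) := C.c3.cm rfl rfl (by decide) (by decide) (by decide)
      (by decide)
    have k2 : Cm (C.X (0, -2, 0)) (C.X (2, -1, 1)) := C.c1.cm rfl rfl (by decide) (by decide) (by decide)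
      (by decide)
    have k3 : Cm (C.X (0, -2, 0)) (C.Y (-1, -1, 0)) := C.cw.gn (y := (-1, 0, 0)) (z := (0, -1, 0)) C.a_neg C.b_neg rfl
      (by decide) (by decide) (by decide) (by decide) k1 k2
    rcases C.ab (-1) (-1) (by decide) (by decide) with h | h | h | h
    · exact h
    · exact absurd (k3 : Cm (C.X (0, -2, 0)) (C.Y (-1, -1, 0))) (C.c2.ncm rfl (h.symm : C.X (1, 2, -1) = C.Y (-1, -1, 0))
        (by decide) (by decide) (by decide))
    · exact absurd (k3 : Cm (C.X (0, -2, 0)) (C.Y (-1, -1, 0))) (C.c2.ncm rfl (h.symm : C.X (-1, 0, -1) = C.Y (-1, -1, 0))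
        (by decide) (by decide) (by decide))
    · exact absurd (k3 : Cm (C.X (0, -2, 0)) (C.Y (-1, -1, 0))) (C.c2.ncm rfl (h.symm : C.X (1, 0, 1) = C.Y (-1, -1, 0))
        (by decide) (by decide) (by decide))
  have i2 : C.Y (0, 0, -1) = C.X (1, -2, -1) := C.c_neg
  have i3 : C.Y (0, 1, -1) = C.X (1, 1, -2) := by
    have k1 : Cm (C.X (0, 0, -2)) (C.X (-2, 1, -1)) := C.c1.cm rfl rfl (by decide) (by decide) (by decide)
      (by decide)
    have k2 : Cm (C.X (0, 0, -2)) (C.X (1, -2, -1)) := C.c2.cm rfl rfl (by decide) (by decide) (by decide)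
      (by decide)
    have k3 : Cm (C.X (0, 0, -2)) (C.Y (0, 1, -1)) := C.cw.gn (y := (0, 1, 0)) (z := (0, 0, -1)) C.b_pos C.c_neg rfl
      (by decide) (by decide) (by decide) (by decide) k1 k2
    rcases C.bc 1 (-1) (by decide) (by decide) with h | h | h | h
    · exact h
    · exact absurd (k3 : Cm (C.X (0, 0, -2)) (C.Y (0, 1, -1))) (C.c3.ncm rfl (h.symm : C.X (-1, -1, 2) = C.Y (0, 1, -1))
        (by decide) (by decide) (by decide))
    · exact absurd (k3 : Cm (C.X (0, 0, -2)) (C.Y (0, 1, -1))) (C.c3.ncm rfl (h.symm : C.X (1, -1, 0) = C.Y (0, 1, -1))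
        (by decide) (by decide) (by decide))
    · exact absurd (k3 : Cm (C.X (0, 0, -2)) (C.Y (0, 1, -1))) (C.c3.ncm rfl (h.symm : C.X (-1, 1, 0) = C.Y (0, 1, -1))
        (by decide) (by decide) (by decide))
  have i4 : C.Y (-1, 0, 1) = C.X (-2, -1, 1) := by
    have k1 : Cm (C.X (-2, 0, 0)) (C.X (-1, -1, -2)) := C.c3.cm rfl rfl (by decide) (by decide) (by decide)
      (by decide)
    have k2 : Cm (C.X (-2, 0, 0)) (C.X (-1, 2, 1)) := C.c2.cm rfl rfl (by decide) (by decide) (by decide)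
      (by decide)
    have k3 : Cm (C.X (-2, 0, 0)) (C.Y (-1, 0, 1)) := C.cw.gn (y := (-1, 0, 0)) (z := (0, 0, 1)) C.a_neg C.c_pos rfl
      (by decide) (by decide) (by decide) (by decide) k1 k2
    rcases C.ac (-1) 1 (by decide) (by decide) with h | h | h | h
    · exact absurd (k3 : Cm (C.X (-2, 0, 0)) (C.Y (-1, 0, 1))) (C.c1.ncm rfl (h.symm : C.X (2, 1, -1) = C.Y (-1, 0, 1))
        (by decide) (by decide) (by decide))
    · exact h
    · exact absurd (k3 : Cm (C.X (-2, 0, 0)) (C.Y (-1, 0, 1))) (C.c1.ncm rfl (h.symm : C.X (0, 1, 1) = C.Y (-1, 0, 1))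
        (by decide) (by decide) (by decide))
    · exact absurd (k3 : Cm (C.X (-2, 0, 0)) (C.Y (-1, 0, 1))) (C.c1.ncm rfl (h.symm : C.X (0, -1, -1) = C.Y (-1, 0, 1))
        (by decide) (by decide) (by decide))
  have i5 : C.Y (1, 0, 0) = C.X (1, 1, 2) := C.a_pos
  have i6 : C.Y (0, 0, 1) = C.X (-1, 2, 1) := C.c_pos
  have h0 : Cm (C.X (2, -1, 1)) (C.X (-1, -2, 1)) := C.cw.cm (y := (0, -1, 0)) (z := (-1, -1, 0)) i0 i1 (by decide) (by decide)
      (by decide) (by decide)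
  have h1 : Cm (C.X (-2, -1, 1)) (C.X (1, -2, 1)) := nst1 C.n1 (v := (2, -1, 1)) (w := (-1, -2, 1)) (by decide) (by decide)
      (by decide) (by decide) h0
  have h2 : Cm (C.X (1, -2, -1)) (C.X (1, 1, -2)) := C.cw.cm (y := (0, 0, -1)) (z := (0, 1, -1)) i2 i3 (by decide) (by decide)
      (by decide) (by decide)
  have h3 : Cm (C.X (1, -2, 1)) (C.X (1, 1, 2)) := nst3 C.n3 (v := (1, -2, -1)) (w := (1, 1, -2)) (by decide) (by decide)
      (by decide) (by decide) h2
  have h4 : Cm (C.X (1, -2, 1)) (C.X (-1, 2, 1)) := C.cw.gn (y := (-1, 0, 1)) (z := (1, 0, 0)) (w := (0, 0, 1)) i4 i5 i6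
      (by decide) (by decide) (by decide) (by decide) h1.symm h3
  exact C.c2.ncm (y := (1, -2, 1)) (z := (-1, 2, 1)) rfl rfl (by decide) (by decide) (by decide) h4

theorem pat45 (C : Conf G (-1) 1 (-1) (-1) 1 (-1)) : False := by
  have i0 : C.Y (0, -1, -1) = C.X (-1, -1, 2) := by
    have k1 : Cm (C.X (0, 0, 2)) (C.X (2, -1, 1)) := C.c1.cm rfl rfl (by decide) (by decide) (by decide)
      (by decide)
    have k2 : Cm (C.X (0, 0, 2)) (C.X (1, -2, 1)) := C.c2.cm rfl rfl (by decide) (by decide) (by decide)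
      (by decide)
    have k3 : Cm (C.X (0, 0, 2)) (C.Y (0, -1, -1)) := C.cw.gn (y := (0, -1, 0)) (z := (0, 0, -1)) C.b_neg C.c_neg rfl
      (by decide) (by decide) (by decide) (by decide) k1 k2
    rcases C.bc (-1) (-1) (by decide) (by decide) with h | h | h | h
    · exact absurd (k3 : Cm (C.X (0, 0, 2)) (C.Y (0, -1, -1))) (C.c3.ncm rfl (h.symm : C.X (1, 1, -2) = C.Y (0, -1, -1))
        (by decide) (by decide) (by decide))
    · exact h
    · exact absurd (k3 : Cm (C.X (0, 0, 2)) (C.Y (0, -1, -1))) (C.c3.ncm rfl (h.symm : C.X (1, -1, 0) = C.Y (0, -1, -1))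
        (by decide) (by decide) (by decide))
    · exact absurd (k3 : Cm (C.X (0, 0, 2)) (C.Y (0, -1, -1))) (C.c3.ncm rfl (h.symm : C.X (-1, 1, 0) = C.Y (0, -1, -1))
        (by decide) (by decide) (by decide))
  have i1 : C.Y (1, 1, 0) = C.X (1, 2, 1) := by
    have k1 : Cm (C.X (0, 2, 0)) (C.X (1, 1, 2)) := C.c3.cm rfl rfl (by decide) (by decide) (by decide)
      (by decide)
    have k2 : Cm (C.X (0, 2, 0)) (C.X (-2, 1, -1)) := C.c1.cm rfl rfl (by decide) (by decide) (by decide)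
      (by decide)
    have k3 : Cm (C.X (0, 2, 0)) (C.Y (1, 1, 0)) := C.cw.gn (y := (1, 0, 0)) (z := (0, 1, 0)) C.a_pos C.b_pos rfl
      (by decide) (by decide) (by decide) (by decide) k1 k2
    rcases C.ab 1 1 (by decide) (by decide) with h | h | h | h
    · exact absurd (k3 : Cm (C.X (0, 2, 0)) (C.Y (1, 1, 0))) (C.c2.ncm rfl (h.symm : C.X (-1, -2, -1) = C.Y (1, 1, 0))
        (by decide) (by decide) (by decide))
    · exact h
    · exact absurd (k3 : Cm (C.X (0, 2, 0)) (C.Y (1, 1, 0))) (C.c2.ncm rfl (h.symm : C.X (-1, 0, 1) = C.Y (1, 1, 0))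
        (by decide) (by decide) (by decide))
    · exact absurd (k3 : Cm (C.X (0, 2, 0)) (C.Y (1, 1, 0))) (C.c2.ncm rfl (h.symm : C.X (1, 0, -1) = C.Y (1, 1, 0))
        (by decide) (by decide) (by decide))
  have i2 : C.Y (1, 0, -1) = C.X (2, 1, -1) := by
    have k1 : Cm (C.X (2, 0, 0)) (C.X (1, 1, 2)) := C.c3.cm rfl rfl (by decide) (by decide) (by decide)
      (by decide)
    have k2 : Cm (C.X (2, 0, 0)) (C.X (1, -2, 1)) := C.c2.cm rfl rfl (by decide) (by decide) (by decide)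
      (by decide)
    have k3 : Cm (C.X (2, 0, 0)) (C.Y (1, 0, -1)) := C.cw.gn (y := (1, 0, 0)) (z := (0, 0, -1)) C.a_pos C.c_neg rfl
      (by decide) (by decide) (by decide) (by decide) k1 k2
    rcases C.ac 1 (-1) (by decide) (by decide) with h | h | h | h
    · exact h
    · exact absurd (k3 : Cm (C.X (2, 0, 0)) (C.Y (1, 0, -1))) (C.c1.ncm rfl (h.symm : C.X (-2, -1, 1) = C.Y (1, 0, -1))
        (by decide) (by decide) (by decide))
    · exact absurd (k3 : Cm (C.X (2, 0, 0)) (C.Y (1, 0, -1))) (C.c1.ncm rfl (h.symm : C.X (0, 1, 1) = C.Y (1, 0, -1))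
        (by decide) (by decide) (by decide))
    · exact absurd (k3 : Cm (C.X (2, 0, 0)) (C.Y (1, 0, -1))) (C.c1.ncm rfl (h.symm : C.X (0, -1, -1) = C.Y (1, 0, -1))
        (by decide) (by decide) (by decide))
  have h0 : Cm (C.X (-1, -1, 2)) (C.X (0, 0, 2)) := C.c3.cm (y := (-1, -1, 2)) (z := (0, 0, 2)) rfl rfl (by decide) (by decide)
      (by decide) (by decide)
  have h1 : Cm (C.X (1, 2, 1)) (C.X (0, 0, 2)) := C.c2.cm (y := (1, 2, 1)) (z := (0, 0, 2)) rfl rfl (by decide) (by decide)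
      (by decide) (by decide)
  have h2 : Cm (C.X (0, 0, 2)) (C.X (2, 1, -1)) := C.cw.gn (y := (0, -1, -1)) (z := (1, 1, 0)) (w := (1, 0, -1)) i0 i1 i2
      (by decide) (by decide) (by decide) (by decide) h0.symm h1.symm
  exact C.c1.ncm (y := (2, 1, -1)) (z := (0, 0, 2)) rfl rfl (by decide) (by decide) (by decide) h2.symm

theorem pat46 (C : Conf G (-1) 1 (-1) (-1) (-1) 1) : False := by
  have i0 : C.Y (-1, 0, 1) = C.X (-2, -1, 1) := by
    have k1 : Cm (C.X (-2, 0, 0)) (C.X (-1, -1, -2)) := C.c3.cm rfl rfl (by decide) (by decide) (by decide)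
      (by decide)
    have k2 : Cm (C.X (-2, 0, 0)) (C.X (-1, -2, 1)) := C.c2.cm rfl rfl (by decide) (by decide) (by decide)
      (by decide)
    have k3 : Cm (C.X (-2, 0, 0)) (C.Y (-1, 0, 1)) := C.cw.gn (y := (-1, 0, 0)) (z := (0, 0, 1)) C.a_neg C.c_pos rfl
      (by decide) (by decide) (by decide) (by decide) k1 k2
    rcases C.ac (-1) 1 (by decide) (by decide) with h | h | h | h
    · exact absurd (k3 : Cm (C.X (-2, 0, 0)) (C.Y (-1, 0, 1))) (C.c1.ncm rfl (h.symm : C.X (2, 1, -1) = C.Y (-1, 0, 1))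
        (by decide) (by decide) (by decide))
    · exact h
    · exact absurd (k3 : Cm (C.X (-2, 0, 0)) (C.Y (-1, 0, 1))) (C.c1.ncm rfl (h.symm : C.X (0, 1, 1) = C.Y (-1, 0, 1))
        (by decide) (by decide) (by decide))
    · exact absurd (k3 : Cm (C.X (-2, 0, 0)) (C.Y (-1, 0, 1))) (C.c1.ncm rfl (h.symm : C.X (0, -1, -1) = C.Y (-1, 0, 1))
        (by decide) (by decide) (by decide))
  have i1 : C.Y (-1, -1, 0) = C.X (1, -2, -1) := by
    have k1 : Cm (C.X (0, -2, 0)) (C.X (-1, -1, -2)) := C.c3.cm rfl rfl (by decide) (by decide) (by decide)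
      (by decide)
    have k2 : Cm (C.X (0, -2, 0)) (C.X (2, -1, 1)) := C.c1.cm rfl rfl (by decide) (by decide) (by decide)
      (by decide)
    have k3 : Cm (C.X (0, -2, 0)) (C.Y (-1, -1, 0)) := C.cw.gn (y := (-1, 0, 0)) (z := (0, -1, 0)) C.a_neg C.b_neg rfl
      (by decide) (by decide) (by decide) (by decide) k1 k2
    rcases C.ab (-1) (-1) (by decide) (by decide) with h | h | h | h
    · exact absurd (k3 : Cm (C.X (0, -2, 0)) (C.Y (-1, -1, 0))) (C.c2.ncm rfl (h.symm : C.X (-1, 2, 1) = C.Y (-1, -1, 0))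
        (by decide) (by decide) (by decide))
    · exact h
    · exact absurd (k3 : Cm (C.X (0, -2, 0)) (C.Y (-1, -1, 0))) (C.c2.ncm rfl (h.symm : C.X (-1, 0, -1) = C.Y (-1, -1, 0))
        (by decide) (by decide) (by decide))
    · exact absurd (k3 : Cm (C.X (0, -2, 0)) (C.Y (-1, -1, 0))) (C.c2.ncm rfl (h.symm : C.X (1, 0, 1) = C.Y (-1, -1, 0))
        (by decide) (by decide) (by decide))
  have i2 : C.Y (0, 0, -1) = C.X (1, 2, -1) := C.c_neg
  have i3 : C.Y (0, 1, 0) = C.X (-2, 1, -1) := C.b_pos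
  have h0 : Cm (C.X (-2, -1, 1)) (C.X (1, -2, -1)) := C.cw.cm (y := (-1, 0, 1)) (z := (-1, -1, 0)) i0 i1 (by decide) (by decide)
      (by decide) (by decide)
  have h1 : Cm (C.X (-2, 1, 1)) (C.X (1, 2, -1)) := nst2 C.n2 (v := (-2, -1, 1)) (w := (1, -2, -1)) (by decide) (by decide)
      (by decide) (by decide) h0
  have h2 : Cm (C.X (0, 0, -2)) (C.X (1, 2, -1)) := C.c2.cm (y := (0, 0, -2)) (z := (1, 2, -1)) rfl rfl (by decide) (by decide)
      (by decide) (by decide)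
  have h3 : Cm (C.X (1, 2, -1)) (C.X (-2, 1, -1)) := C.c1.gn (y := (-2, 1, 1)) (z := (0, 0, -2)) (w := (-2, 1, -1)) rfl rfl rfl
      (by decide) (by decide) (by decide) (by decide) h1.symm h2.symm
  exact C.cw.ncm (y := (0, 0, -1)) (z := (0, 1, 0)) i2 i3 (by decide) (by decide) (by decide) h3

theorem pat47 (C : Conf G (-1) 1 (-1) (-1) (-1) (-1)) : False := by
  have i0 : C.Y (0, -1, -1) = C.X (-1, -1, 2) := by
    have k1 : Cm (C.X (0, 0, 2)) (C.X (2, -1, 1)) := C.c1.cm rfl rfl (by decide) (by decide) (by decide)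
      (by decide)
    have k2 : Cm (C.X (0, 0, 2)) (C.X (1, 2, 1)) := C.c2.cm rfl rfl (by decide) (by decide) (by decide)
      (by decide)
    have k3 : Cm (C.X (0, 0, 2)) (C.Y (0, -1, -1)) := C.cw.gn (y := (0, -1, 0)) (z := (0, 0, -1)) C.b_neg C.c_neg rfl
      (by decide) (by decide) (by decide) (by decide) k1 k2
    rcases C.bc (-1) (-1) (by decide) (by decide) with h | h | h | h
    · exact absurd (k3 : Cm (C.X (0, 0, 2)) (C.Y (0, -1, -1))) (C.c3.ncm rfl (h.symm : C.X (1, 1, -2) = C.Y (0, -1, -1))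
        (by decide) (by decide) (by decide))
    · exact h
    · exact absurd (k3 : Cm (C.X (0, 0, 2)) (C.Y (0, -1, -1))) (C.c3.ncm rfl (h.symm : C.X (1, -1, 0) = C.Y (0, -1, -1))
        (by decide) (by decide) (by decide))
    · exact absurd (k3 : Cm (C.X (0, 0, 2)) (C.Y (0, -1, -1))) (C.c3.ncm rfl (h.symm : C.X (-1, 1, 0) = C.Y (0, -1, -1))
        (by decide) (by decide) (by decide))
  have i1 : C.Y (1, 1, 0) = C.X (-1, 2, -1) := by
    have k1 : Cm (C.X (0, 2, 0)) (C.X (1, 1, 2)) := C.c3.cm rfl rfl (by decide) (by decide) (by decide)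
      (by decide)
    have k2 : Cm (C.X (0, 2, 0)) (C.X (-2, 1, -1)) := C.c1.cm rfl rfl (by decide) (by decide) (by decide)
      (by decide)
    have k3 : Cm (C.X (0, 2, 0)) (C.Y (1, 1, 0)) := C.cw.gn (y := (1, 0, 0)) (z := (0, 1, 0)) C.a_pos C.b_pos rfl
      (by decide) (by decide) (by decide) (by decide) k1 k2
    rcases C.ab 1 1 (by decide) (by decide) with h | h | h | h
    · exact h
    · exact absurd (k3 : Cm (C.X (0, 2, 0)) (C.Y (1, 1, 0))) (C.c2.ncm rfl (h.symm : C.X (1, -2, 1) = C.Y (1, 1, 0))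
        (by decide) (by decide) (by decide))
    · exact absurd (k3 : Cm (C.X (0, 2, 0)) (C.Y (1, 1, 0))) (C.c2.ncm rfl (h.symm : C.X (-1, 0, 1) = C.Y (1, 1, 0))
        (by decide) (by decide) (by decide))
    · exact absurd (k3 : Cm (C.X (0, 2, 0)) (C.Y (1, 1, 0))) (C.c2.ncm rfl (h.symm : C.X (1, 0, -1) = C.Y (1, 1, 0))
        (by decide) (by decide) (by decide))
  have i2 : C.Y (1, 0, -1) = C.X (2, 1, -1) := by
    have k1 : Cm (C.X (2, 0, 0)) (C.X (1, 1, 2)) := C.c3.cm rfl rfl (by decide) (by decide) (by decide)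
      (by decide)
    have k2 : Cm (C.X (2, 0, 0)) (C.X (1, 2, 1)) := C.c2.cm rfl rfl (by decide) (by decide) (by decide)
      (by decide)
    have k3 : Cm (C.X (2, 0, 0)) (C.Y (1, 0, -1)) := C.cw.gn (y := (1, 0, 0)) (z := (0, 0, -1)) C.a_pos C.c_neg rfl
      (by decide) (by decide) (by decide) (by decide) k1 k2
    rcases C.ac 1 (-1) (by decide) (by decide) with h | h | h | h
    · exact h
    · exact absurd (k3 : Cm (C.X (2, 0, 0)) (C.Y (1, 0, -1))) (C.c1.ncm rfl (h.symm : C.X (-2, -1, 1) = C.Y (1, 0, -1))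
        (by decide) (by decide) (by decide))
    · exact absurd (k3 : Cm (C.X (2, 0, 0)) (C.Y (1, 0, -1))) (C.c1.ncm rfl (h.symm : C.X (0, 1, 1) = C.Y (1, 0, -1))
        (by decide) (by decide) (by decide))
    · exact absurd (k3 : Cm (C.X (2, 0, 0)) (C.Y (1, 0, -1))) (C.c1.ncm rfl (h.symm : C.X (0, -1, -1) = C.Y (1, 0, -1))
        (by decide) (by decide) (by decide))
  have h0 : Cm (C.X (-1, -1, 2)) (C.X (-2, 0, 0)) := C.c3.cm (y := (-1, -1, 2)) (z := (-2, 0, 0)) rfl rfl (by decide) (by decide)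
      (by decide) (by decide)
  have h1 : Cm (C.X (-1, 2, -1)) (C.X (-2, 0, 0)) := C.c2.cm (y := (-1, 2, -1)) (z := (-2, 0, 0)) rfl rfl (by decide) (by decide)
      (by decide) (by decide)
  have h2 : Cm (C.X (-2, 0, 0)) (C.X (2, 1, -1)) := C.cw.gn (y := (0, -1, -1)) (z := (1, 1, 0)) (w := (1, 0, -1)) i0 i1 i2
      (by decide) (by decide) (by decide) (by decide) h0.symm h1.symm
  exact C.c1.ncm (y := (2, 1, -1)) (z := (-2, 0, 0)) rfl rfl (by decide) (by decide) (by decide) h2.symm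

theorem pat48 (C : Conf G (-1) (-1) 1 1 1 1) : False := by
  have i0 : C.Y (0, -1, -1) = C.X (1, 1, -2) := by
    have k1 : Cm (C.X (0, 0, -2)) (C.X (2, 1, -1)) := C.c1.cm rfl rfl (by decide) (by decide) (by decide)
      (by decide)
    have k2 : Cm (C.X (0, 0, -2)) (C.X (-1, -2, -1)) := C.c2.cm rfl rfl (by decide) (by decide) (by decide)
      (by decide)
    have k3 : Cm (C.X (0, 0, -2)) (C.Y (0, -1, -1)) := C.cw.gn (y := (0, -1, 0)) (z := (0, 0, -1)) C.b_neg C.c_neg rfl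
      (by decide) (by decide) (by decide) (by decide) k1 k2
    rcases C.bc (-1) (-1) (by decide) (by decide) with h | h | h | h
    · exact h
    · exact absurd (k3 : Cm (C.X (0, 0, -2)) (C.Y (0, -1, -1))) (C.c3.ncm rfl (h.symm : C.X (-1, -1, 2) = C.Y (0, -1, -1))
        (by decide) (by decide) (by decide))
    · exact absurd (k3 : Cm (C.X (0, 0, -2)) (C.Y (0, -1, -1))) (C.c3.ncm rfl (h.symm : C.X (1, -1, 0) = C.Y (0, -1, -1))
        (by decide) (by decide) (by decide))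
    · exact absurd (k3 : Cm (C.X (0, 0, -2)) (C.Y (0, -1, -1))) (C.c3.ncm rfl (h.symm : C.X (-1, 1, 0) = C.Y (0, -1, -1))
        (by decide) (by decide) (by decide))
  have i1 : C.Y (1, 0, 1) = C.X (2, -1, 1) := by
    have k1 : Cm (C.X (2, 0, 0)) (C.X (1, 1, 2)) := C.c3.cm rfl rfl (by decide) (by decide) (by decide)
      (by decide)
    have k2 : Cm (C.X (2, 0, 0)) (C.X (1, 2, 1)) := C.c2.cm rfl rfl (by decide) (by decide) (by decide)
      (by decide)
    have k3 : Cm (C.X (2, 0, 0)) (C.Y (1, 0, 1)) := C.cw.gn (y := (1, 0, 0)) (z := (0, 0, 1)) C.a_pos C.c_pos rfl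
      (by decide) (by decide) (by decide) (by decide) k1 k2
    rcases C.ac 1 1 (by decide) (by decide) with h | h | h | h
    · exact h
    · exact absurd (k3 : Cm (C.X (2, 0, 0)) (C.Y (1, 0, 1))) (C.c1.ncm rfl (h.symm : C.X (-2, 1, -1) = C.Y (1, 0, 1))
        (by decide) (by decide) (by decide))
    · exact absurd (k3 : Cm (C.X (2, 0, 0)) (C.Y (1, 0, 1))) (C.c1.ncm rfl (h.symm : C.X (0, -1, -1) = C.Y (1, 0, 1))
        (by decide) (by decide) (by decide))
    · exact absurd (k3 : Cm (C.X (2, 0, 0)) (C.Y (1, 0, 1))) (C.c1.ncm rfl (h.symm : C.X (0, 1, 1) = C.Y (1, 0, 1))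
        (by decide) (by decide) (by decide))
  have i2 : C.Y (1, -1, 0) = C.X (-1, 2, -1) := by
    have k1 : Cm (C.X (0, 2, 0)) (C.X (1, 1, 2)) := C.c3.cm rfl rfl (by decide) (by decide) (by decide)
      (by decide)
    have k2 : Cm (C.X (0, 2, 0)) (C.X (2, 1, -1)) := C.c1.cm rfl rfl (by decide) (by decide) (by decide)
      (by decide)
    have k3 : Cm (C.X (0, 2, 0)) (C.Y (1, -1, 0)) := C.cw.gn (y := (1, 0, 0)) (z := (0, -1, 0)) C.a_pos C.b_neg rfl
      (by decide) (by decide) (by decide) (by decide) k1 k2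
    rcases C.ab 1 (-1) (by decide) (by decide) with h | h | h | h
    · exact absurd (k3 : Cm (C.X (0, 2, 0)) (C.Y (1, -1, 0))) (C.c2.ncm rfl (h.symm : C.X (1, -2, 1) = C.Y (1, -1, 0))
        (by decide) (by decide) (by decide))
    · exact h
    · exact absurd (k3 : Cm (C.X (0, 2, 0)) (C.Y (1, -1, 0))) (C.c2.ncm rfl (h.symm : C.X (1, 0, -1) = C.Y (1, -1, 0))
        (by decide) (by decide) (by decide))
    · exact absurd (k3 : Cm (C.X (0, 2, 0)) (C.Y (1, -1, 0))) (C.c2.ncm rfl (h.symm : C.X (-1, 0, 1) = C.Y (1, -1, 0))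
        (by decide) (by decide) (by decide))
  have h0 : Cm (C.X (2, 0, 0)) (C.X (1, 1, -2)) := C.c3.cm (y := (2, 0, 0)) (z := (1, 1, -2)) rfl rfl (by decide) (by decide)
      (by decide) (by decide)
  have h1 : Cm (C.X (2, 0, 0)) (C.X (2, -1, 1)) := C.c1.cm (y := (2, 0, 0)) (z := (2, -1, 1)) rfl rfl (by decide) (by decide)
      (by decide) (by decide)
  have h2 : Cm (C.X (2, 0, 0)) (C.X (-1, 2, -1)) := C.cw.gn (y := (0, -1, -1)) (z := (1, 0, 1)) (w := (1, -1, 0)) i0 i1 i2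
      (by decide) (by decide) (by decide) (by decide) h0 h1
  exact C.c2.ncm (y := (2, 0, 0)) (z := (-1, 2, -1)) rfl rfl (by decide) (by decide) (by decide) h2

theorem pat49 (C : Conf G (-1) (-1) 1 1 1 (-1)) : False := by
  have i0 : C.Y (-1, 0, -1) = C.X (-2, 1, -1) := by
    have k1 : Cm (C.X (-2, 0, 0)) (C.X (-1, -1, -2)) := C.c3.cm rfl rfl (by decide) (by decide) (by decide)
      (by decide)
    have k2 : Cm (C.X (-2, 0, 0)) (C.X (-1, -2, 1)) := C.c2.cm rfl rfl (by decide) (by decide) (by decide)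
      (by decide)
    have k3 : Cm (C.X (-2, 0, 0)) (C.Y (-1, 0, -1)) := C.cw.gn (y := (-1, 0, 0)) (z := (0, 0, -1)) C.a_neg C.c_neg rfl
      (by decide) (by decide) (by decide) (by decide) k1 k2
    rcases C.ac (-1) (-1) (by decide) (by decide) with h | h | h | h
    · exact absurd (k3 : Cm (C.X (-2, 0, 0)) (C.Y (-1, 0, -1))) (C.c1.ncm rfl (h.symm : C.X (2, -1, 1) = C.Y (-1, 0, -1))
        (by decide) (by decide) (by decide))
    · exact h
    · exact absurd (k3 : Cm (C.X (-2, 0, 0)) (C.Y (-1, 0, -1))) (C.c1.ncm rfl (h.symm : C.X (0, -1, -1) = C.Y (-1, 0, -1))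
        (by decide) (by decide) (by decide))
    · exact absurd (k3 : Cm (C.X (-2, 0, 0)) (C.Y (-1, 0, -1))) (C.c1.ncm rfl (h.symm : C.X (0, 1, 1) = C.Y (-1, 0, -1))
        (by decide) (by decide) (by decide))
  have i1 : C.Y (1, 0, 0) = C.X (1, 1, 2) := C.a_pos
  have i2 : C.Y (0, 0, -1) = C.X (-1, -2, 1) := C.c_neg
  have h0 : Cm (C.X (-2, 1, -1)) (C.X (0, 2, 0)) := C.c1.cm (y := (-2, 1, -1)) (z := (0, 2, 0)) rfl rfl (by decide) (by decide)
      (by decide) (by decide)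
  have h1 : Cm (C.X (0, 2, 0)) (C.X (1, 1, 2)) := C.c3.cm (y := (0, 2, 0)) (z := (1, 1, 2)) rfl rfl (by decide) (by decide)
      (by decide) (by decide)
  have h2 : Cm (C.X (0, 2, 0)) (C.X (-1, -2, 1)) := C.cw.gn (y := (-1, 0, -1)) (z := (1, 0, 0)) (w := (0, 0, -1)) i0 i1 i2
      (by decide) (by decide) (by decide) (by decide) h0.symm h1
  exact C.c2.ncm (y := (-1, -2, 1)) (z := (0, 2, 0)) rfl rfl (by decide) (by decide) (by decide) h2.symm

theorem pat50 (C : Conf G (-1) (-1) 1 1 (-1) 1) : False := by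
  have i0 : C.Y (1, 0, 1) = C.X (2, -1, 1) := by
    have k1 : Cm (C.X (2, 0, 0)) (C.X (1, 1, 2)) := C.c3.cm rfl rfl (by decide) (by decide) (by decide)
      (by decide)
    have k2 : Cm (C.X (2, 0, 0)) (C.X (1, -2, 1)) := C.c2.cm rfl rfl (by decide) (by decide) (by decide)
      (by decide)
    have k3 : Cm (C.X (2, 0, 0)) (C.Y (1, 0, 1)) := C.cw.gn (y := (1, 0, 0)) (z := (0, 0, 1)) C.a_pos C.c_pos rfl
      (by decide) (by decide) (by decide) (by decide) k1 k2
    rcases C.ac 1 1 (by decide) (by decide) with h | h | h | h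
    · exact h
    · exact absurd (k3 : Cm (C.X (2, 0, 0)) (C.Y (1, 0, 1))) (C.c1.ncm rfl (h.symm : C.X (-2, 1, -1) = C.Y (1, 0, 1))
        (by decide) (by decide) (by decide))
    · exact absurd (k3 : Cm (C.X (2, 0, 0)) (C.Y (1, 0, 1))) (C.c1.ncm rfl (h.symm : C.X (0, -1, -1) = C.Y (1, 0, 1))
        (by decide) (by decide) (by decide))
    · exact absurd (k3 : Cm (C.X (2, 0, 0)) (C.Y (1, 0, 1))) (C.c1.ncm rfl (h.symm : C.X (0, 1, 1) = C.Y (1, 0, 1))
        (by decide) (by decide) (by decide))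
  have i1 : C.Y (1, 0, 0) = C.X (1, 1, 2) := C.a_pos
  have i2 : C.Y (0, -1, -1) = C.X (1, 1, -2) := by
    have k1 : Cm (C.X (0, 0, -2)) (C.X (2, 1, -1)) := C.c1.cm rfl rfl (by decide) (by decide) (by decide)
      (by decide)
    have k2 : Cm (C.X (0, 0, -2)) (C.X (-1, 2, -1)) := C.c2.cm rfl rfl (by decide) (by decide) (by decide)
      (by decide)
    have k3 : Cm (C.X (0, 0, -2)) (C.Y (0, -1, -1)) := C.cw.gn (y := (0, -1, 0)) (z := (0, 0, -1)) C.b_neg C.c_neg rfl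
      (by decide) (by decide) (by decide) (by decide) k1 k2
    rcases C.bc (-1) (-1) (by decide) (by decide) with h | h | h | h
    · exact h
    · exact absurd (k3 : Cm (C.X (0, 0, -2)) (C.Y (0, -1, -1))) (C.c3.ncm rfl (h.symm : C.X (-1, -1, 2) = C.Y (0, -1, -1))
        (by decide) (by decide) (by decide))
    · exact absurd (k3 : Cm (C.X (0, 0, -2)) (C.Y (0, -1, -1))) (C.c3.ncm rfl (h.symm : C.X (1, -1, 0) = C.Y (0, -1, -1))
        (by decide) (by decide) (by decide))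
    · exact absurd (k3 : Cm (C.X (0, 0, -2)) (C.Y (0, -1, -1))) (C.c3.ncm rfl (h.symm : C.X (-1, 1, 0) = C.Y (0, -1, -1))
        (by decide) (by decide) (by decide))
  have i3 : C.Y (1, -1, 0) = C.X (1, 2, 1) := by
    have k1 : Cm (C.X (0, 2, 0)) (C.X (1, 1, 2)) := C.c3.cm rfl rfl (by decide) (by decide) (by decide)
      (by decide)
    have k2 : Cm (C.X (0, 2, 0)) (C.X (2, 1, -1)) := C.c1.cm rfl rfl (by decide) (by decide) (by decide)
      (by decide)
    have k3 : Cm (C.X (0, 2, 0)) (C.Y (1, -1, 0)) := C.cw.gn (y := (1, 0, 0)) (z := (0, -1, 0)) C.a_pos C.b_neg rfl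
      (by decide) (by decide) (by decide) (by decide) k1 k2
    rcases C.ab 1 (-1) (by decide) (by decide) with h | h | h | h
    · exact h
    · exact absurd (k3 : Cm (C.X (0, 2, 0)) (C.Y (1, -1, 0))) (C.c2.ncm rfl (h.symm : C.X (-1, -2, -1) = C.Y (1, -1, 0))
        (by decide) (by decide) (by decide))
    · exact absurd (k3 : Cm (C.X (0, 2, 0)) (C.Y (1, -1, 0))) (C.c2.ncm rfl (h.symm : C.X (1, 0, -1) = C.Y (1, -1, 0))
        (by decide) (by decide) (by decide))
    · exact absurd (k3 : Cm (C.X (0, 2, 0)) (C.Y (1, -1, 0))) (C.c2.ncm rfl (h.symm : C.X (-1, 0, 1) = C.Y (1, -1, 0))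
        (by decide) (by decide) (by decide))
  have i4 : C.Y (0, 0, 1) = C.X (1, -2, 1) := C.c_pos
  have i5 : C.Y (0, -1, 0) = C.X (2, 1, -1) := C.b_neg
  have h0 : Cm (C.X (2, -1, 1)) (C.X (1, 1, 2)) := C.cw.cm (y := (1, 0, 1)) (z := (1, 0, 0)) i0 i1 (by decide) (by decide)
      (by decide) (by decide)
  have h1 : Cm (C.X (2, -1, -1)) (C.X (1, 1, -2)) := nst3 C.n3 (v := (2, -1, 1)) (w := (1, 1, 2)) (by decide) (by decide)
      (by decide) (by decide) h0
  have h2 : Cm (C.X (2, -1, -1)) (C.X (2, -1, 1)) := C.c1.cm (y := (2, -1, -1)) (z := (2, -1, 1)) rfl rfl (by decide) (by decide)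
      (by decide) (by decide)
  have h3 : Cm (C.X (2, -1, -1)) (C.X (1, 2, 1)) := C.cw.gn (y := (0, -1, -1)) (z := (1, 0, 1)) (w := (1, -1, 0)) i2 i0 i3
      (by decide) (by decide) (by decide) (by decide) h1 h2
  have h4 : Cm (C.X (2, 1, -1)) (C.X (1, -2, 1)) := nst2 C.n2 (v := (2, -1, -1)) (w := (1, 2, 1)) (by decide) (by decide)
      (by decide) (by decide) h3
  exact C.cw.ncm (y := (0, 0, 1)) (z := (0, -1, 0)) i4 i5 (by decide) (by decide) (by decide) h4.symm

theorem pat51 (C : Conf G (-1) (-1) 1 1 (-1) (-1)) : False := by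
  have i0 : C.Y (-1, 0, -1) = C.X (-2, 1, -1) := by
    have k1 : Cm (C.X (-2, 0, 0)) (C.X (-1, -1, -2)) := C.c3.cm rfl rfl (by decide) (by decide) (by decide)
      (by decide)
    have k2 : Cm (C.X (-2, 0, 0)) (C.X (-1, 2, 1)) := C.c2.cm rfl rfl (by decide) (by decide) (by decide)
      (by decide)
    have k3 : Cm (C.X (-2, 0, 0)) (C.Y (-1, 0, -1)) := C.cw.gn (y := (-1, 0, 0)) (z := (0, 0, -1)) C.a_neg C.c_neg rfl
      (by decide) (by decide) (by decide) (by decide) k1 k2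
    rcases C.ac (-1) (-1) (by decide) (by decide) with h | h | h | h
    · exact absurd (k3 : Cm (C.X (-2, 0, 0)) (C.Y (-1, 0, -1))) (C.c1.ncm rfl (h.symm : C.X (2, -1, 1) = C.Y (-1, 0, -1))
        (by decide) (by decide) (by decide))
    · exact h
    · exact absurd (k3 : Cm (C.X (-2, 0, 0)) (C.Y (-1, 0, -1))) (C.c1.ncm rfl (h.symm : C.X (0, -1, -1) = C.Y (-1, 0, -1))
        (by decide) (by decide) (by decide))
    · exact absurd (k3 : Cm (C.X (-2, 0, 0)) (C.Y (-1, 0, -1))) (C.c1.ncm rfl (h.symm : C.X (0, 1, 1) = C.Y (-1, 0, -1))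
        (by decide) (by decide) (by decide))
  have i1 : C.Y (0, 1, -1) = C.X (-1, -1, 2) := by
    have k1 : Cm (C.X (0, 0, 2)) (C.X (-2, -1, 1)) := C.c1.cm rfl rfl (by decide) (by decide) (by decide)
      (by decide)
    have k2 : Cm (C.X (0, 0, 2)) (C.X (-1, 2, 1)) := C.c2.cm rfl rfl (by decide) (by decide) (by decide)
      (by decide)
    have k3 : Cm (C.X (0, 0, 2)) (C.Y (0, 1, -1)) := C.cw.gn (y := (0, 1, 0)) (z := (0, 0, -1)) C.b_pos C.c_neg rfl
      (by decide) (by decide) (by decide) (by decide) k1 k2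
    rcases C.bc 1 (-1) (by decide) (by decide) with h | h | h | h
    · exact absurd (k3 : Cm (C.X (0, 0, 2)) (C.Y (0, 1, -1))) (C.c3.ncm rfl (h.symm : C.X (1, 1, -2) = C.Y (0, 1, -1))
        (by decide) (by decide) (by decide))
    · exact h
    · exact absurd (k3 : Cm (C.X (0, 0, 2)) (C.Y (0, 1, -1))) (C.c3.ncm rfl (h.symm : C.X (1, -1, 0) = C.Y (0, 1, -1))
        (by decide) (by decide) (by decide))
    · exact absurd (k3 : Cm (C.X (0, 0, 2)) (C.Y (0, 1, -1))) (C.c3.ncm rfl (h.symm : C.X (-1, 1, 0) = C.Y (0, 1, -1))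
        (by decide) (by decide) (by decide))
  have i2 : C.Y (-1, 0, 0) = C.X (-1, -1, -2) := C.a_neg
  have i3 : C.Y (0, 1, 0) = C.X (-2, -1, 1) := C.b_pos
  have h0 : Cm (C.X (-2, 1, -1)) (C.X (-1, -1, 2)) := C.cw.cm (y := (-1, 0, -1)) (z := (0, 1, -1)) i0 i1 (by decide) (by decide)
      (by decide) (by decide)
  have h1 : Cm (C.X (-2, 1, 1)) (C.X (-1, -1, -2)) := nst3 C.n3 (v := (-2, 1, -1)) (w := (-1, -1, 2)) (by decide) (by decide)
      (by decide) (by decide) h0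
  have h2 : Cm (C.X (-1, -1, -2)) (C.X (0, -2, 0)) := C.c3.cm (y := (-1, -1, -2)) (z := (0, -2, 0)) rfl rfl (by decide) (by decide)
      (by decide) (by decide)
  have h3 : Cm (C.X (-1, -1, -2)) (C.X (-2, -1, 1)) := C.c1.gn (y := (-2, 1, 1)) (z := (0, -2, 0)) (w := (-2, -1, 1)) rfl rfl rfl
      (by decide) (by decide) (by decide) (by decide) h1.symm h2
  exact C.cw.ncm (y := (-1, 0, 0)) (z := (0, 1, 0)) i2 i3 (by decide) (by decide) (by decide) h3

theorem pat52 (C : Conf G (-1) (-1) 1 (-1) 1 1) : False := by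
  have i0 : C.Y (-1, 0, 1) = C.X (-2, 1, -1) := by
    have k1 : Cm (C.X (-2, 0, 0)) (C.X (-1, -1, -2)) := C.c3.cm rfl rfl (by decide) (by decide) (by decide)
      (by decide)
    have k2 : Cm (C.X (-2, 0, 0)) (C.X (-1, 2, 1)) := C.c2.cm rfl rfl (by decide) (by decide) (by decide)
      (by decide)
    have k3 : Cm (C.X (-2, 0, 0)) (C.Y (-1, 0, 1)) := C.cw.gn (y := (-1, 0, 0)) (z := (0, 0, 1)) C.a_neg C.c_pos rfl
      (by decide) (by decide) (by decide) (by decide) k1 k2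
    rcases C.ac (-1) 1 (by decide) (by decide) with h | h | h | h
    · exact absurd (k3 : Cm (C.X (-2, 0, 0)) (C.Y (-1, 0, 1))) (C.c1.ncm rfl (h.symm : C.X (2, -1, 1) = C.Y (-1, 0, 1))
        (by decide) (by decide) (by decide))
    · exact h
    · exact absurd (k3 : Cm (C.X (-2, 0, 0)) (C.Y (-1, 0, 1))) (C.c1.ncm rfl (h.symm : C.X (0, -1, -1) = C.Y (-1, 0, 1))
        (by decide) (by decide) (by decide))
    · exact absurd (k3 : Cm (C.X (-2, 0, 0)) (C.Y (-1, 0, 1))) (C.c1.ncm rfl (h.symm : C.X (0, 1, 1) = C.Y (-1, 0, 1))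
        (by decide) (by decide) (by decide))
  have i1 : C.Y (0, 1, 1) = C.X (-1, -1, 2) := by
    have k1 : Cm (C.X (0, 0, 2)) (C.X (-2, -1, 1)) := C.c1.cm rfl rfl (by decide) (by decide) (by decide)
      (by decide)
    have k2 : Cm (C.X (0, 0, 2)) (C.X (-1, 2, 1)) := C.c2.cm rfl rfl (by decide) (by decide) (by decide)
      (by decide)
    have k3 : Cm (C.X (0, 0, 2)) (C.Y (0, 1, 1)) := C.cw.gn (y := (0, 1, 0)) (z := (0, 0, 1)) C.b_pos C.c_pos rfl
      (by decide) (by decide) (by decide) (by decide) k1 k2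
    rcases C.bc 1 1 (by decide) (by decide) with h | h | h | h
    · exact absurd (k3 : Cm (C.X (0, 0, 2)) (C.Y (0, 1, 1))) (C.c3.ncm rfl (h.symm : C.X (1, 1, -2) = C.Y (0, 1, 1))
        (by decide) (by decide) (by decide))
    · exact h
    · exact absurd (k3 : Cm (C.X (0, 0, 2)) (C.Y (0, 1, 1))) (C.c3.ncm rfl (h.symm : C.X (1, -1, 0) = C.Y (0, 1, 1))
        (by decide) (by decide) (by decide))
    · exact absurd (k3 : Cm (C.X (0, 0, 2)) (C.Y (0, 1, 1))) (C.c3.ncm rfl (h.symm : C.X (-1, 1, 0) = C.Y (0, 1, 1))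
        (by decide) (by decide) (by decide))
  have i2 : C.Y (-1, 0, 0) = C.X (-1, -1, -2) := C.a_neg
  have i3 : C.Y (0, 1, 0) = C.X (-2, -1, 1) := C.b_pos
  have h0 : Cm (C.X (-2, 1, -1)) (C.X (-1, -1, 2)) := C.cw.cm (y := (-1, 0, 1)) (z := (0, 1, 1)) i0 i1 (by decide) (by decide)
      (by decide) (by decide)
  have h1 : Cm (C.X (-2, 1, 1)) (C.X (-1, -1, -2)) := nst3 C.n3 (v := (-2, 1, -1)) (w := (-1, -1, 2)) (by decide) (by decide)
      (by decide) (by decide) h0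
  have h2 : Cm (C.X (-1, -1, -2)) (C.X (0, -2, 0)) := C.c3.cm (y := (-1, -1, -2)) (z := (0, -2, 0)) rfl rfl (by decide) (by decide)
      (by decide) (by decide)
  have h3 : Cm (C.X (-1, -1, -2)) (C.X (-2, -1, 1)) := C.c1.gn (y := (-2, 1, 1)) (z := (0, -2, 0)) (w := (-2, -1, 1)) rfl rfl rfl
      (by decide) (by decide) (by decide) (by decide) h1.symm h2
  exact C.cw.ncm (y := (-1, 0, 0)) (z := (0, 1, 0)) i2 i3 (by decide) (by decide) (by decide) h3

theorem pat53 (C : Conf G (-1) (-1) 1 (-1) 1 (-1)) : False := by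
  have i0 : C.Y (0, -1, 0) = C.X (2, 1, -1) := C.b_neg
  have i1 : C.Y (1, -1, 0) = C.X (1, 2, 1) := by
    have k1 : Cm (C.X (0, 2, 0)) (C.X (1, 1, 2)) := C.c3.cm rfl rfl (by decide) (by decide) (by decide)
      (by decide)
    have k2 : Cm (C.X (0, 2, 0)) (C.X (2, 1, -1)) := C.c1.cm rfl rfl (by decide) (by decide) (by decide)
      (by decide)
    have k3 : Cm (C.X (0, 2, 0)) (C.Y (1, -1, 0)) := C.cw.gn (y := (1, 0, 0)) (z := (0, -1, 0)) C.a_pos C.b_neg rfl
      (by decide) (by decide) (by decide) (by decide) k1 k2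
    rcases C.ab 1 (-1) (by decide) (by decide) with h | h | h | h
    · exact absurd (k3 : Cm (C.X (0, 2, 0)) (C.Y (1, -1, 0))) (C.c2.ncm rfl (h.symm : C.X (-1, -2, -1) = C.Y (1, -1, 0))
        (by decide) (by decide) (by decide))
    · exact h
    · exact absurd (k3 : Cm (C.X (0, 2, 0)) (C.Y (1, -1, 0))) (C.c2.ncm rfl (h.symm : C.X (-1, 0, 1) = C.Y (1, -1, 0))
        (by decide) (by decide) (by decide))
    · exact absurd (k3 : Cm (C.X (0, 2, 0)) (C.Y (1, -1, 0))) (C.c2.ncm rfl (h.symm : C.X (1, 0, -1) = C.Y (1, -1, 0))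
        (by decide) (by decide) (by decide))
  have i2 : C.Y (-1, 0, 1) = C.X (-2, 1, -1) := by
    have k1 : Cm (C.X (-2, 0, 0)) (C.X (-1, -1, -2)) := C.c3.cm rfl rfl (by decide) (by decide) (by decide)
      (by decide)
    have k2 : Cm (C.X (-2, 0, 0)) (C.X (-1, 2, -1)) := C.c2.cm rfl rfl (by decide) (by decide) (by decide)
      (by decide)
    have k3 : Cm (C.X (-2, 0, 0)) (C.Y (-1, 0, 1)) := C.cw.gn (y := (-1, 0, 0)) (z := (0, 0, 1)) C.a_neg C.c_pos rfl
      (by decide) (by decide) (by decide) (by decide) k1 k2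
    rcases C.ac (-1) 1 (by decide) (by decide) with h | h | h | h
    · exact absurd (k3 : Cm (C.X (-2, 0, 0)) (C.Y (-1, 0, 1))) (C.c1.ncm rfl (h.symm : C.X (2, -1, 1) = C.Y (-1, 0, 1))
        (by decide) (by decide) (by decide))
    · exact h
    · exact absurd (k3 : Cm (C.X (-2, 0, 0)) (C.Y (-1, 0, 1))) (C.c1.ncm rfl (h.symm : C.X (0, -1, -1) = C.Y (-1, 0, 1))
        (by decide) (by decide) (by decide))
    · exact absurd (k3 : Cm (C.X (-2, 0, 0)) (C.Y (-1, 0, 1))) (C.c1.ncm rfl (h.symm : C.X (0, 1, 1) = C.Y (-1, 0, 1))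
        (by decide) (by decide) (by decide))
  have i3 : C.Y (0, -1, 1) = C.X (1, 1, -2) := by
    have k1 : Cm (C.X (0, 0, -2)) (C.X (2, 1, -1)) := C.c1.cm rfl rfl (by decide) (by decide) (by decide)
      (by decide)
    have k2 : Cm (C.X (0, 0, -2)) (C.X (-1, 2, -1)) := C.c2.cm rfl rfl (by decide) (by decide) (by decide)
      (by decide)
    have k3 : Cm (C.X (0, 0, -2)) (C.Y (0, -1, 1)) := C.cw.gn (y := (0, -1, 0)) (z := (0, 0, 1)) C.b_neg C.c_pos rfl
      (by decide) (by decide) (by decide) (by decide) k1 k2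
    rcases C.bc (-1) 1 (by decide) (by decide) with h | h | h | h
    · exact h
    · exact absurd (k3 : Cm (C.X (0, 0, -2)) (C.Y (0, -1, 1))) (C.c3.ncm rfl (h.symm : C.X (-1, -1, 2) = C.Y (0, -1, 1))
        (by decide) (by decide) (by decide))
    · exact absurd (k3 : Cm (C.X (0, 0, -2)) (C.Y (0, -1, 1))) (C.c3.ncm rfl (h.symm : C.X (1, -1, 0) = C.Y (0, -1, 1))
        (by decide) (by decide) (by decide))
    · exact absurd (k3 : Cm (C.X (0, 0, -2)) (C.Y (0, -1, 1))) (C.c3.ncm rfl (h.symm : C.X (-1, 1, 0) = C.Y (0, -1, 1))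
        (by decide) (by decide) (by decide))
  have i4 : C.Y (0, 0, 1) = C.X (-1, 2, -1) := C.c_pos
  have i5 : C.Y (1, 0, 0) = C.X (1, 1, 2) := C.a_pos
  have h0 : Cm (C.X (2, 1, -1)) (C.X (1, 2, 1)) := C.cw.cm (y := (0, -1, 0)) (z := (1, -1, 0)) i0 i1 (by decide) (by decide)
      (by decide) (by decide)
  have h1 : Cm (C.X (-2, 1, -1)) (C.X (-1, 2, 1)) := nst1 C.n1 (v := (2, 1, -1)) (w := (1, 2, 1)) (by decide) (by decide)
      (by decide) (by decide) h0
  have h2 : Cm (C.X (1, 2, 1)) (C.X (-1, 2, 1)) := C.c2.cm (y := (1, 2, 1)) (z := (-1, 2, 1)) rfl rfl (by decide) (by decide)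
      (by decide) (by decide)
  have h3 : Cm (C.X (-1, 2, 1)) (C.X (1, 1, -2)) := C.cw.gn (y := (-1, 0, 1)) (z := (1, -1, 0)) (w := (0, -1, 1)) i2 i1 i3
      (by decide) (by decide) (by decide) (by decide) h1.symm h2.symm
  have h4 : Cm (C.X (-1, 2, -1)) (C.X (1, 1, 2)) := nst3 C.n3 (v := (-1, 2, 1)) (w := (1, 1, -2)) (by decide) (by decide)
      (by decide) (by decide) h3
  exact C.cw.ncm (y := (0, 0, 1)) (z := (1, 0, 0)) i4 i5 (by decide) (by decide) (by decide) h4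

theorem pat54 (C : Conf G (-1) (-1) 1 (-1) (-1) 1) : False := by
  have i0 : C.Y (-1, 0, 1) = C.X (-2, 1, -1) := by
    have k1 : Cm (C.X (-2, 0, 0)) (C.X (-1, -1, -2)) := C.c3.cm rfl rfl (by decide) (by decide) (by decide)
      (by decide)
    have k2 : Cm (C.X (-2, 0, 0)) (C.X (-1, -2, 1)) := C.c2.cm rfl rfl (by decide) (by decide) (by decide)
      (by decide)
    have k3 : Cm (C.X (-2, 0, 0)) (C.Y (-1, 0, 1)) := C.cw.gn (y := (-1, 0, 0)) (z := (0, 0, 1)) C.a_neg C.c_pos rfl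
      (by decide) (by decide) (by decide) (by decide) k1 k2
    rcases C.ac (-1) 1 (by decide) (by decide) with h | h | h | h
    · exact absurd (k3 : Cm (C.X (-2, 0, 0)) (C.Y (-1, 0, 1))) (C.c1.ncm rfl (h.symm : C.X (2, -1, 1) = C.Y (-1, 0, 1))
        (by decide) (by decide) (by decide))
    · exact h
    · exact absurd (k3 : Cm (C.X (-2, 0, 0)) (C.Y (-1, 0, 1))) (C.c1.ncm rfl (h.symm : C.X (0, -1, -1) = C.Y (-1, 0, 1))
        (by decide) (by decide) (by decide))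
    · exact absurd (k3 : Cm (C.X (-2, 0, 0)) (C.Y (-1, 0, 1))) (C.c1.ncm rfl (h.symm : C.X (0, 1, 1) = C.Y (-1, 0, 1))
        (by decide) (by decide) (by decide))
  have i1 : C.Y (1, 0, 0) = C.X (1, 1, 2) := C.a_pos
  have i2 : C.Y (0, 0, 1) = C.X (-1, -2, 1) := C.c_pos
  have h0 : Cm (C.X (-2, 1, -1)) (C.X (0, 2, 0)) := C.c1.cm (y := (-2, 1, -1)) (z := (0, 2, 0)) rfl rfl (by decide) (by decide)
      (by decide) (by decide)
  have h1 : Cm (C.X (0, 2, 0)) (C.X (1, 1, 2)) := C.c3.cm (y := (0, 2, 0)) (z := (1, 1, 2)) rfl rfl (by decide) (by decide)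
      (by decide) (by decide)
  have h2 : Cm (C.X (0, 2, 0)) (C.X (-1, -2, 1)) := C.cw.gn (y := (-1, 0, 1)) (z := (1, 0, 0)) (w := (0, 0, 1)) i0 i1 i2
      (by decide) (by decide) (by decide) (by decide) h0.symm h1
  exact C.c2.ncm (y := (-1, -2, 1)) (z := (0, 2, 0)) rfl rfl (by decide) (by decide) (by decide) h2.symm

theorem pat55 (C : Conf G (-1) (-1) 1 (-1) (-1) (-1)) : False := by
  have i0 : C.Y (-1, 0, 1) = C.X (-2, 1, -1) := by
    have k1 : Cm (C.X (-2, 0, 0)) (C.X (-1, -1, -2)) := C.c3.cm rfl rfl (by decide) (by decide) (by decide)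
      (by decide)
    have k2 : Cm (C.X (-2, 0, 0)) (C.X (-1, -2, -1)) := C.c2.cm rfl rfl (by decide) (by decide) (by decide)
      (by decide)
    have k3 : Cm (C.X (-2, 0, 0)) (C.Y (-1, 0, 1)) := C.cw.gn (y := (-1, 0, 0)) (z := (0, 0, 1)) C.a_neg C.c_pos rfl
      (by decide) (by decide) (by decide) (by decide) k1 k2
    rcases C.ac (-1) 1 (by decide) (by decide) with h | h | h | h
    · exact absurd (k3 : Cm (C.X (-2, 0, 0)) (C.Y (-1, 0, 1))) (C.c1.ncm rfl (h.symm : C.X (2, -1, 1) = C.Y (-1, 0, 1))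
        (by decide) (by decide) (by decide))
    · exact h
    · exact absurd (k3 : Cm (C.X (-2, 0, 0)) (C.Y (-1, 0, 1))) (C.c1.ncm rfl (h.symm : C.X (0, -1, -1) = C.Y (-1, 0, 1))
        (by decide) (by decide) (by decide))
    · exact absurd (k3 : Cm (C.X (-2, 0, 0)) (C.Y (-1, 0, 1))) (C.c1.ncm rfl (h.symm : C.X (0, 1, 1) = C.Y (-1, 0, 1))
        (by decide) (by decide) (by decide))
  have i1 : C.Y (1, 0, 0) = C.X (1, 1, 2) := C.a_pos
  have i2 : C.Y (0, 0, 1) = C.X (-1, -2, -1) := C.c_pos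
  have h0 : Cm (C.X (-2, 1, -1)) (C.X (0, 2, 0)) := C.c1.cm (y := (-2, 1, -1)) (z := (0, 2, 0)) rfl rfl (by decide) (by decide)
      (by decide) (by decide)
  have h1 : Cm (C.X (0, 2, 0)) (C.X (1, 1, 2)) := C.c3.cm (y := (0, 2, 0)) (z := (1, 1, 2)) rfl rfl (by decide) (by decide)
      (by decide) (by decide)
  have h2 : Cm (C.X (0, 2, 0)) (C.X (-1, -2, -1)) := C.cw.gn (y := (-1, 0, 1)) (z := (1, 0, 0)) (w := (0, 0, 1)) i0 i1 i2
      (by decide) (by decide) (by decide) (by decide) h0.symm h1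
  exact C.c2.ncm (y := (-1, -2, -1)) (z := (0, 2, 0)) rfl rfl (by decide) (by decide) (by decide) h2.symm

theorem pat56 (C : Conf G (-1) (-1) (-1) 1 1 1) : False := by
  have i0 : C.Y (-1, 0, -1) = C.X (-2, 1, 1) := by
    have k1 : Cm (C.X (-2, 0, 0)) (C.X (-1, -1, -2)) := C.c3.cm rfl rfl (by decide) (by decide) (by decide)
      (by decide)
    have k2 : Cm (C.X (-2, 0, 0)) (C.X (-1, -2, -1)) := C.c2.cm rfl rfl (by decide) (by decide) (by decide)
      (by decide)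
    have k3 : Cm (C.X (-2, 0, 0)) (C.Y (-1, 0, -1)) := C.cw.gn (y := (-1, 0, 0)) (z := (0, 0, -1)) C.a_neg C.c_neg rfl
      (by decide) (by decide) (by decide) (by decide) k1 k2
    rcases C.ac (-1) (-1) (by decide) (by decide) with h | h | h | h
    · exact absurd (k3 : Cm (C.X (-2, 0, 0)) (C.Y (-1, 0, -1))) (C.c1.ncm rfl (h.symm : C.X (2, -1, -1) = C.Y (-1, 0, -1))
        (by decide) (by decide) (by decide))
    · exact h
    · exact absurd (k3 : Cm (C.X (-2, 0, 0)) (C.Y (-1, 0, -1))) (C.c1.ncm rfl (h.symm : C.X (0, -1, 1) = C.Y (-1, 0, -1))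
        (by decide) (by decide) (by decide))
    · exact absurd (k3 : Cm (C.X (-2, 0, 0)) (C.Y (-1, 0, -1))) (C.c1.ncm rfl (h.symm : C.X (0, 1, -1) = C.Y (-1, 0, -1))
        (by decide) (by decide) (by decide))
  have i1 : C.Y (1, 0, 0) = C.X (1, 1, 2) := C.a_pos
  have i2 : C.Y (0, 0, -1) = C.X (-1, -2, -1) := C.c_neg
  have h0 : Cm (C.X (-2, 1, 1)) (C.X (0, 0, 2)) := C.c1.cm (y := (-2, 1, 1)) (z := (0, 0, 2)) rfl rfl (by decide) (by decide)
      (by decide) (by decide)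
  have h1 : Cm (C.X (1, 1, 2)) (C.X (0, 0, 2)) := C.c3.cm (y := (1, 1, 2)) (z := (0, 0, 2)) rfl rfl (by decide) (by decide)
      (by decide) (by decide)
  have h2 : Cm (C.X (0, 0, 2)) (C.X (-1, -2, -1)) := C.cw.gn (y := (-1, 0, -1)) (z := (1, 0, 0)) (w := (0, 0, -1)) i0 i1 i2
      (by decide) (by decide) (by decide) (by decide) h0.symm h1.symm
  exact C.c2.ncm (y := (0, 0, 2)) (z := (-1, -2, -1)) rfl rfl (by decide) (by decide) (by decide) h2

theorem pat57 (C : Conf G (-1) (-1) (-1) 1 1 (-1)) : False := by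
  have i0 : C.Y (0, -1, -1) = C.X (-1, -1, 2) := by
    have k1 : Cm (C.X (0, 0, 2)) (C.X (2, 1, 1)) := C.c1.cm rfl rfl (by decide) (by decide) (by decide)
      (by decide)
    have k2 : Cm (C.X (0, 0, 2)) (C.X (-1, -2, 1)) := C.c2.cm rfl rfl (by decide) (by decide) (by decide)
      (by decide)
    have k3 : Cm (C.X (0, 0, 2)) (C.Y (0, -1, -1)) := C.cw.gn (y := (0, -1, 0)) (z := (0, 0, -1)) C.b_neg C.c_neg rfl
      (by decide) (by decide) (by decide) (by decide) k1 k2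
    rcases C.bc (-1) (-1) (by decide) (by decide) with h | h | h | h
    · exact absurd (k3 : Cm (C.X (0, 0, 2)) (C.Y (0, -1, -1))) (C.c3.ncm rfl (h.symm : C.X (1, 1, -2) = C.Y (0, -1, -1))
        (by decide) (by decide) (by decide))
    · exact h
    · exact absurd (k3 : Cm (C.X (0, 0, 2)) (C.Y (0, -1, -1))) (C.c3.ncm rfl (h.symm : C.X (1, -1, 0) = C.Y (0, -1, -1))
        (by decide) (by decide) (by decide))
    · exact absurd (k3 : Cm (C.X (0, 0, 2)) (C.Y (0, -1, -1))) (C.c3.ncm rfl (h.symm : C.X (-1, 1, 0) = C.Y (0, -1, -1))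
        (by decide) (by decide) (by decide))
  have i1 : C.Y (1, 0, 1) = C.X (2, -1, -1) := by
    have k1 : Cm (C.X (2, 0, 0)) (C.X (1, 1, 2)) := C.c3.cm rfl rfl (by decide) (by decide) (by decide)
      (by decide)
    have k2 : Cm (C.X (2, 0, 0)) (C.X (1, 2, -1)) := C.c2.cm rfl rfl (by decide) (by decide) (by decide)
      (by decide)
    have k3 : Cm (C.X (2, 0, 0)) (C.Y (1, 0, 1)) := C.cw.gn (y := (1, 0, 0)) (z := (0, 0, 1)) C.a_pos C.c_pos rfl
      (by decide) (by decide) (by decide) (by decide) k1 k2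
    rcases C.ac 1 1 (by decide) (by decide) with h | h | h | h
    · exact h
    · exact absurd (k3 : Cm (C.X (2, 0, 0)) (C.Y (1, 0, 1))) (C.c1.ncm rfl (h.symm : C.X (-2, 1, 1) = C.Y (1, 0, 1))
        (by decide) (by decide) (by decide))
    · exact absurd (k3 : Cm (C.X (2, 0, 0)) (C.Y (1, 0, 1))) (C.c1.ncm rfl (h.symm : C.X (0, -1, 1) = C.Y (1, 0, 1))
        (by decide) (by decide) (by decide))
    · exact absurd (k3 : Cm (C.X (2, 0, 0)) (C.Y (1, 0, 1))) (C.c1.ncm rfl (h.symm : C.X (0, 1, -1) = C.Y (1, 0, 1))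
        (by decide) (by decide) (by decide))
  have i2 : C.Y (1, -1, 0) = C.X (-1, 2, 1) := by
    have k1 : Cm (C.X (0, 2, 0)) (C.X (1, 1, 2)) := C.c3.cm rfl rfl (by decide) (by decide) (by decide)
      (by decide)
    have k2 : Cm (C.X (0, 2, 0)) (C.X (2, 1, 1)) := C.c1.cm rfl rfl (by decide) (by decide) (by decide)
      (by decide)
    have k3 : Cm (C.X (0, 2, 0)) (C.Y (1, -1, 0)) := C.cw.gn (y := (1, 0, 0)) (z := (0, -1, 0)) C.a_pos C.b_neg rfl
      (by decide) (by decide) (by decide) (by decide) k1 k2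
    rcases C.ab 1 (-1) (by decide) (by decide) with h | h | h | h
    · exact absurd (k3 : Cm (C.X (0, 2, 0)) (C.Y (1, -1, 0))) (C.c2.ncm rfl (h.symm : C.X (1, -2, -1) = C.Y (1, -1, 0))
        (by decide) (by decide) (by decide))
    · exact h
    · exact absurd (k3 : Cm (C.X (0, 2, 0)) (C.Y (1, -1, 0))) (C.c2.ncm rfl (h.symm : C.X (1, 0, 1) = C.Y (1, -1, 0))
        (by decide) (by decide) (by decide))
    · exact absurd (k3 : Cm (C.X (0, 2, 0)) (C.Y (1, -1, 0))) (C.c2.ncm rfl (h.symm : C.X (-1, 0, -1) = C.Y (1, -1, 0))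
        (by decide) (by decide) (by decide))
  have h0 : Cm (C.X (-1, -1, 2)) (C.X (0, -2, 0)) := C.c3.cm (y := (-1, -1, 2)) (z := (0, -2, 0)) rfl rfl (by decide) (by decide)
      (by decide) (by decide)
  have h1 : Cm (C.X (0, -2, 0)) (C.X (2, -1, -1)) := C.c1.cm (y := (0, -2, 0)) (z := (2, -1, -1)) rfl rfl (by decide) (by decide)
      (by decide) (by decide)
  have h2 : Cm (C.X (0, -2, 0)) (C.X (-1, 2, 1)) := C.cw.gn (y := (0, -1, -1)) (z := (1, 0, 1)) (w := (1, -1, 0)) i0 i1 i2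
      (by decide) (by decide) (by decide) (by decide) h0.symm h1
  exact C.c2.ncm (y := (0, -2, 0)) (z := (-1, 2, 1)) rfl rfl (by decide) (by decide) (by decide) h2

theorem pat58 (C : Conf G (-1) (-1) (-1) 1 (-1) 1) : False := by
  have i0 : C.Y (-1, 0, -1) = C.X (-2, 1, 1) := by
    have k1 : Cm (C.X (-2, 0, 0)) (C.X (-1, -1, -2)) := C.c3.cm rfl rfl (by decide) (by decide) (by decide)
      (by decide)
    have k2 : Cm (C.X (-2, 0, 0)) (C.X (-1, 2, -1)) := C.c2.cm rfl rfl (by decide) (by decide) (by decide)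
      (by decide)
    have k3 : Cm (C.X (-2, 0, 0)) (C.Y (-1, 0, -1)) := C.cw.gn (y := (-1, 0, 0)) (z := (0, 0, -1)) C.a_neg C.c_neg rfl
      (by decide) (by decide) (by decide) (by decide) k1 k2
    rcases C.ac (-1) (-1) (by decide) (by decide) with h | h | h | h
    · exact absurd (k3 : Cm (C.X (-2, 0, 0)) (C.Y (-1, 0, -1))) (C.c1.ncm rfl (h.symm : C.X (2, -1, -1) = C.Y (-1, 0, -1))
        (by decide) (by decide) (by decide))
    · exact h
    · exact absurd (k3 : Cm (C.X (-2, 0, 0)) (C.Y (-1, 0, -1))) (C.c1.ncm rfl (h.symm : C.X (0, -1, 1) = C.Y (-1, 0, -1))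
        (by decide) (by decide) (by decide))
    · exact absurd (k3 : Cm (C.X (-2, 0, 0)) (C.Y (-1, 0, -1))) (C.c1.ncm rfl (h.symm : C.X (0, 1, -1) = C.Y (-1, 0, -1))
        (by decide) (by decide) (by decide))
  have i1 : C.Y (1, 0, 0) = C.X (1, 1, 2) := C.a_pos
  have i2 : C.Y (0, 0, -1) = C.X (-1, 2, -1) := C.c_neg
  have h0 : Cm (C.X (-2, 1, 1)) (C.X (0, 0, 2)) := C.c1.cm (y := (-2, 1, 1)) (z := (0, 0, 2)) rfl rfl (by decide) (by decide)
      (by decide) (by decide)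
  have h1 : Cm (C.X (1, 1, 2)) (C.X (0, 0, 2)) := C.c3.cm (y := (1, 1, 2)) (z := (0, 0, 2)) rfl rfl (by decide) (by decide)
      (by decide) (by decide)
  have h2 : Cm (C.X (0, 0, 2)) (C.X (-1, 2, -1)) := C.cw.gn (y := (-1, 0, -1)) (z := (1, 0, 0)) (w := (0, 0, -1)) i0 i1 i2
      (by decide) (by decide) (by decide) (by decide) h0.symm h1.symm
  exact C.c2.ncm (y := (0, 0, 2)) (z := (-1, 2, -1)) rfl rfl (by decide) (by decide) (by decide) h2

theorem pat59 (C : Conf G (-1) (-1) (-1) 1 (-1) (-1)) : False := by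
  have i0 : C.Y (0, -1, -1) = C.X (-1, -1, 2) := by
    have k1 : Cm (C.X (0, 0, 2)) (C.X (2, 1, 1)) := C.c1.cm rfl rfl (by decide) (by decide) (by decide)
      (by decide)
    have k2 : Cm (C.X (0, 0, 2)) (C.X (-1, 2, 1)) := C.c2.cm rfl rfl (by decide) (by decide) (by decide)
      (by decide)
    have k3 : Cm (C.X (0, 0, 2)) (C.Y (0, -1, -1)) := C.cw.gn (y := (0, -1, 0)) (z := (0, 0, -1)) C.b_neg C.c_neg rfl
      (by decide) (by decide) (by decide) (by decide) k1 k2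
    rcases C.bc (-1) (-1) (by decide) (by decide) with h | h | h | h
    · exact absurd (k3 : Cm (C.X (0, 0, 2)) (C.Y (0, -1, -1))) (C.c3.ncm rfl (h.symm : C.X (1, 1, -2) = C.Y (0, -1, -1))
        (by decide) (by decide) (by decide))
    · exact h
    · exact absurd (k3 : Cm (C.X (0, 0, 2)) (C.Y (0, -1, -1))) (C.c3.ncm rfl (h.symm : C.X (1, -1, 0) = C.Y (0, -1, -1))
        (by decide) (by decide) (by decide))
    · exact absurd (k3 : Cm (C.X (0, 0, 2)) (C.Y (0, -1, -1))) (C.c3.ncm rfl (h.symm : C.X (-1, 1, 0) = C.Y (0, -1, -1))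
        (by decide) (by decide) (by decide))
  have i1 : C.Y (1, 0, 1) = C.X (2, -1, -1) := by
    have k1 : Cm (C.X (2, 0, 0)) (C.X (1, 1, 2)) := C.c3.cm rfl rfl (by decide) (by decide) (by decide)
      (by decide)
    have k2 : Cm (C.X (2, 0, 0)) (C.X (1, -2, -1)) := C.c2.cm rfl rfl (by decide) (by decide) (by decide)
      (by decide)
    have k3 : Cm (C.X (2, 0, 0)) (C.Y (1, 0, 1)) := C.cw.gn (y := (1, 0, 0)) (z := (0, 0, 1)) C.a_pos C.c_pos rfl
      (by decide) (by decide) (by decide) (by decide) k1 k2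
    rcases C.ac 1 1 (by decide) (by decide) with h | h | h | h
    · exact h
    · exact absurd (k3 : Cm (C.X (2, 0, 0)) (C.Y (1, 0, 1))) (C.c1.ncm rfl (h.symm : C.X (-2, 1, 1) = C.Y (1, 0, 1))
        (by decide) (by decide) (by decide))
    · exact absurd (k3 : Cm (C.X (2, 0, 0)) (C.Y (1, 0, 1))) (C.c1.ncm rfl (h.symm : C.X (0, -1, 1) = C.Y (1, 0, 1))
        (by decide) (by decide) (by decide))
    · exact absurd (k3 : Cm (C.X (2, 0, 0)) (C.Y (1, 0, 1))) (C.c1.ncm rfl (h.symm : C.X (0, 1, -1) = C.Y (1, 0, 1))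
        (by decide) (by decide) (by decide))
  have i2 : C.Y (1, -1, 0) = C.X (1, 2, -1) := by
    have k1 : Cm (C.X (0, 2, 0)) (C.X (1, 1, 2)) := C.c3.cm rfl rfl (by decide) (by decide) (by decide)
      (by decide)
    have k2 : Cm (C.X (0, 2, 0)) (C.X (2, 1, 1)) := C.c1.cm rfl rfl (by decide) (by decide) (by decide)
      (by decide)
    have k3 : Cm (C.X (0, 2, 0)) (C.Y (1, -1, 0)) := C.cw.gn (y := (1, 0, 0)) (z := (0, -1, 0)) C.a_pos C.b_neg rfl
      (by decide) (by decide) (by decide) (by decide) k1 k2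
    rcases C.ab 1 (-1) (by decide) (by decide) with h | h | h | h
    · exact h
    · exact absurd (k3 : Cm (C.X (0, 2, 0)) (C.Y (1, -1, 0))) (C.c2.ncm rfl (h.symm : C.X (-1, -2, 1) = C.Y (1, -1, 0))
        (by decide) (by decide) (by decide))
    · exact absurd (k3 : Cm (C.X (0, 2, 0)) (C.Y (1, -1, 0))) (C.c2.ncm rfl (h.symm : C.X (1, 0, 1) = C.Y (1, -1, 0))
        (by decide) (by decide) (by decide))
    · exact absurd (k3 : Cm (C.X (0, 2, 0)) (C.Y (1, -1, 0))) (C.c2.ncm rfl (h.symm : C.X (-1, 0, -1) = C.Y (1, -1, 0))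
        (by decide) (by decide) (by decide))
  have h0 : Cm (C.X (-1, -1, 2)) (C.X (0, -2, 0)) := C.c3.cm (y := (-1, -1, 2)) (z := (0, -2, 0)) rfl rfl (by decide) (by decide)
      (by decide) (by decide)
  have h1 : Cm (C.X (0, -2, 0)) (C.X (2, -1, -1)) := C.c1.cm (y := (0, -2, 0)) (z := (2, -1, -1)) rfl rfl (by decide) (by decide)
      (by decide) (by decide)
  have h2 : Cm (C.X (0, -2, 0)) (C.X (1, 2, -1)) := C.cw.gn (y := (0, -1, -1)) (z := (1, 0, 1)) (w := (1, -1, 0)) i0 i1 i2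
      (by decide) (by decide) (by decide) (by decide) h0.symm h1
  exact C.c2.ncm (y := (1, 2, -1)) (z := (0, -2, 0)) rfl rfl (by decide) (by decide) (by decide) h2.symm

theorem pat60 (C : Conf G (-1) (-1) (-1) (-1) 1 1) : False := by
  have i0 : C.Y (-1, 0, 1) = C.X (-2, 1, 1) := by
    have k1 : Cm (C.X (-2, 0, 0)) (C.X (-1, -1, -2)) := C.c3.cm rfl rfl (by decide) (by decide) (by decide)
      (by decide)
    have k2 : Cm (C.X (-2, 0, 0)) (C.X (-1, 2, 1)) := C.c2.cm rfl rfl (by decide) (by decide) (by decide)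
      (by decide)
    have k3 : Cm (C.X (-2, 0, 0)) (C.Y (-1, 0, 1)) := C.cw.gn (y := (-1, 0, 0)) (z := (0, 0, 1)) C.a_neg C.c_pos rfl
      (by decide) (by decide) (by decide) (by decide) k1 k2
    rcases C.ac (-1) 1 (by decide) (by decide) with h | h | h | h
    · exact absurd (k3 : Cm (C.X (-2, 0, 0)) (C.Y (-1, 0, 1))) (C.c1.ncm rfl (h.symm : C.X (2, -1, -1) = C.Y (-1, 0, 1))
        (by decide) (by decide) (by decide))
    · exact h
    · exact absurd (k3 : Cm (C.X (-2, 0, 0)) (C.Y (-1, 0, 1))) (C.c1.ncm rfl (h.symm : C.X (0, -1, 1) = C.Y (-1, 0, 1))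
        (by decide) (by decide) (by decide))
    · exact absurd (k3 : Cm (C.X (-2, 0, 0)) (C.Y (-1, 0, 1))) (C.c1.ncm rfl (h.symm : C.X (0, 1, -1) = C.Y (-1, 0, 1))
        (by decide) (by decide) (by decide))
  have i1 : C.Y (1, -1, 0) = C.X (1, 2, -1) := by
    have k1 : Cm (C.X (0, 2, 0)) (C.X (1, 1, 2)) := C.c3.cm rfl rfl (by decide) (by decide) (by decide)
      (by decide)
    have k2 : Cm (C.X (0, 2, 0)) (C.X (2, 1, 1)) := C.c1.cm rfl rfl (by decide) (by decide) (by decide)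
      (by decide)
    have k3 : Cm (C.X (0, 2, 0)) (C.Y (1, -1, 0)) := C.cw.gn (y := (1, 0, 0)) (z := (0, -1, 0)) C.a_pos C.b_neg rfl
      (by decide) (by decide) (by decide) (by decide) k1 k2
    rcases C.ab 1 (-1) (by decide) (by decide) with h | h | h | h
    · exact absurd (k3 : Cm (C.X (0, 2, 0)) (C.Y (1, -1, 0))) (C.c2.ncm rfl (h.symm : C.X (-1, -2, 1) = C.Y (1, -1, 0))
        (by decide) (by decide) (by decide))
    · exact h
    · exact absurd (k3 : Cm (C.X (0, 2, 0)) (C.Y (1, -1, 0))) (C.c2.ncm rfl (h.symm : C.X (-1, 0, -1) = C.Y (1, -1, 0))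
        (by decide) (by decide) (by decide))
    · exact absurd (k3 : Cm (C.X (0, 2, 0)) (C.Y (1, -1, 0))) (C.c2.ncm rfl (h.symm : C.X (1, 0, 1) = C.Y (1, -1, 0))
        (by decide) (by decide) (by decide))
  have i2 : C.Y (0, -1, 1) = C.X (-1, -1, 2) := by
    have k1 : Cm (C.X (0, 0, 2)) (C.X (2, 1, 1)) := C.c1.cm rfl rfl (by decide) (by decide) (by decide)
      (by decide)
    have k2 : Cm (C.X (0, 0, 2)) (C.X (-1, 2, 1)) := C.c2.cm rfl rfl (by decide) (by decide) (by decide)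
      (by decide)
    have k3 : Cm (C.X (0, 0, 2)) (C.Y (0, -1, 1)) := C.cw.gn (y := (0, -1, 0)) (z := (0, 0, 1)) C.b_neg C.c_pos rfl
      (by decide) (by decide) (by decide) (by decide) k1 k2
    rcases C.bc (-1) 1 (by decide) (by decide) with h | h | h | h
    · exact absurd (k3 : Cm (C.X (0, 0, 2)) (C.Y (0, -1, 1))) (C.c3.ncm rfl (h.symm : C.X (1, 1, -2) = C.Y (0, -1, 1))
        (by decide) (by decide) (by decide))
    · exact h
    · exact absurd (k3 : Cm (C.X (0, 0, 2)) (C.Y (0, -1, 1))) (C.c3.ncm rfl (h.symm : C.X (1, -1, 0) = C.Y (0, -1, 1))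
        (by decide) (by decide) (by decide))
    · exact absurd (k3 : Cm (C.X (0, 0, 2)) (C.Y (0, -1, 1))) (C.c3.ncm rfl (h.symm : C.X (-1, 1, 0) = C.Y (0, -1, 1))
        (by decide) (by decide) (by decide))
  have h0 : Cm (C.X (-2, 1, 1)) (C.X (0, 2, 0)) := C.c1.cm (y := (-2, 1, 1)) (z := (0, 2, 0)) rfl rfl (by decide) (by decide)
      (by decide) (by decide)
  have h1 : Cm (C.X (0, 2, 0)) (C.X (1, 2, -1)) := C.c2.cm (y := (0, 2, 0)) (z := (1, 2, -1)) rfl rfl (by decide) (by decide)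
      (by decide) (by decide)
  have h2 : Cm (C.X (0, 2, 0)) (C.X (-1, -1, 2)) := C.cw.gn (y := (-1, 0, 1)) (z := (1, -1, 0)) (w := (0, -1, 1)) i0 i1 i2
      (by decide) (by decide) (by decide) (by decide) h0.symm h1
  exact C.c3.ncm (y := (0, 2, 0)) (z := (-1, -1, 2)) rfl rfl (by decide) (by decide) (by decide) h2

theorem pat61 (C : Conf G (-1) (-1) (-1) (-1) 1 (-1)) : False := by
  have i0 : C.Y (0, -1, -1) = C.X (-1, -1, 2) := by
    have k1 : Cm (C.X (0, 0, 2)) (C.X (2, 1, 1)) := C.c1.cm rfl rfl (by decide) (by decide) (by decide)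
      (by decide)
    have k2 : Cm (C.X (0, 0, 2)) (C.X (1, -2, 1)) := C.c2.cm rfl rfl (by decide) (by decide) (by decide)
      (by decide)
    have k3 : Cm (C.X (0, 0, 2)) (C.Y (0, -1, -1)) := C.cw.gn (y := (0, -1, 0)) (z := (0, 0, -1)) C.b_neg C.c_neg rfl
      (by decide) (by decide) (by decide) (by decide) k1 k2
    rcases C.bc (-1) (-1) (by decide) (by decide) with h | h | h | h
    · exact absurd (k3 : Cm (C.X (0, 0, 2)) (C.Y (0, -1, -1))) (C.c3.ncm rfl (h.symm : C.X (1, 1, -2) = C.Y (0, -1, -1))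
        (by decide) (by decide) (by decide))
    · exact h
    · exact absurd (k3 : Cm (C.X (0, 0, 2)) (C.Y (0, -1, -1))) (C.c3.ncm rfl (h.symm : C.X (1, -1, 0) = C.Y (0, -1, -1))
        (by decide) (by decide) (by decide))
    · exact absurd (k3 : Cm (C.X (0, 0, 2)) (C.Y (0, -1, -1))) (C.c3.ncm rfl (h.symm : C.X (-1, 1, 0) = C.Y (0, -1, -1))
        (by decide) (by decide) (by decide))
  have i1 : C.Y (0, 1, 0) = C.X (-2, -1, -1) := C.b_pos
  have i2 : C.Y (0, 0, -1) = C.X (1, -2, 1) := C.c_neg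
  have h0 : Cm (C.X (-1, -1, 2)) (C.X (-2, 0, 0)) := C.c3.cm (y := (-1, -1, 2)) (z := (-2, 0, 0)) rfl rfl (by decide) (by decide)
      (by decide) (by decide)
  have h1 : Cm (C.X (-2, -1, -1)) (C.X (-2, 0, 0)) := C.c1.cm (y := (-2, -1, -1)) (z := (-2, 0, 0)) rfl rfl (by decide) (by decide)
      (by decide) (by decide)
  have h2 : Cm (C.X (-2, 0, 0)) (C.X (1, -2, 1)) := C.cw.gn (y := (0, -1, -1)) (z := (0, 1, 0)) (w := (0, 0, -1)) i0 i1 i2
      (by decide) (by decide) (by decide) (by decide) h0.symm h1.symm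
  exact C.c2.ncm (y := (-2, 0, 0)) (z := (1, -2, 1)) rfl rfl (by decide) (by decide) (by decide) h2

theorem pat62 (C : Conf G (-1) (-1) (-1) (-1) (-1) 1) : False := by
  have i0 : C.Y (-1, 0, 1) = C.X (-2, 1, 1) := by
    have k1 : Cm (C.X (-2, 0, 0)) (C.X (-1, -1, -2)) := C.c3.cm rfl rfl (by decide) (by decide) (by decide)
      (by decide)
    have k2 : Cm (C.X (-2, 0, 0)) (C.X (-1, -2, 1)) := C.c2.cm rfl rfl (by decide) (by decide) (by decide)
      (by decide)
    have k3 : Cm (C.X (-2, 0, 0)) (C.Y (-1, 0, 1)) := C.cw.gn (y := (-1, 0, 0)) (z := (0, 0, 1)) C.a_neg C.c_pos rfl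
      (by decide) (by decide) (by decide) (by decide) k1 k2
    rcases C.ac (-1) 1 (by decide) (by decide) with h | h | h | h
    · exact absurd (k3 : Cm (C.X (-2, 0, 0)) (C.Y (-1, 0, 1))) (C.c1.ncm rfl (h.symm : C.X (2, -1, -1) = C.Y (-1, 0, 1))
        (by decide) (by decide) (by decide))
    · exact h
    · exact absurd (k3 : Cm (C.X (-2, 0, 0)) (C.Y (-1, 0, 1))) (C.c1.ncm rfl (h.symm : C.X (0, -1, 1) = C.Y (-1, 0, 1))
        (by decide) (by decide) (by decide))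
    · exact absurd (k3 : Cm (C.X (-2, 0, 0)) (C.Y (-1, 0, 1))) (C.c1.ncm rfl (h.symm : C.X (0, 1, -1) = C.Y (-1, 0, 1))
        (by decide) (by decide) (by decide))
  have i1 : C.Y (1, 0, 0) = C.X (1, 1, 2) := C.a_pos
  have i2 : C.Y (0, 0, 1) = C.X (-1, -2, 1) := C.c_pos
  have h0 : Cm (C.X (-2, 1, 1)) (C.X (0, 2, 0)) := C.c1.cm (y := (-2, 1, 1)) (z := (0, 2, 0)) rfl rfl (by decide) (by decide)
      (by decide) (by decide)
  have h1 : Cm (C.X (0, 2, 0)) (C.X (1, 1, 2)) := C.c3.cm (y := (0, 2, 0)) (z := (1, 1, 2)) rfl rfl (by decide) (by decide)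
      (by decide) (by decide)
  have h2 : Cm (C.X (0, 2, 0)) (C.X (-1, -2, 1)) := C.cw.gn (y := (-1, 0, 1)) (z := (1, 0, 0)) (w := (0, 0, 1)) i0 i1 i2
      (by decide) (by decide) (by decide) (by decide) h0.symm h1
  exact C.c2.ncm (y := (-1, -2, 1)) (z := (0, 2, 0)) rfl rfl (by decide) (by decide) (by decide) h2.symm

theorem pat63 (C : Conf G (-1) (-1) (-1) (-1) (-1) (-1)) : False := by
  have i0 : C.Y (0, -1, -1) = C.X (-1, -1, 2) := by
    have k1 : Cm (C.X (0, 0, 2)) (C.X (2, 1, 1)) := C.c1.cm rfl rfl (by decide) (by decide) (by decide)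
      (by decide)
    have k2 : Cm (C.X (0, 0, 2)) (C.X (1, 2, 1)) := C.c2.cm rfl rfl (by decide) (by decide) (by decide)
      (by decide)
    have k3 : Cm (C.X (0, 0, 2)) (C.Y (0, -1, -1)) := C.cw.gn (y := (0, -1, 0)) (z := (0, 0, -1)) C.b_neg C.c_neg rfl
      (by decide) (by decide) (by decide) (by decide) k1 k2
    rcases C.bc (-1) (-1) (by decide) (by decide) with h | h | h | h
    · exact absurd (k3 : Cm (C.X (0, 0, 2)) (C.Y (0, -1, -1))) (C.c3.ncm rfl (h.symm : C.X (1, 1, -2) = C.Y (0, -1, -1))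
        (by decide) (by decide) (by decide))
    · exact h
    · exact absurd (k3 : Cm (C.X (0, 0, 2)) (C.Y (0, -1, -1))) (C.c3.ncm rfl (h.symm : C.X (1, -1, 0) = C.Y (0, -1, -1))
        (by decide) (by decide) (by decide))
    · exact absurd (k3 : Cm (C.X (0, 0, 2)) (C.Y (0, -1, -1))) (C.c3.ncm rfl (h.symm : C.X (-1, 1, 0) = C.Y (0, -1, -1))
        (by decide) (by decide) (by decide))
  have i1 : C.Y (0, 1, 0) = C.X (-2, -1, -1) := C.b_pos
  have i2 : C.Y (0, 0, -1) = C.X (1, 2, 1) := C.c_neg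
  have h0 : Cm (C.X (-1, -1, 2)) (C.X (0, -2, 0)) := C.c3.cm (y := (-1, -1, 2)) (z := (0, -2, 0)) rfl rfl (by decide) (by decide)
      (by decide) (by decide)
  have h1 : Cm (C.X (-2, -1, -1)) (C.X (0, -2, 0)) := C.c1.cm (y := (-2, -1, -1)) (z := (0, -2, 0)) rfl rfl (by decide) (by decide)
      (by decide) (by decide)
  have h2 : Cm (C.X (0, -2, 0)) (C.X (1, 2, 1)) := C.cw.gn (y := (0, -1, -1)) (z := (0, 1, 0)) (w := (0, 0, -1)) i0 i1 i2
      (by decide) (by decide) (by decide) (by decide) h0.symm h1.symm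
  exact C.c2.ncm (y := (0, -2, 0)) (z := (1, 2, 1)) rfl rfl (by decide) (by decide) (by decide) h2

/-- Solomon's configuration does not exist. -/
theorem false {t1 t2 t3 s1 s2 s3 : ℤ} (C : Conf G t1 t2 t3 s1 s2 s3)
    (h1 : t1 = 1 ∨ t1 = -1) (h2 : t2 = 1 ∨ t2 = -1) (h3 : t3 = 1 ∨ t3 = -1)
    (h4 : s1 = 1 ∨ s1 = -1) (h5 : s2 = 1 ∨ s2 = -1) (h6 : s3 = 1 ∨ s3 = -1) : False := by
  rcases h1 with rfl | rfl <;> rcases h2 with rfl | rfl <;> rcases h3 with rfl | rfl <;>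
    rcases h4 with rfl | rfl <;> rcases h5 with rfl | rfl <;> rcases h6 with rfl | rfl
  · exact pat0 C
  · exact pat1 C
  · exact pat2 C
  · exact pat3 C
  · exact pat4 C
  · exact pat5 C
  · exact pat6 C
  · exact pat7 C
  · exact pat8 C
  · exact pat9 C
  · exact pat10 C
  · exact pat11 C
  · exact pat12 C
  · exact pat13 C
  · exact pat14 C
  · exact pat15 C
  · exact pat16 C
  · exact pat17 C
  · exact pat18 C
  · exact pat19 C
  · exact pat20 C
  · exact pat21 C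
  · exact pat22 C
  · exact pat23 C
  · exact pat24 C
  · exact pat25 C
  · exact pat26 C
  · exact pat27 C
  · exact pat28 C
  · exact pat29 C
  · exact pat30 C
  · exact pat31 C
  · exact pat32 C
  · exact pat33 C
  · exact pat34 C
  · exact pat35 C
  · exact pat36 C
  · exact pat37 C
  · exact pat38 C
  · exact pat39 C
  · exact pat40 C
  · exact pat41 C
  · exact pat42 C
  · exact pat43 C
  · exact pat44 C
  · exact pat45 C
  · exact pat46 C
  · exact pat47 C
  · exact pat48 C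
  · exact pat49 C
  · exact pat50 C
  · exact pat51 C
  · exact pat52 C
  · exact pat53 C
  · exact pat54 C
  · exact pat55 C
  · exact pat56 C
  · exact pat57 C
  · exact pat58 C
  · exact pat59 C
  · exact pat60 C
  · exact pat61 C
  · exact pat62 C
  · exact pat63 C

end Conf

end Cfsg.Agent.OddHalf.NI3.Sol.Core
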