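import Cfsg.Agent.OddHalf.NI3.Sol.EndDefs
import Cfsg.Agent.OddHalf.NI3.Sol.End

/-!
# Solomon's configuration: the end, on `B₃`-charts in standard coordinates

`end_false`: three `B₃`-charts `X1 X2 X3` with common root groups in `J₁, J₂, J₃`
(`JJ X_l (0,0,1) = J_l`, `JJ X_l (1,1,0) = J_{l+1}`, `JJ X_l (1,-1,0) = J_{l+2}`) and a fourth one `Y`
with `Y (±e₁) = X3 (±(1,0,1))`, `Y (±e₂) = X1 (±β)`, `Y (±e₃) = X2 (±γ)` are contradictory.
-/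

set_option autoImplicit false

namespace Cfsg.Agent.OddHalf.NI3.Sol

open Subgroup

variable {G : Type*} [Group G]

theorem B3.toRel {F : Type} [Field F] [Fintype F] {K : Subgroup G} {c : G} {X : V → Subgroup G}
    {z : V → G} (h : B3 F K c X z) : Rel X := ⟨h.comm, h.ncomm, h.gen⟩

namespace Adapt

/-- coordinates of `K₁` -/
def p1 (x : V) : V := ((x.2.1 + x.2.2) / 2, (x.2.1 - x.2.2) / 2, x.1 / 2)

/-- coordinates of `K₂` -/
def p2 (x : V) : V := ((x.1 + x.2.2) / 2, (x.2.2 - x.1) / 2, x.2.1 / 2)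

/-- coordinates of `K₃` -/
def p3 (x : V) : V := ((x.1 + x.2.1) / 2, (x.1 - x.2.1) / 2, x.2.2 / 2)

theorem commute_sup {A B C D : Subgroup G} (hD : D ≤ B ⊔ C) (h1 : Core.Cm A B)
    (h2 : Core.Cm A C) : Core.Cm A D := by
  intro a ha d hd
  have hB : B ≤ centralizer ({a} : Set G) := fun b hb =>
    mem_centralizer_singleton_iff.mpr (h1 a ha b hb).symm
  have hC : C ≤ centralizer ({a} : Set G) := fun b hb =>
    mem_centralizer_singleton_iff.mpr (h2 a ha b hb).symm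
  exact (mem_centralizer_singleton_iff.mp (sup_le hB hC (hD hd))).symm

theorem chart {X Z : V → Subgroup G} {R : List V} {p : V → V} (r : Rel X)
    (hX : ∀ x ∈ R, Z x = X (p x)) (h0 : ∀ x ∈ R, IsR (p x))
    (h1 : ∀ y ∈ R, ∀ z ∈ R, y + z ∈ R → IsR (p y + p z) ∧ p (y + z) = p y + p z)
    (h2 : ∀ y ∈ R, ∀ z ∈ R, y + z ∉ R → ¬ IsR (p y + p z))
    (h3 : ∀ y ∈ R, ∀ z ∈ R, y + z ≠ 0 → p y + p z ≠ 0) : Core.Chart R Z where
  comm y hy z hz h h' := by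
    rw [hX y hy, hX z hz]
    exact r.comm _ _ (h0 y hy) (h0 z hz) (h2 y hy z hz h) (h3 y hy z hz h')
  ncomm y hy z hz h := by
    rw [hX y hy, hX z hz]
    exact r.ncomm _ _ (h0 y hy) (h0 z hz) (h1 y hy z hz h).1
  gen y hy z hz h A hA hB := by
    rw [hX _ h, (h1 y hy z hz h).2]
    rw [hX y hy] at hA
    rw [hX z hz] at hB
    exact commute_sup (r.gen _ _ (h0 y hy) (h0 z hz) (h1 y hy z hz h).1) hA hB

/-- all root groups of `K₁, K₂, K₃` -/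
def XX (X1 X2 X3 : V → Subgroup G) (x : V) : Subgroup G :=
  if x ∈ Core.R3 then X3 (p3 x) else if x ∈ Core.R1 then X1 (p1 x) else X2 (p2 x)

/-- the eight long roots of `K_l` outside `J_{l+1} J_{l+2}` -/
def eight : List V :=
  [(1, 0, 1), (1, 0, -1), (-1, 0, 1), (-1, 0, -1), (0, 1, 1), (0, 1, -1), (0, -1, 1), (0, -1, -1)]

theorem mem_eight : ∀ v ∈ longL, v.2.2 ≠ 0 → v ∈ eight := by decide

theorem mem_of_dot : ∀ v ∈ eight, ∀ u ∈ shortL ++ longL, dot u v = 0 →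
    u = (v.1, v.2.1, -v.2.2) ∨ u = (-v.1, -v.2.1, v.2.2) ∨ u = (v.2.1, v.1, 0) ∨
      u = (-v.2.1, -v.1, 0) := by decide

end Adapt

open Adapt in
/-- **The end of Solomon's configuration.** -/
theorem end_false {X1 X2 X3 Y : V → Subgroup G} (r1 : Rel X1) (r2 : Rel X2) (r3 : Rel X3)
    (ry : Rel Y)
    (c : ∀ e : ℤ, e = 1 ∨ e = -1 →
      X1 (0, 0, e) = X3 (e, e, 0) ∧ X1 (0, 0, e) = X2 (e, -e, 0) ∧
      X2 (0, 0, e) = X1 (e, e, 0) ∧ X2 (0, 0, e) = X3 (e, -e, 0) ∧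
      X3 (0, 0, e) = X2 (e, e, 0) ∧ X3 (0, 0, e) = X1 (e, -e, 0))
    (n1 : ∃ n : G, ∀ u, IsR u → cj n (X1 u) = X1 (refl (0, 0, 1) u) ∧
      cj n (X2 u) = X2 (refl (1, -1, 0) u) ∧ cj n (X3 u) = X3 (refl (1, 1, 0) u))
    (n2 : ∃ n : G, ∀ u, IsR u → cj n (X2 u) = X2 (refl (0, 0, 1) u) ∧
      cj n (X3 u) = X3 (refl (1, -1, 0) u) ∧ cj n (X1 u) = X1 (refl (1, 1, 0) u))
    (n3 : ∃ n : G, ∀ u, IsR u → cj n (X3 u) = X3 (refl (0, 0, 1) u) ∧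
      cj n (X1 u) = X1 (refl (1, -1, 0) u) ∧ cj n (X2 u) = X2 (refl (1, 1, 0) u))
    {β γ : V} (hβ : IsL β) (hβ0 : β.2.2 ≠ 0) (hγ : IsL γ) (hγ0 : γ.2.2 ≠ 0)
    (a_pos : Y (1, 0, 0) = X3 (1, 0, 1)) (a_neg : Y (-1, 0, 0) = X3 (-1, 0, -1))
    (b_pos : Y (0, 1, 0) = X1 β) (b_neg : Y (0, -1, 0) = X1 (-β))
    (c_pos : Y (0, 0, 1) = X2 γ) (c_neg : Y (0, 0, -1) = X2 (-γ))
    (m3 : ∀ e f : ℤ, (e = 1 ∨ e = -1) → (f = 1 ∨ f = -1) →
      ∃ u, IsR u ∧ dot u γ = 0 ∧ Y (e, f, 0) = X2 u)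
    (m2 : ∀ e f : ℤ, (e = 1 ∨ e = -1) → (f = 1 ∨ f = -1) →
      ∃ u, IsR u ∧ dot u β = 0 ∧ Y (e, 0, f) = X1 u)
    (m1 : ∀ e f : ℤ, (e = 1 ∨ e = -1) → (f = 1 ∨ f = -1) →
      ∃ u, IsR u ∧ dot u (1, 0, 1) = 0 ∧ Y (0, e, f) = X3 u) : False := by
  obtain ⟨cp1, cp2, cp3, cp4, cp5, cp6⟩ := c 1 (Or.inl rfl)
  obtain ⟨cn1, cn2, cn3, cn4, cn5, cn6⟩ := c (-1) (Or.inr rfl)
  have H3 : ∀ x ∈ Core.R3, XX X1 X2 X3 x = X3 (p3 x) := fun x hx => if_pos hx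
  have e13 : ∀ x ∈ Core.R1, x ∈ Core.R3 → X3 (p3 x) = X1 (p1 x) := by
    have key : ∀ x ∈ Core.R1, x ∈ Core.R3 →
        x = (2, 0, 0) ∨ x = (-2, 0, 0) ∨ x = (0, 2, 0) ∨ x = (0, -2, 0) ∨ x = (0, 0, 2) ∨
          x = (0, 0, -2) := by decide
    intro x h1 h3
    rcases key x h1 h3 with rfl | rfl | rfl | rfl | rfl | rfl
    · exact cp1.symm
    · exact cn1.symm
    · exact cp4.symm.trans cp3
    · exact cn4.symm.trans cn3
    · exact cp6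
    · exact cn6
  have e23 : ∀ x ∈ Core.R2, x ∈ Core.R3 → X3 (p3 x) = X2 (p2 x) := by
    have key : ∀ x ∈ Core.R2, x ∈ Core.R3 →
        x = (2, 0, 0) ∨ x = (-2, 0, 0) ∨ x = (0, 2, 0) ∨ x = (0, -2, 0) ∨ x = (0, 0, 2) ∨
          x = (0, 0, -2) := by decide
    intro x h1 h3
    rcases key x h1 h3 with rfl | rfl | rfl | rfl | rfl | rfl
    · exact cp1.symm.trans cp2
    · exact cn1.symm.trans cn2
    · exact cp4.symm
    · exact cn4.symm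
    · exact cp5
    · exact cn5
  have e21 : ∀ x ∈ Core.R2, x ∈ Core.R1 → x ∈ Core.R3 := by decide
  have H1 : ∀ x ∈ Core.R1, XX X1 X2 X3 x = X1 (p1 x) := by
    intro x hx
    by_cases h3 : x ∈ Core.R3
    · rw [H3 x h3, e13 x hx h3]
    · simp only [XX, if_neg h3, if_pos hx]
  have H2 : ∀ x ∈ Core.R2, XX X1 X2 X3 x = X2 (p2 x) := by
    intro x hx
    by_cases h3 : x ∈ Core.R3
    · rw [H3 x h3, e23 x hx h3]
    · have h1 : x ∉ Core.R1 := fun h => h3 (e21 x hx h)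
      simp only [XX, if_neg h3, if_neg h1]
  have hRX : ∀ x ∈ Core.RX, x ∈ Core.R1 ∨ x ∈ Core.R2 ∨ x ∈ Core.R3 := by
    intro x hx
    rcases List.mem_append.mp hx with h | h
    · rcases List.mem_append.mp h with h | h
      · exact Or.inl h
      · exact Or.inr (Or.inl h)
    · exact Or.inr (Or.inr h)
  have cjm : ∀ {n g : G} {A B : Subgroup G}, cj n A = B → g ∈ A → n * g * n⁻¹ ∈ B := by
    rintro n g A B rfl hg
    exact mem_map.mpr ⟨g, hg, rfl⟩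
  have hβ8 : β ∈ eight := mem_eight β hβ hβ0
  have hγ8 : γ ∈ eight := mem_eight γ hγ hγ0
  have sβ : ∀ v ∈ eight, ((v.2.2 = 1 ∨ v.2.2 = -1) ∧ (v.1 + v.2.1 = 1 ∨ v.1 + v.2.1 = -1) ∧
      (v.1 - v.2.1 = 1 ∨ v.1 - v.2.1 = -1)) := by decide
  obtain ⟨u1, u2, u3⟩ := sβ β hβ8
  obtain ⟨w1, w2, w3⟩ := sβ γ hγ8
  -- the dual coordinates of `β` and `γ`
  have kβ : ∀ v ∈ eight,
      (2 * v.2.2, v.1 + v.2.1, v.1 - v.2.1) ∈ Core.R1 ∧
      p1 (2 * v.2.2, v.1 + v.2.1, v.1 - v.2.1) = v ∧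
      (-(2 * v.2.2), -(v.1 + v.2.1), -(v.1 - v.2.1)) ∈ Core.R1 ∧
      p1 (-(2 * v.2.2), -(v.1 + v.2.1), -(v.1 - v.2.1)) = -v := by decide
  have kβ' : ∀ v ∈ eight,
      (-(2 * v.2.2), v.1 + v.2.1, v.1 - v.2.1) ∈ Core.R1 ∧
      p1 (-(2 * v.2.2), v.1 + v.2.1, v.1 - v.2.1) = (v.1, v.2.1, -v.2.2) ∧
      (2 * v.2.2, -(v.1 + v.2.1), -(v.1 - v.2.1)) ∈ Core.R1 ∧
      p1 (2 * v.2.2, -(v.1 + v.2.1), -(v.1 - v.2.1)) = (-v.1, -v.2.1, v.2.2) := by decide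
  have kβ'' : ∀ v ∈ eight,
      (0, v.1 + v.2.1, -(v.1 - v.2.1)) ∈ Core.R1 ∧
      p1 (0, v.1 + v.2.1, -(v.1 - v.2.1)) = (v.2.1, v.1, 0) ∧
      (0, -(v.1 + v.2.1), v.1 - v.2.1) ∈ Core.R1 ∧
      p1 (0, -(v.1 + v.2.1), v.1 - v.2.1) = (-v.2.1, -v.1, 0) := by decide
  have kγ : ∀ v ∈ eight,
      (v.1 - v.2.1, 2 * v.2.2, v.1 + v.2.1) ∈ Core.R2 ∧
      p2 (v.1 - v.2.1, 2 * v.2.2, v.1 + v.2.1) = v ∧
      (-(v.1 - v.2.1), -(2 * v.2.2), -(v.1 + v.2.1)) ∈ Core.R2 ∧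
      p2 (-(v.1 - v.2.1), -(2 * v.2.2), -(v.1 + v.2.1)) = -v := by decide
  have kγ' : ∀ v ∈ eight,
      (v.1 - v.2.1, -(2 * v.2.2), v.1 + v.2.1) ∈ Core.R2 ∧
      p2 (v.1 - v.2.1, -(2 * v.2.2), v.1 + v.2.1) = (v.1, v.2.1, -v.2.2) ∧
      (-(v.1 - v.2.1), 2 * v.2.2, -(v.1 + v.2.1)) ∈ Core.R2 ∧
      p2 (-(v.1 - v.2.1), 2 * v.2.2, -(v.1 + v.2.1)) = (-v.1, -v.2.1, v.2.2) := by decide
  have kγ'' : ∀ v ∈ eight,
      (v.1 - v.2.1, 0, -(v.1 + v.2.1)) ∈ Core.R2 ∧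
      p2 (v.1 - v.2.1, 0, -(v.1 + v.2.1)) = (-v.2.1, -v.1, 0) ∧
      (-(v.1 - v.2.1), 0, v.1 + v.2.1) ∈ Core.R2 ∧
      p2 (-(v.1 - v.2.1), 0, v.1 + v.2.1) = (v.2.1, v.1, 0) := by decide
  obtain ⟨b1, b1', b2, b2'⟩ := kβ β hβ8
  obtain ⟨b3, b3', b4, b4'⟩ := kβ' β hβ8
  obtain ⟨b5, b5', b6, b6'⟩ := kβ'' β hβ8
  obtain ⟨g1, g1', g2, g2'⟩ := kγ γ hγ8
  obtain ⟨g3, g3', g4, g4'⟩ := kγ' γ hγ8
  obtain ⟨g5, g5', g6, g6'⟩ := kγ'' γ hγ8
  have C : Core.Conf G β.2.2 (β.1 + β.2.1) (β.1 - β.2.1) (γ.1 - γ.2.1) γ.2.2 (γ.1 + γ.2.1) :=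
    { X := XX X1 X2 X3
      Y := Y
      c1 := chart r1 H1 (by decide) (by decide) (by decide) (by decide)
      c2 := chart r2 H2 (by decide) (by decide) (by decide) (by decide)
      c3 := chart r3 H3 (by decide) (by decide) (by decide) (by decide)
      cw := chart (p := id) ry (fun _ _ => rfl) (by decide) (by decide) (by decide) (by decide)
      n1 := by
        obtain ⟨n, hn⟩ := n1
        refine ⟨n, fun v hv g hg => ?_⟩
        rcases hRX v hv with h | h | h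
        · have k : ∀ x ∈ Core.R1, (-x.1, x.2.1, x.2.2) ∈ Core.R1 ∧ IsR (p1 x) ∧
              p1 (-x.1, x.2.1, x.2.2) = refl (0, 0, 1) (p1 x) := by decide
          obtain ⟨k1, k2, k3⟩ := k v h
          rw [H1 _ k1, k3]
          exact cjm (hn _ k2).1 (H1 v h ▸ hg)
        · have k : ∀ x ∈ Core.R2, (-x.1, x.2.1, x.2.2) ∈ Core.R2 ∧ IsR (p2 x) ∧
              p2 (-x.1, x.2.1, x.2.2) = refl (1, -1, 0) (p2 x) := by decide
          obtain ⟨k1, k2, k3⟩ := k v h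
          rw [H2 _ k1, k3]
          exact cjm (hn _ k2).2.1 (H2 v h ▸ hg)
        · have k : ∀ x ∈ Core.R3, (-x.1, x.2.1, x.2.2) ∈ Core.R3 ∧ IsR (p3 x) ∧
              p3 (-x.1, x.2.1, x.2.2) = refl (1, 1, 0) (p3 x) := by decide
          obtain ⟨k1, k2, k3⟩ := k v h
          rw [H3 _ k1, k3]
          exact cjm (hn _ k2).2.2 (H3 v h ▸ hg)
      n2 := by
        obtain ⟨n, hn⟩ := n2
        refine ⟨n, fun v hv g hg => ?_⟩
        rcases hRX v hv with h | h | h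
        · have k : ∀ x ∈ Core.R1, (x.1, -x.2.1, x.2.2) ∈ Core.R1 ∧ IsR (p1 x) ∧
              p1 (x.1, -x.2.1, x.2.2) = refl (1, 1, 0) (p1 x) := by decide
          obtain ⟨k1, k2, k3⟩ := k v h
          rw [H1 _ k1, k3]
          exact cjm (hn _ k2).2.2 (H1 v h ▸ hg)
        · have k : ∀ x ∈ Core.R2, (x.1, -x.2.1, x.2.2) ∈ Core.R2 ∧ IsR (p2 x) ∧
              p2 (x.1, -x.2.1, x.2.2) = refl (0, 0, 1) (p2 x) := by decide
          obtain ⟨k1, k2, k3⟩ := k v h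
          rw [H2 _ k1, k3]
          exact cjm (hn _ k2).1 (H2 v h ▸ hg)
        · have k : ∀ x ∈ Core.R3, (x.1, -x.2.1, x.2.2) ∈ Core.R3 ∧ IsR (p3 x) ∧
              p3 (x.1, -x.2.1, x.2.2) = refl (1, -1, 0) (p3 x) := by decide
          obtain ⟨k1, k2, k3⟩ := k v h
          rw [H3 _ k1, k3]
          exact cjm (hn _ k2).2.1 (H3 v h ▸ hg)
      n3 := by
        obtain ⟨n, hn⟩ := n3
        refine ⟨n, fun v hv g hg => ?_⟩
        rcases hRX v hv with h | h | h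
        · have k : ∀ x ∈ Core.R1, (x.1, x.2.1, -x.2.2) ∈ Core.R1 ∧ IsR (p1 x) ∧
              p1 (x.1, x.2.1, -x.2.2) = refl (1, -1, 0) (p1 x) := by decide
          obtain ⟨k1, k2, k3⟩ := k v h
          rw [H1 _ k1, k3]
          exact cjm (hn _ k2).2.1 (H1 v h ▸ hg)
        · have k : ∀ x ∈ Core.R2, (x.1, x.2.1, -x.2.2) ∈ Core.R2 ∧ IsR (p2 x) ∧
              p2 (x.1, x.2.1, -x.2.2) = refl (1, 1, 0) (p2 x) := by decide
          obtain ⟨k1, k2, k3⟩ := k v h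
          rw [H2 _ k1, k3]
          exact cjm (hn _ k2).2.2 (H2 v h ▸ hg)
        · have k : ∀ x ∈ Core.R3, (x.1, x.2.1, -x.2.2) ∈ Core.R3 ∧ IsR (p3 x) ∧
              p3 (x.1, x.2.1, -x.2.2) = refl (0, 0, 1) (p3 x) := by decide
          obtain ⟨k1, k2, k3⟩ := k v h
          rw [H3 _ k1, k3]
          exact cjm (hn _ k2).1 (H3 v h ▸ hg)
      a_pos := by rw [a_pos, H3 _ (by decide)]; rfl
      a_neg := by rw [a_neg, H3 _ (by decide)]; rfl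
      b_pos := by rw [b_pos, H1 _ b1, b1']
      b_neg := by rw [b_neg, H1 _ b2, b2']
      c_pos := by rw [c_pos, H2 _ g1, g1']
      c_neg := by rw [c_neg, H2 _ g2, g2']
      ab := by
        intro e f he hf
        obtain ⟨u, hu, hd, hY⟩ := m3 e f he hf
        rw [hY, H2 _ g3, g3', H2 _ g4, g4', H2 _ g5, g5', H2 _ g6, g6']
        rcases mem_of_dot γ hγ8 u (List.mem_append.mpr hu) hd with rfl | rfl | rfl | rfl
        · exact Or.inl rfl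
        · exact Or.inr (Or.inl rfl)
        · exact Or.inr (Or.inr (Or.inr rfl))
        · exact Or.inr (Or.inr (Or.inl rfl))
      ac := by
        intro e f he hf
        obtain ⟨u, hu, hd, hY⟩ := m2 e f he hf
        rw [hY, H1 _ b3, b3', H1 _ b4, b4', H1 _ b5, b5', H1 _ b6, b6']
        rcases mem_of_dot β hβ8 u (List.mem_append.mpr hu) hd with rfl | rfl | rfl | rfl
        · exact Or.inl rfl
        · exact Or.inr (Or.inl rfl)
        · exact Or.inr (Or.inr (Or.inl rfl))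
        · exact Or.inr (Or.inr (Or.inr rfl))
      bc := by
        intro e f he hf
        obtain ⟨u, hu, hd, hY⟩ := m1 e f he hf
        rw [hY]
        rcases mem_of_dot (1, 0, 1) (by decide) u (List.mem_append.mpr hu) hd with
          rfl | rfl | rfl | rfl
        · exact Or.inl ((congrArg X3 (by decide)).trans (H3 (1, 1, -2) (by decide)).symm)
        · exact Or.inr (Or.inl ((congrArg X3 (by decide)).trans (H3 (-1, -1, 2) (by decide)).symm))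
        · exact Or.inr (Or.inr (Or.inl
            ((congrArg X3 (by decide)).trans (H3 (1, -1, 0) (by decide)).symm)))
        · exact Or.inr (Or.inr (Or.inr
            ((congrArg X3 (by decide)).trans (H3 (-1, 1, 0) (by decide)).symm))) }
  exact C.false u1 u2 u3 w3 w1 w2

end Cfsg.Agent.OddHalf.NI3.Sol
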