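import Cfsg.Agent.OddHalf.NI3.Sol.End2

/-!
# Solomon's configuration: `EndData` is contradictory

`EndData.false` follows from `end_false`: the charts are `X1 = X 2`, `X2 = X 1`, `X3 = X 0`,
`β = ± c`, `γ = ± b`, and `Y` is composed with a permutation of the coordinates.
-/

set_option autoImplicit false

namespace Cfsg.Agent.OddHalf.NI3.Sol

open Subgroup

variable {G : Type*} [Group G]

theorem Rel.comp {Y : V → Subgroup G} (r : Rel Y) {T : V → V}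
    (h0 : ∀ u ∈ shortL ++ longL, IsR (T u)) (hT : ∀ u v, T (u + v) = T u + T v)
    (h2 : ∀ u, IsR (T u) → IsR u) (h3 : ∀ u, T u = 0 → u = 0) : Rel (fun v => Y (T v)) where
  comm u v hu hv h h' := r.comm _ _ (h0 u (List.mem_append.mpr hu)) (h0 v (List.mem_append.mpr hv))
    (fun hh => h (h2 _ (by rwa [hT]))) (fun hh => h' (h3 _ (by rwa [hT])))
  ncomm u v hu hv h := r.ncomm _ _ (h0 u (List.mem_append.mpr hu))
    (h0 v (List.mem_append.mpr hv)) (by rw [← hT]; exact h0 _ (List.mem_append.mpr h))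
  gen u v hu hv h := by
    have := r.gen _ _ (h0 u (List.mem_append.mpr hu))
      (h0 v (List.mem_append.mpr hv)) (by rw [← hT]; exact h0 _ (List.mem_append.mpr h))
    simpa only [hT] using this

/-- the cyclic permutation of the coordinates -/
def cyc (v : V) : V := (v.2.1, v.2.2, v.1)

/-- the transposition of the coordinates -/
def trp (v : V) : V := (v.2.2, v.2.1, v.1)

theorem Rel.cyc {Y : V → Subgroup G} (r : Rel Y) : Rel (fun v => Y (cyc v)) := by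
  refine r.comp (by decide) (fun u v => rfl) ?_ ?_
  · have key : ∀ v ∈ shortL ++ longL, IsR (v.2.2, v.1, v.2.1) := by decide
    rintro ⟨a, b, c⟩ h
    exact key _ (List.mem_append.mpr h)
  · rintro ⟨a, b, c⟩ h
    have h1 : b = 0 := congrArg Prod.fst h
    have h2 : c = 0 := congrArg (fun x : V => x.2.1) h
    have h3 : a = 0 := congrArg (fun x : V => x.2.2) h
    subst h1 h2 h3
    rfl

theorem Rel.trp {Y : V → Subgroup G} (r : Rel Y) : Rel (fun v => Y (trp v)) := by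
  refine r.comp (by decide) (fun u v => rfl) ?_ ?_
  · have key : ∀ v ∈ shortL ++ longL, IsR (v.2.2, v.2.1, v.1) := by decide
    rintro ⟨a, b, c⟩ h
    exact key _ (List.mem_append.mpr h)
  · rintro ⟨a, b, c⟩ h
    have h1 : c = 0 := congrArg Prod.fst h
    have h2 : b = 0 := congrArg (fun x : V => x.2.1) h
    have h3 : a = 0 := congrArg (fun x : V => x.2.2) h
    subst h1 h2 h3
    rfl

theorem dot_neg (u v : V) : dot u (-v) = - dot u v := by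
  simp only [dot, Prod.fst_neg, Prod.snd_neg]
  ring

/-- The `Pr`-form of a membership statement. -/
theorem Pr.mem {A B : V → Subgroup G} {u v w : V} (h : Pr A B u v) (hv : IsR v)
    (hd : dot v w = 0) : (∃ x, IsR x ∧ dot x w = 0 ∧ A u = B x) ∧
      (∃ x, IsR x ∧ dot x w = 0 ∧ A (-u) = B x) := by
  have hn : ∀ v ∈ shortL ++ longL, IsR (-v) := by decide
  have hv' : IsR (-v) := hn v (List.mem_append.mpr hv)
  have hd' : dot (-v) w = 0 := by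
    have : dot (-v) w = - dot v w := by
      simp only [dot, Prod.fst_neg, Prod.snd_neg]
      ring
    rw [this, hd, neg_zero]
  rcases h with ⟨h1, h2⟩ | ⟨h1, h2⟩
  · exact ⟨⟨v, hv, hd, h1⟩, ⟨-v, hv', hd', h2⟩⟩
  · exact ⟨⟨-v, hv', hd', h1⟩, ⟨v, hv, hd, h2⟩⟩

/-- `end_false` with `Y (±e₂) = X1 (±β)`, `Y (±e₃) = X2 (±γ)` only up to sign. -/
theorem end_false_pr {X1 X2 X3 Y : V → Subgroup G} (r1 : Rel X1) (r2 : Rel X2) (r3 : Rel X3)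
    (ry : Rel Y)
    (c : ∀ e : ℤ, e = 1 ∨ e = -1 →
      X1 (0, 0, e) = X3 (e, e, 0) ∧ X1 (0, 0, e) = X2 (e, -e, 0) ∧
      X2 (0, 0, e) = X1 (e, e, 0) ∧ X2 (0, 0, e) = X3 (e, -e, 0) ∧
      X3 (0, 0, e) = X2 (e, e, 0) ∧ X3 (0, 0, e) = X1 (e, -e, 0))
    (n1 : ∃ n : G, ∀ u, IsR u → cj n (X1 u) = X1 (refl (0, 0, 1) u) ∧
      cj n (X2 u) = X2 (refl (1, -1, 0) u) ∧ cj n (X3 u) = X3 (refl (1, 1, 0) u))
    (n2 : ∃ n : G, ∀ u, IsR u → cj n (X2 u) = X2 (refl (0, 0, 1) u) ∧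
      cj n (X3 u) = X3 (refl (1, -1, 0) u) ∧ cj n (X1 u) = X1 (refl (1, 1, 0) u))
    (n3 : ∃ n : G, ∀ u, IsR u → cj n (X3 u) = X3 (refl (0, 0, 1) u) ∧
      cj n (X1 u) = X1 (refl (1, -1, 0) u) ∧ cj n (X2 u) = X2 (refl (1, 1, 0) u))
    {β γ : V} (hβ : IsL β) (hβ0 : β.2.2 ≠ 0) (hγ : IsL γ) (hγ0 : γ.2.2 ≠ 0)
    (a_pos : Y (1, 0, 0) = X3 (1, 0, 1)) (a_neg : Y (-1, 0, 0) = X3 (-1, 0, -1))
    (hb : (Y (0, 1, 0) = X1 β ∧ Y (0, -1, 0) = X1 (-β)) ∨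
      (Y (0, 1, 0) = X1 (-β) ∧ Y (0, -1, 0) = X1 β))
    (hc : (Y (0, 0, 1) = X2 γ ∧ Y (0, 0, -1) = X2 (-γ)) ∨
      (Y (0, 0, 1) = X2 (-γ) ∧ Y (0, 0, -1) = X2 γ))
    (m3 : ∀ e f : ℤ, (e = 1 ∨ e = -1) → (f = 1 ∨ f = -1) →
      ∃ u, IsR u ∧ dot u γ = 0 ∧ Y (e, f, 0) = X2 u)
    (m2 : ∀ e f : ℤ, (e = 1 ∨ e = -1) → (f = 1 ∨ f = -1) →
      ∃ u, IsR u ∧ dot u β = 0 ∧ Y (e, 0, f) = X1 u)
    (m1 : ∀ e f : ℤ, (e = 1 ∨ e = -1) → (f = 1 ∨ f = -1) →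
      ∃ u, IsR u ∧ dot u (1, 0, 1) = 0 ∧ Y (0, e, f) = X3 u) : False := by
  have hneg : ∀ v ∈ longL, IsL (-v) := by decide
  obtain ⟨β', hβ', hβ0', b1, b2, m2'⟩ : ∃ β' : V, IsL β' ∧ β'.2.2 ≠ 0 ∧ Y (0, 1, 0) = X1 β' ∧
      Y (0, -1, 0) = X1 (-β') ∧ ∀ e f : ℤ, (e = 1 ∨ e = -1) → (f = 1 ∨ f = -1) →
        ∃ u, IsR u ∧ dot u β' = 0 ∧ Y (e, 0, f) = X1 u := by
    rcases hb with ⟨h1, h2⟩ | ⟨h1, h2⟩
    · exact ⟨β, hβ, hβ0, h1, h2, m2⟩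
    · refine ⟨-β, hneg β hβ, neg_ne_zero.mpr hβ0, h1, by rw [neg_neg]; exact h2, ?_⟩
      intro e f he hf
      obtain ⟨u, hu, hd, hY⟩ := m2 e f he hf
      exact ⟨u, hu, by rw [dot_neg, hd, neg_zero], hY⟩
  obtain ⟨γ', hγ', hγ0', g1, g2, m3'⟩ : ∃ γ' : V, IsL γ' ∧ γ'.2.2 ≠ 0 ∧ Y (0, 0, 1) = X2 γ' ∧
      Y (0, 0, -1) = X2 (-γ') ∧ ∀ e f : ℤ, (e = 1 ∨ e = -1) → (f = 1 ∨ f = -1) →
        ∃ u, IsR u ∧ dot u γ' = 0 ∧ Y (e, f, 0) = X2 u := by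
    rcases hc with ⟨h1, h2⟩ | ⟨h1, h2⟩
    · exact ⟨γ, hγ, hγ0, h1, h2, m3⟩
    · refine ⟨-γ, hneg γ hγ, neg_ne_zero.mpr hγ0, h1, by rw [neg_neg]; exact h2, ?_⟩
      intro e f he hf
      obtain ⟨u, hu, hd, hY⟩ := m3 e f he hf
      exact ⟨u, hu, by rw [dot_neg, hd, neg_zero], hY⟩
  exact end_false r1 r2 r3 ry c n1 n2 n3 hβ' hβ0' hγ' hγ0' a_pos a_neg b1 b2 g1 g2 m3' m2' m1

theorem EndData.false {X : Fin 3 → V → Subgroup G} {Y : V → Subgroup G} {b c : V}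
    (h : EndData X Y b c) : False := by
  have hcm : ∀ e : ℤ, e = 1 ∨ e = -1 →
      X 2 (0, 0, e) = X 0 (e, e, 0) ∧ X 2 (0, 0, e) = X 1 (e, -e, 0) ∧
      X 1 (0, 0, e) = X 2 (e, e, 0) ∧ X 1 (0, 0, e) = X 0 (e, -e, 0) ∧
      X 0 (0, 0, e) = X 1 (e, e, 0) ∧ X 0 (0, 0, e) = X 2 (e, -e, 0) := by
    rintro e (rfl | rfl)
    · exact ⟨(h.sh2 0).1.symm, (h.sh1 1).1.symm, (h.sh2 2).1.symm, (h.sh1 0).1.symm,
        (h.sh2 1).1.symm, (h.sh1 2).1.symm⟩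
    · exact ⟨(h.sh2 0).2.symm, (h.sh1 1).2.symm, (h.sh2 2).2.symm, (h.sh1 0).2.symm,
        (h.sh2 1).2.symm, (h.sh1 2).2.symm⟩
  have n1 : ∃ n : G, ∀ u, IsR u → cj n (X 2 u) = X 2 (refl (0, 0, 1) u) ∧
      cj n (X 1 u) = X 1 (refl (1, -1, 0) u) ∧ cj n (X 0 u) = X 0 (refl (1, 1, 0) u) := by
    obtain ⟨g, g1, g2, g3⟩ := h.n 2
    exact ⟨g, fun u hu => ⟨g1 u hu, g3 u hu, g2 u hu⟩⟩
  have n2 : ∃ n : G, ∀ u, IsR u → cj n (X 1 u) = X 1 (refl (0, 0, 1) u) ∧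
      cj n (X 0 u) = X 0 (refl (1, -1, 0) u) ∧ cj n (X 2 u) = X 2 (refl (1, 1, 0) u) := by
    obtain ⟨g, g1, g2, g3⟩ := h.n 1
    exact ⟨g, fun u hu => ⟨g1 u hu, g3 u hu, g2 u hu⟩⟩
  have n3 : ∃ n : G, ∀ u, IsR u → cj n (X 0 u) = X 0 (refl (0, 0, 1) u) ∧
      cj n (X 2 u) = X 2 (refl (1, -1, 0) u) ∧ cj n (X 1 u) = X 1 (refl (1, 1, 0) u) := by
    obtain ⟨g, g1, g2, g3⟩ := h.n 0
    exact ⟨g, fun u hu => ⟨g1 u hu, g3 u hu, g2 u hu⟩⟩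
  have hcL : IsL c ∧ c.2.2 ≠ 0 ∧ IsR (sh c) ∧ IsR (ol c) ∧ dot (sh c) c = 0 ∧ dot (ol c) c = 0 := by
    rcases h.hc with rfl | rfl | rfl | rfl <;> decide
  have hbL : IsL b ∧ b.2.2 ≠ 0 ∧ IsR (sh b) ∧ IsR (ol b) ∧ dot (sh b) b = 0 ∧ dot (ol b) b = 0 := by
    rcases h.hb with rfl | rfl | rfl | rfl <;> decide
  obtain ⟨cL, c0, cs, co, cs0, co0⟩ := hcL
  obtain ⟨bL, b0, bs, bo, bs0, bo0⟩ := hbL
  obtain ⟨B2, B2'⟩ := h.b2.mem bs bs0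
  obtain ⟨B3, B3'⟩ := h.b3.mem bo bo0
  obtain ⟨C2, C2'⟩ := h.c2.mem cs cs0
  obtain ⟨C3, C3'⟩ := h.c3.mem co co0
  have M1 : ∀ v : V, v = (1, 1, 0) ∨ v = (1, -1, 0) ∨ v = (-1, 1, 0) ∨ v = (-1, -1, 0) →
      ∃ u, IsR u ∧ dot u (1, 0, 1) = 0 ∧ Y v = X 0 u := by
    rintro v (rfl | rfl | rfl | rfl)
    · exact ⟨_, by decide, by decide, h.y3.1⟩
    · exact ⟨_, by decide, by decide, h.y2.1⟩
    · exact ⟨_, by decide, by decide, h.y2.2⟩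
    · exact ⟨_, by decide, by decide, h.y3.2⟩
  rcases h.hb with rfl | rfl | rfl | rfl
  · refine end_false_pr (h.rel 2) (h.rel 1) (h.rel 0) h.relY.cyc hcm n1 n2 n3 cL c0 bL b0
      h.y1.1 h.y1.2 h.c1 h.b1 ?_ ?_ ?_
    · rintro e f (rfl | rfl) (rfl | rfl)
      exacts [B2, B3', B3, B2']
    · rintro e f (rfl | rfl) (rfl | rfl)
      exacts [C3', C2, C2', C3]
    · rintro e f (rfl | rfl) (rfl | rfl)
      all_goals exact M1 _ (by decide)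
  · refine end_false_pr (h.rel 2) (h.rel 1) (h.rel 0) h.relY.cyc hcm n1 n2 n3 cL c0 bL b0
      h.y1.1 h.y1.2 h.c1 h.b1 ?_ ?_ ?_
    · rintro e f (rfl | rfl) (rfl | rfl)
      exacts [B3, B2', B2, B3']
    · rintro e f (rfl | rfl) (rfl | rfl)
      exacts [C2', C3, C3', C2]
    · rintro e f (rfl | rfl) (rfl | rfl)
      all_goals exact M1 _ (by decide)
  · refine end_false_pr (h.rel 2) (h.rel 1) (h.rel 0) h.relY.trp hcm n1 n2 n3 cL c0 bL b0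
      h.y1.1 h.y1.2 h.c1 h.b1 ?_ ?_ ?_
    · rintro e f (rfl | rfl) (rfl | rfl)
      exacts [B2, B3', B3, B2']
    · rintro e f (rfl | rfl) (rfl | rfl)
      exacts [C3', C2, C2', C3]
    · rintro e f (rfl | rfl) (rfl | rfl)
      all_goals exact M1 _ (by decide)
  · refine end_false_pr (h.rel 2) (h.rel 1) (h.rel 0) h.relY.trp hcm n1 n2 n3 cL c0 bL b0
      h.y1.1 h.y1.2 h.c1 h.b1 ?_ ?_ ?_
    · rintro e f (rfl | rfl) (rfl | rfl)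
      exacts [B3, B2', B2, B3']
    · rintro e f (rfl | rfl) (rfl | rfl)
      exacts [C2', C3, C3', C2]
    · rintro e f (rfl | rfl) (rfl | rfl)
      all_goals exact M1 _ (by decide)

end Cfsg.Agent.OddHalf.NI3.Sol
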