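import Cfsg.Agent.OddHalf.NI3.Sol.Basic

/-!
# Solomon's configuration: three charts, common root groups, the centraliser of `J₀ J₁ J₂`

* `Tri F K c X z` : the three groups `K i` with their charts; `JJ (X i) (0,0,1) = J i`, `JJ (X i) (1,-1,0) = J (i+1)`,
  `JJ (X i) (1,1,0) = J (i+2)`;
* `Tri.normalise` : common root groups;
* `Tri.cent` : an element centralising all `J i` is `v * d`, `v ∈ {1, c 0, c 1, c 2}`, `d` centralises all `K i`;
* `NTri.step3` : `z 0 (1,0,1) * z j b = d`.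
-/

set_option autoImplicit false
set_option linter.unusedSectionVars false
set_option linter.unusedVariables false

namespace Cfsg.Agent.OddHalf.NI3.Sol

open Subgroup Matrix
open Cfsg.Agent.OddHalf.NI (CompIn)

variable {G : Type*} [Group G] {F : Type} [Field F] [Fintype F]

theorem fin3 (i j : Fin 3) : i = j ∨ i = j + 1 ∨ i = j + 2 := by revert i j; decide

theorem fin3' {i j : Fin 3} (h : i ≠ j) : j = i + 1 ∨ j = i + 2 := by revert i j; decide

/-- two components of `H` with a common non-abelian subgroup are equal -/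
theorem comp_eq {H K L J : Subgroup G} (hK : CompIn H K) (hL : CompIn H L) (h1 : J ≤ K) (h2 : J ≤ L)
    (h3 : ¬ cm J J) : K = L := by
  by_contra hne
  apply h3
  intro a ha b hb
  have h4 := hK.comm hL hne (h1 ha)
  exact (mem_centralizer_iff.1 h4 b (h2 hb)).symm

theorem cm_of_JJ {X : V → Subgroup G} {u v : V} (h1 : cm (X u) (X v)) (h2 : cm (X u) (X (-v)))
    (h3 : cm (X (-u)) (X v)) (h4 : cm (X (-u)) (X (-v))) : cm (JJ X u) (JJ X v) := by
  have key : ∀ A B C : Subgroup G, cm A B → cm A C → cm A (B ⊔ C) := by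
    intro A B C hB hC a ha
    have : B ⊔ C ≤ centralizer ({a} : Set G) := by
      refine sup_le ?_ ?_
      · intro x hx
        rw [mem_centralizer_singleton_iff]
        exact (hB a ha x hx).symm
      · intro x hx
        rw [mem_centralizer_singleton_iff]
        exact (hC a ha x hx).symm
    intro b hb
    exact (mem_centralizer_singleton_iff.1 (this hb)).symm
  have sym : ∀ A B : Subgroup G, cm A B → cm B A := fun A B h a ha b hb => (h b hb a ha).symm
  have h5 := key _ _ _ h1 h2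
  have h6 := key _ _ _ h3 h4
  exact sym _ _ (key _ _ _ (sym _ _ h5) (sym _ _ h6))

theorem cm.symm {A B : Subgroup G} (h : cm A B) : cm B A := fun a ha b hb => (h b hb a ha).symm

section One

variable {K : Subgroup G} {c : G} {X : V → Subgroup G} {z : V → G}

theorem B3.JJ_comm (h : B3 F K c X z) {u v : V} (hu : IsR u) (hv : IsR v) (h1 : ¬ IsR (u + v)) (h2 : u + v ≠ 0)
    (h3 : ¬ IsR (u - v)) (h4 : u - v ≠ 0) : cm (JJ X u) (JJ X v) := by
  have e1 : -u + v = -(u - v) := by abel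
  have e2 : -u + -v = -(u + v) := by abel
  have nn : ∀ w : V, IsR (-w) → IsR w := fun w hw => by have := hw.neg; rwa [neg_neg] at this
  refine cm_of_JJ (h.comm u v hu hv h1 h2) (h.comm u (-v) hu hv.neg ?_ ?_) (h.comm (-u) v hu.neg hv ?_ ?_)
    (h.comm (-u) (-v) hu.neg hv.neg ?_ ?_)
  · rwa [← sub_eq_add_neg]
  · rwa [← sub_eq_add_neg]
  · rw [e1]; exact fun hw => h3 (nn _ hw)
  · rw [e1]; exact neg_ne_zero.2 h4
  · rw [e2]; exact fun hw => h1 (nn _ hw)
  · rw [e2]; exact neg_ne_zero.2 h2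

/-- the Weyl element acts on the `JJ` -/
theorem weyl_JJ {v : V} {n : G} (hn : ∀ u, IsR u → cj n (X u) = X (refl v u)) {u : V} (hu : IsR u) :
    cj n (JJ X u) = JJ X (refl v u) := by
  unfold JJ
  rw [cj_sup, hn u hu, hn _ hu.neg, refl_neg]

/-- and on the involutions -/
theorem B3.zconj (h : B3 F K c X z) {K' : Subgroup G} {c' : G} {X' : V → Subgroup G} {z' : V → G}
    (h' : B3 F K' c' X' z') {g : G} {u v : V} (hu : IsR u) (hv : IsR v) (he : cj g (JJ X u) = JJ X' v) :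
    g * z u * g⁻¹ = z' v := by
  apply h'.uniq hv
  · rw [← he, conj_mem_cj]; exact h.z_mem u hu
  · rw [← h.z_order u hu]
    exact (MulAut.conj g).orderOf_eq (z u)

theorem B3.zeq (h : B3 F K c X z) {K' : Subgroup G} {c' : G} {X' : V → Subgroup G} {z' : V → G}
    (h' : B3 F K' c' X' z') {u v : V} (hu : IsR u) (hv : IsR v) (he : JJ X u = JJ X' v) : z u = z' v := by
  have := h.zconj h' (g := 1) hu hv (by rw [cj_one, he])
  simpa using this

/-- the central involution commutes with everything in `K` -/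
theorem B3.c_comm' (h : B3 F K c X z) {x : G} (hx : x ∈ K) : x * c * x⁻¹ = c := by
  rw [← h.c_comm x hx]; group

end One

/-- the three groups -/
structure Tri (F : Type) [Field F] [Fintype F] (K : Fin 3 → Subgroup G) (c : Fin 3 → G)
    (X : Fin 3 → V → Subgroup G) (z : Fin 3 → V → G) : Prop where
  full : ∀ i, Full F (K i) (c i) (X i) (z i)
  j1 : ∀ i, JJ (X i) (1, -1, 0) = JJ (X (i + 1)) (0, 0, 1)
  j2 : ∀ i, JJ (X i) (1, 1, 0) = JJ (X (i + 2)) (0, 0, 1)

variable {K : Fin 3 → Subgroup G} {c : Fin 3 → G} {X : Fin 3 → V → Subgroup G} {z : Fin 3 → V → G}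

namespace Tri

theorem b3 (h : Tri F K c X z) (i : Fin 3) : B3 F (K i) (c i) (X i) (z i) := (h.full i).b3

theorem z1 (h : Tri F K c X z) (i : Fin 3) : z i (1, -1, 0) = c (i + 1) := by
  rw [← (h.b3 (i + 1)).z_short (0, 0, 1) (by decide)]
  exact (h.b3 i).zeq (h.b3 (i + 1)) (by decide) (by decide) (h.j1 i)

theorem z2 (h : Tri F K c X z) (i : Fin 3) : z i (1, 1, 0) = c (i + 2) := by
  rw [← (h.b3 (i + 2)).z_short (0, 0, 1) (by decide)]
  exact (h.b3 i).zeq (h.b3 (i + 2)) (by decide) (by decide) (h.j2 i)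

/-- `J j ≤ K i` -/
theorem J_le (h : Tri F K c X z) (i j : Fin 3) : JJ (X j) (0, 0, 1) ≤ K i := by
  have h0 := (h.b3 i).JJ_le (v := (0, 0, 1)) (by decide)
  have h1 := (h.b3 i).JJ_le (v := (1, -1, 0)) (by decide)
  have h2 := (h.b3 i).JJ_le (v := (1, 1, 0)) (by decide)
  rw [h.j1] at h1
  rw [h.j2] at h2
  have := fin3 j i
  rcases this with rfl | rfl | rfl
  · exact h0
  · exact h1
  · exact h2

/-- distinct `J i` commute -/
theorem J_comm (h : Tri F K c X z) {i j : Fin 3} (hij : i ≠ j) : cm (JJ (X i) (0, 0, 1)) (JJ (X j) (0, 0, 1)) := by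
  have h1 := (h.b3 i).JJ_comm (u := (0, 0, 1)) (v := (1, -1, 0)) (by decide) (by decide) (by decide) (by decide)
    (by decide) (by decide)
  have h2 := (h.b3 i).JJ_comm (u := (0, 0, 1)) (v := (1, 1, 0)) (by decide) (by decide) (by decide) (by decide)
    (by decide) (by decide)
  rw [h.j1] at h1
  rw [h.j2] at h2
  have := fin3' hij
  rcases this with rfl | rfl
  · exact h1
  · exact h2

theorem J_not_comm (h : Tri F K c X z) (i : Fin 3) : ¬ cm (JJ (X i) (0, 0, 1)) (JJ (X i) (0, 0, 1)) :=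
  (h.b3 i).JJ_not_comm (by decide)

theorem c_mem_J (h : Tri F K c X z) (i : Fin 3) : c i ∈ JJ (X i) (0, 0, 1) := by
  rw [← (h.b3 i).z_short (0, 0, 1) (by decide)]
  exact (h.b3 i).z_mem _ (by decide)

/-- `c j` centralises `J i` -/
theorem c_J (h : Tri F K c X z) (i j : Fin 3) : ∀ x ∈ JJ (X i) (0, 0, 1), c j * x = x * c j :=
  fun x hx => (h.b3 j).c_comm x (h.J_le j i hx)

/-- an element centralising the `J i` normalises the `K i` -/
theorem norm (h : Tri F K c X z) {f : G} (hf : ∀ i, ∀ x ∈ JJ (X i) (0, 0, 1), f * x = x * f) (i : Fin 3) :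
    cj f (K i) = K i := by
  have h1 := CompIn.cj' (h.full i).comp f
  rw [cj_centralizer_singleton] at h1
  have h2 : f * c i * f⁻¹ = c i := by rw [hf i (c i) (h.c_mem_J i)]; group
  rw [h2] at h1
  refine comp_eq h1 (h.full i).comp (J := JJ (X i) (0, 0, 1)) ?_ (h.J_le i i) (h.J_not_comm i)
  rw [← cj_eq_of_comm (hf i)]
  exact cj_mono f (h.J_le i i)

/-- `K 0` is conjugate to `K 2` by an element of `K 1` -/
theorem conj02 (h : Tri F K c X z) : ∃ k ∈ K 1, K 0 = cj k (K 2) := by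
  obtain ⟨k, hk, hn⟩ := (h.b3 1).weyl (0, 1, 0) (by decide)
  have hkK : k ∈ K 1 := (h.b3 1).JJ_le (by decide) hk
  refine ⟨k, hkK, ?_⟩
  have h1 := CompIn.cj' (h.full 2).comp k
  rw [cj_centralizer_singleton] at h1
  have h2 : k * c 2 * k⁻¹ = c 0 := by
    have e1 : z 1 (1, -1, 0) = c 2 := h.z1 1
    have e2 : z 1 (1, 1, 0) = c 0 := h.z2 1
    rw [← e1, ← e2]
    exact (h.b3 1).zconj (h.b3 1) (by decide) (by decide) (weyl_JJ hn (by decide))
  rw [h2] at h1
  refine comp_eq (h.full 0).comp h1 (J := JJ (X 1) (0, 0, 1)) (h.J_le 0 1) ?_ (h.J_not_comm 1)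
  have h3 : cj k (JJ (X 1) (0, 0, 1)) = JJ (X 1) (0, 0, 1) := weyl_JJ hn (by decide)
  rw [← h3]
  exact cj_mono k (h.J_le 2 1)

/-- **(D)** -/
theorem cent (h : Tri F K c X z) {f : G} (hf : ∀ i, ∀ x ∈ JJ (X i) (0, 0, 1), f * x = x * f) :
    ∃ v, (v = 1 ∨ ∃ i, v = c i) ∧ ∀ i, ∀ x ∈ K i, (f * v) * x = x * (f * v) := by
  -- `f * v` still centralises the `J i`
  have hfc : ∀ f' : G, (∀ i, ∀ x ∈ JJ (X i) (0, 0, 1), f' * x = x * f') → ∀ j, ∀ i, ∀ x ∈ JJ (X i) (0, 0, 1),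
      (f' * c j) * x = x * (f' * c j) := by
    intro f' hf' j i x hx
    rw [mul_assoc, h.c_J i j x hx, ← mul_assoc, hf' i x hx, mul_assoc]
  have hcc : ∀ i, c i * c i = 1 := by
    intro i
    have := pow_orderOf_eq_one (c i)
    rwa [(h.b3 i).c_order, pow_two] at this
  -- on `K i`
  have act : ∀ i, ∀ f' : G, (∀ j, ∀ x ∈ JJ (X j) (0, 0, 1), f' * x = x * f') →
      (∀ x ∈ K i, f' * x = x * f') ∨ (∀ x ∈ K i, (f' * c (i + 2)) * x = x * (f' * c (i + 2))) := by
    intro i f' hf'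
    rw [← h.z2 i]
    refine (h.full i).five f' (h.norm hf' i) (hf' i) ?_ ?_
    · rw [h.j1]; exact hf' _
    · rw [h.j2]; exact hf' _
  -- first `K 1`
  obtain ⟨v1, hv1, h1, h1'⟩ : ∃ v1, (v1 = 1 ∨ v1 = c 0) ∧ (∀ j, ∀ x ∈ JJ (X j) (0, 0, 1), (f * v1) * x = x * (f * v1)) ∧
      ∀ x ∈ K 1, (f * v1) * x = x * (f * v1) := by
    rcases act 1 f hf with h2 | h2
    · exact ⟨1, Or.inl rfl, by simpa using hf, by simpa using h2⟩
    · exact ⟨c 0, Or.inr rfl, hfc f hf 0, h2⟩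
  obtain ⟨v2, hv2, h2⟩ : ∃ v2, (v2 = 1 ∨ v2 = c 1) ∧ ∀ x ∈ K 2, (f * v1 * v2) * x = x * (f * v1 * v2) := by
    rcases act 2 _ h1 with h2 | h2
    · exact ⟨1, Or.inl rfl, by simpa using h2⟩
    · exact ⟨c 1, Or.inr rfl, h2⟩
  have h3 : ∀ x ∈ K 1, (f * v1 * v2) * x = x * (f * v1 * v2) := by
    intro x hx
    rcases hv2 with rfl | rfl
    · simpa using h1' x hx
    · rw [mul_assoc, (h.b3 1).c_comm x hx, ← mul_assoc, h1' x hx, mul_assoc]
  have h4 : ∀ x ∈ K 0, (f * v1 * v2) * x = x * (f * v1 * v2) := by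
    obtain ⟨k, hk, h5⟩ := h.conj02
    intro x hx
    rw [h5, mem_cj] at hx
    have h6 := h2 _ hx
    have h7 := h3 k hk
    have h8 := h3 k⁻¹ (inv_mem hk)
    calc (f * v1 * v2) * x = (f * v1 * v2) * k * (k⁻¹ * x * k) * k⁻¹ := by group
      _ = k * ((f * v1 * v2) * (k⁻¹ * x * k)) * k⁻¹ := by rw [h7]; group
      _ = k * (k⁻¹ * x * k) * ((f * v1 * v2) * k⁻¹) := by rw [h6]; group
      _ = x * (f * v1 * v2) := by rw [h8]; group
  have h5 : ∀ i, ∀ x ∈ K i, (f * (v1 * v2)) * x = x * (f * (v1 * v2)) := by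
    rw [← mul_assoc]
    intro i
    fin_cases i
    · exact h4
    · exact h3
    · exact h2
  refine ⟨v1 * v2, ?_, h5⟩
  have e : c 0 * c 1 = c 2 := by
    have h6 := (h.b3 2).z_orth (1, -1, 0) (1, 1, 0) (by decide) (by decide) (by decide)
    have e1 : z 2 (1, -1, 0) = c 0 := h.z1 2
    have e2 : z 2 (1, 1, 0) = c 1 := h.z2 2
    rwa [e1, e2] at h6
  rcases hv1 with rfl | rfl <;> rcases hv2 with rfl | rfl
  · exact Or.inl (one_mul 1)
  · exact Or.inr ⟨1, one_mul _⟩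
  · exact Or.inr ⟨0, mul_one _⟩
  · exact Or.inr ⟨2, e⟩

end Tri

/-- with common root groups -/
structure NTri (F : Type) [Field F] [Fintype F] (K : Fin 3 → Subgroup G) (c : Fin 3 → G)
    (X : Fin 3 → V → Subgroup G) (z : Fin 3 → V → G) : Prop extends Tri F K c X z where
  s1 : ∀ i, X i (1, -1, 0) = X (i + 1) (0, 0, 1)
  s1' : ∀ i, X i (-1, 1, 0) = X (i + 1) (0, 0, -1)
  s2 : ∀ i, X i (1, 1, 0) = X (i + 2) (0, 0, 1)
  s2' : ∀ i, X i (-1, -1, 0) = X (i + 2) (0, 0, -1)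

theorem Tri.normalise (h : Tri F K c X z) : ∃ X' z', NTri F K c X' z' := by
  have hex : ∀ i, ∃ g ∈ K i, cj g (X i (1, -1, 0)) = X (i + 1) (0, 0, 1) ∧
      cj g (X i (-1, 1, 0)) = X (i + 1) (0, 0, -1) ∧ cj g (X i (1, 1, 0)) = X (i + 2) (0, 0, 1) ∧
      cj g (X i (-1, -1, 0)) = X (i + 2) (0, 0, -1) ∧ cj g (X i (0, 0, 1)) = X i (0, 0, 1) ∧
      cj g (X i (0, 0, -1)) = X i (0, 0, -1) := by
    intro i
    have e1 : -((1, -1, 0) : V) = (-1, 1, 0) := by decide
    have e2 : -((1, 1, 0) : V) = (-1, -1, 0) := by decide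
    have e3 : -((0, 0, 1) : V) = (0, 0, -1) := by decide
    have H := h.b3 i
    have l1 : X (i + 1) (0, 0, 1) ≤ JJ (X i) (1, -1, 0) := by rw [h.j1]; exact B3.le_JJ _
    have l1' : X (i + 1) (0, 0, -1) ≤ JJ (X i) (1, -1, 0) := by
      rw [h.j1, ← e3]; exact B3.neg_le_JJ _
    have l2 : X (i + 2) (0, 0, 1) ≤ JJ (X i) (1, 1, 0) := by rw [h.j2]; exact B3.le_JJ _
    have l2' : X (i + 2) (0, 0, -1) ≤ JJ (X i) (1, 1, 0) := by
      rw [h.j2, ← e3]; exact B3.neg_le_JJ _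
    have m1' : X i (-1, 1, 0) ≤ JJ (X i) (1, -1, 0) := by rw [← e1]; exact B3.neg_le_JJ _
    have m2' : X i (-1, -1, 0) ≤ JJ (X i) (1, 1, 0) := by rw [← e2]; exact B3.neg_le_JJ _
    obtain ⟨a, ha, a1, a2⟩ := two_trans (H.sl (1, -1, 0) (by decide)) (B3.le_JJ _) m1' l1 l1'
      (H.natcard (by decide)) (H.natcard (by decide)) ((h.b3 (i + 1)).natcard (by decide))
      ((h.b3 (i + 1)).natcard (by decide)) (by rw [← e1]; exact H.X_ne (by decide))
      (by rw [← e3]; exact (h.b3 (i + 1)).X_ne (by decide))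
    obtain ⟨b, hb, b1, b2⟩ := two_trans (H.sl (1, 1, 0) (by decide)) (B3.le_JJ _) m2' l2 l2'
      (H.natcard (by decide)) (H.natcard (by decide)) ((h.b3 (i + 2)).natcard (by decide))
      ((h.b3 (i + 2)).natcard (by decide)) (by rw [← e2]; exact H.X_ne (by decide))
      (by rw [← e3]; exact (h.b3 (i + 2)).X_ne (by decide))
    have c01 := H.JJ_comm (u := (1, -1, 0)) (v := (0, 0, 1)) (by decide) (by decide) (by decide) (by decide)
      (by decide) (by decide)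
    have c02 := H.JJ_comm (u := (1, 1, 0)) (v := (0, 0, 1)) (by decide) (by decide) (by decide) (by decide)
      (by decide) (by decide)
    have c12 := H.JJ_comm (u := (1, -1, 0)) (v := (1, 1, 0)) (by decide) (by decide) (by decide) (by decide)
      (by decide) (by decide)
    have ca : ∀ A : Subgroup G, A ≤ JJ (X i) (0, 0, 1) ∨ A ≤ JJ (X i) (1, 1, 0) → cj a A = A := by
      rintro A (hA | hA)
      · exact cj_eq_of_comm fun x hx => c01 a ha x (hA hx)
      · exact cj_eq_of_comm fun x hx => c12 a ha x (hA hx)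
    have cb : ∀ A : Subgroup G, A ≤ JJ (X i) (0, 0, 1) ∨ A ≤ JJ (X i) (1, -1, 0) → cj b A = A := by
      rintro A (hA | hA)
      · exact cj_eq_of_comm fun x hx => c02 b hb x (hA hx)
      · exact cj_eq_of_comm fun x hx => (c12 x (hA hx) b hb).symm
    have m0' : X i (0, 0, -1) ≤ JJ (X i) (0, 0, 1) := by rw [← e3]; exact B3.neg_le_JJ _
    refine ⟨a * b, mul_mem (H.JJ_le (by decide) ha) (H.JJ_le (by decide) hb), ?_, ?_, ?_, ?_, ?_, ?_⟩
    · rw [cj_mul, cb _ (Or.inr (B3.le_JJ _)), a1]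
    · rw [cj_mul, cb _ (Or.inr m1'), a2]
    · rw [cj_mul, b1, ca _ (Or.inr l2)]
    · rw [cj_mul, b2, ca _ (Or.inr l2')]
    · rw [cj_mul, cb _ (Or.inl (B3.le_JJ _)), ca _ (Or.inl (B3.le_JJ _))]
    · rw [cj_mul, cb _ (Or.inl m0'), ca _ (Or.inl m0')]
  choose g hg g1 g1' g2 g2' g0 g0' using hex
  have e1 : -((1, -1, 0) : V) = (-1, 1, 0) := by decide
  have e2 : -((1, 1, 0) : V) = (-1, -1, 0) := by decide
  have e3 : -((0, 0, 1) : V) = (0, 0, -1) := by decide
  refine ⟨fun i v => cj (g i) (X i v), fun i v => g i * z i v * (g i)⁻¹, ⟨fun i => ?_, fun i => ?_, fun i => ?_⟩,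
    fun i => ?_, fun i => ?_, fun i => ?_, fun i => ?_⟩
  · have h1 := (h.full i).conj (g i)
    rwa [cj_eq_of_mem (hg i), (h.b3 i).c_comm' (hg i)] at h1
  · unfold JJ
    rw [e1, e3]
    change cj (g i) (X i (1, -1, 0)) ⊔ cj (g i) (X i (-1, 1, 0)) =
      cj (g (i + 1)) (X (i + 1) (0, 0, 1)) ⊔ cj (g (i + 1)) (X (i + 1) (0, 0, -1))
    rw [g1, g1', g0, g0']
  · unfold JJ
    rw [e2, e3]
    change cj (g i) (X i (1, 1, 0)) ⊔ cj (g i) (X i (-1, -1, 0)) =
      cj (g (i + 2)) (X (i + 2) (0, 0, 1)) ⊔ cj (g (i + 2)) (X (i + 2) (0, 0, -1))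
    rw [g2, g2', g0, g0']
  · rw [g1, g0]
  · rw [g1', g0']
  · rw [g2, g0]
  · rw [g2', g0']

namespace NTri

/-- `z j (1,0,1)` inverts the common root groups -/
theorem inv_common (h : NTri F K c X z) (i j : Fin 3) :
    (∀ x ∈ X i (0, 0, 1), z j (1, 0, 1) * x * (z j (1, 0, 1))⁻¹ = x⁻¹) ∧
      (∀ x ∈ X i (0, 0, -1), z j (1, 0, 1) * x * (z j (1, 0, 1))⁻¹ = x⁻¹) := by
  have H := h.b3 j
  have := fin3 i j
  rcases this with rfl | rfl | rfl
  · exact ⟨H.inverts (by decide) (by decide) (by decide), H.inverts (by decide) (by decide) (by decide)⟩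
  · rw [← h.s1, ← h.s1']
    exact ⟨H.inverts (by decide) (by decide) (by decide), H.inverts (by decide) (by decide) (by decide)⟩
  · rw [← h.s2, ← h.s2']
    exact ⟨H.inverts (by decide) (by decide) (by decide), H.inverts (by decide) (by decide) (by decide)⟩

/-- `z 0 (1,0,1) * z j b` centralises all `K i` -/
theorem step3 (h : NTri F K c X z) (j : Fin 3) :
    ∃ b, IsB b ∧ ∀ i, ∀ x ∈ K i, (z 0 (1, 0, 1) * z j b) * x = x * (z 0 (1, 0, 1) * z j b) := by
  have H := h.b3 j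
  have h1 : ∀ i, ∀ x ∈ JJ (X i) (0, 0, 1), (z 0 (1, 0, 1) * z j (1, 0, 1)) * x =
      x * (z 0 (1, 0, 1) * z j (1, 0, 1)) := by
    intro i
    have key : ∀ A : Subgroup G, (∀ x ∈ A, z 0 (1, 0, 1) * x * (z 0 (1, 0, 1))⁻¹ = x⁻¹) →
        (∀ x ∈ A, z j (1, 0, 1) * x * (z j (1, 0, 1))⁻¹ = x⁻¹) →
        A ≤ centralizer ({z 0 (1, 0, 1) * z j (1, 0, 1)} : Set G) := by
      intro A hA1 hA2 x hx
      rw [mem_centralizer_singleton_iff]
      have e1 := hA2 x hx
      have e2 := hA1 _ (inv_mem hx)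
      have e3 : z 0 (1, 0, 1) * z j (1, 0, 1) * x * (z j (1, 0, 1))⁻¹ * (z 0 (1, 0, 1))⁻¹ = x := by
        calc z 0 (1, 0, 1) * z j (1, 0, 1) * x * (z j (1, 0, 1))⁻¹ * (z 0 (1, 0, 1))⁻¹
            = z 0 (1, 0, 1) * (z j (1, 0, 1) * x * (z j (1, 0, 1))⁻¹) * (z 0 (1, 0, 1))⁻¹ := by group
          _ = x := by rw [e1, e2, inv_inv]
      calc x * (z 0 (1, 0, 1) * z j (1, 0, 1))
          = (z 0 (1, 0, 1) * z j (1, 0, 1) * x * (z j (1, 0, 1))⁻¹ * (z 0 (1, 0, 1))⁻¹) *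
            (z 0 (1, 0, 1) * z j (1, 0, 1)) := by rw [e3]
        _ = z 0 (1, 0, 1) * z j (1, 0, 1) * x := by group
    have h2 : JJ (X i) (0, 0, 1) ≤ centralizer ({z 0 (1, 0, 1) * z j (1, 0, 1)} : Set G) :=
      sup_le (key _ (h.inv_common i 0).1 (h.inv_common i j).1) (key _ (h.inv_common i 0).2 (h.inv_common i j).2)
    intro x hx
    exact (mem_centralizer_singleton_iff.1 (h2 hx)).symm
  obtain ⟨v, hv, h2⟩ := h.cent h1
  obtain ⟨b, hb, h3⟩ : ∃ b, IsB b ∧ z j (1, 0, 1) * v = z j b := by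
    have sq := H.z_sq (v := (1, 0, 1)) (by decide)
    rcases hv with rfl | ⟨i, rfl⟩
    · exact ⟨(1, 0, 1), Or.inl rfl, mul_one _⟩
    · have := fin3 i j
      rcases this with rfl | rfl | rfl
      · refine ⟨(1, 0, -1), Or.inr (Or.inl rfl), ?_⟩
        have e := H.z_orth (1, 0, 1) (1, 0, -1) (by decide) (by decide) (by decide)
        rw [← e, ← mul_assoc, sq, one_mul]
      · refine ⟨(0, 1, 1), Or.inr (Or.inr (Or.inl rfl)), ?_⟩
        have e : z j (1, -1, 0) * z j (0, 1, 1) = z j (1, 0, 1) :=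
          H.z_add (1, -1, 0) (0, 1, 1) (by decide) (by decide) (by decide)
        rw [← h.z1 j, ← H.z_inv (v := (1, 0, 1)) (by decide), ← e, _root_.mul_inv_rev, H.z_inv (by decide),
          H.z_inv (by decide), mul_assoc, H.z_sq (by decide), mul_one]
      · refine ⟨(0, 1, -1), Or.inr (Or.inr (Or.inr rfl)), ?_⟩
        have e : z j (1, 1, 0) * z j (0, -1, 1) = z j (1, 0, 1) :=
          H.z_add (1, 1, 0) (0, -1, 1) (by decide) (by decide) (by decide)
        have e' : z j (0, -1, 1) = z j (0, 1, -1) := by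
          have e0 := H.z_neg (0, 1, -1) (by decide)
          rwa [show (-((0, 1, -1) : V)) = (0, -1, 1) by decide] at e0
        rw [e'] at e
        rw [← h.z2 j, ← H.z_inv (v := (1, 0, 1)) (by decide), ← e, _root_.mul_inv_rev, H.z_inv (by decide),
          H.z_inv (by decide), mul_assoc, H.z_sq (by decide), mul_one]
  refine ⟨b, hb, ?_⟩
  rw [← h3, ← mul_assoc]
  exact h2

end NTri

end Cfsg.Agent.OddHalf.NI3.Sol
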