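import Cfsg.Agent.OddHalf.NI3.Sol.Glue
import Cfsg.Agent.OddHalf.NI3.Sol.EndOf

/-!
# Solomon's configuration: the group `K_w` and the end

`w = z 0 (1,0,1)`, `n0 ∈ K 0` the Weyl element of `(0,1,1)`, `L = n0 K₁ n0⁻¹` with the chart `Y = n0 X₁ n0⁻¹`.
-/

set_option autoImplicit false
set_option linter.unusedSectionVars false
set_option linter.unusedVariables false

namespace Cfsg.Agent.OddHalf.NI3.Sol

open Subgroup Matrix
open Cfsg.Agent.OddHalf.NI (CompIn)

variable {G : Type*} [Group G] {F : Type} [Field F] [Fintype F]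

theorem IsB.isL {b : V} (h : IsB b) : IsL b := by
  rcases h with rfl | rfl | rfl | rfl <;> decide

theorem Full.sb {K : Subgroup G} {c : G} {X : V → Subgroup G} {z : V → G} (h : Full F K c X z) {v u : V} (hv : IsL v)
    (hu : IsR u) (h1 : u = v ∨ dot u v = 0) : Sb (JJ X u) (K ⊓ centralizer ({z v} : Set G)) := by
  refine ⟨le_inf (h.b3.JJ_le hu) ?_, h.ss v hv u hu h1⟩
  have key : ∀ v ∈ longL, ∀ u ∈ shortL ++ longL, (u = v ∨ dot u v = 0) → Even (pr u v) ∧ Even (pr (-u) v) := by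
    decide
  have h2 := key v hv u hu.mem h1
  refine sup_le ?_ ?_
  · intro x hx
    rw [mem_centralizer_singleton_iff]
    exact (h.b3.z_even u v hu hv.isR h2.1 x hx).symm
  · intro x hx
    rw [mem_centralizer_singleton_iff]
    exact (h.b3.z_even (-u) v hu.neg hv.isR h2.2 x hx).symm

variable {K : Fin 3 → Subgroup G} {c : Fin 3 → G} {X : Fin 3 → V → Subgroup G} {z : Fin 3 → V → G}

/-- `τ j` : the root of chart `0` with `z 0 (τ j) = c j`; `ρ j` : the root of chart `j` with `z j (ρ j) = c 0`;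
`ρ' j` : the third one. -/
def tau (j : Fin 3) : V := if j = 1 then (1, -1, 0) else (1, 1, 0)

def rho (j : Fin 3) : V := if j = 1 then (1, 1, 0) else (1, -1, 0)

namespace NTri

/-- the data around `w` -/
structure W (F : Type) [Field F] [Fintype F] (K : Fin 3 → Subgroup G) (c : Fin 3 → G)
    (X : Fin 3 → V → Subgroup G) (z : Fin 3 → V → G) (n0 : G) : Prop where
  tri : NTri F K c X z
  mem : n0 ∈ JJ (X 0) (0, 1, 1)
  act : ∀ u, IsR u → cj n0 (X 0 u) = X 0 (refl (0, 1, 1) u)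

namespace W

variable {n0 : G}

theorem b3 (h : W F K c X z n0) (i : Fin 3) : B3 F (K i) (c i) (X i) (z i) := h.tri.b3 i

theorem memK (h : W F K c X z n0) : n0 ∈ K 0 := (h.b3 0).JJ_le (by decide) h.mem

theorem c1 (h : W F K c X z n0) : z 0 (1, -1, 0) = c 1 := h.tri.z1 0

theorem c2 (h : W F K c X z n0) : z 0 (1, 1, 0) = c 2 := h.tri.z2 0

theorem ctau (h : W F K c X z n0) {j : Fin 3} (hj : j = 1 ∨ j = 2) : z 0 (tau j) = c j := by
  rcases hj with rfl | rfl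
  · exact h.c1
  · exact h.c2

theorem crho (h : W F K c X z n0) {j : Fin 3} (hj : j = 1 ∨ j = 2) : z j (rho j) = c 0 := by
  rcases hj with rfl | rfl
  · exact h.tri.z2 1
  · exact h.tri.z1 2

theorem JJrho (h : W F K c X z n0) {j : Fin 3} (hj : j = 1 ∨ j = 2) :
    JJ (X j) (rho j) = JJ (X 0) (0, 0, 1) := by
  rcases hj with rfl | rfl
  · exact h.tri.j2 1
  · exact h.tri.j1 2

/-- `n0 c₁ n0⁻¹ = w` -/
theorem n0c1 (h : W F K c X z n0) : n0 * c 1 * n0⁻¹ = z 0 (1, 0, 1) := by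
  rw [← h.c1]
  exact (h.b3 0).zconj (h.b3 0) (by decide) (by decide) (weyl_JJ h.act (by decide))

theorem n0w (h : W F K c X z n0) : n0 * z 0 (1, 0, 1) * n0⁻¹ = c 1 := by
  rw [← h.c1]
  exact (h.b3 0).zconj (h.b3 0) (by decide) (by decide) (weyl_JJ h.act (by decide))

theorem n0c0 (h : W F K c X z n0) : n0 * c 0 * n0⁻¹ = c 0 := (h.b3 0).c_comm' h.memK

theorem full (h : W F K c X z n0) :
    Full F (cj n0 (K 1)) (z 0 (1, 0, 1)) (fun v => cj n0 (X 1 v)) (fun v => n0 * z 1 v * n0⁻¹) := by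
  have h1 := (h.tri.full 1).conj n0
  rwa [h.n0c1] at h1

/-- `c 0 = z_Y (1,1,0)` -/
theorem zY (h : W F K c X z n0) : n0 * z 1 (1, 1, 0) * n0⁻¹ = c 0 := by
  have e : z 1 (1, 1, 0) = c 0 := h.tri.z2 1
  rw [e, h.n0c0]

theorem c0_mem (h : W F K c X z n0) : c 0 ∈ cj n0 (K 1) := by
  rw [← h.n0c0, conj_mem_cj]
  exact h.tri.J_le 1 0 (h.tri.c_mem_J 0)

theorem w_ne (h : W F K c X z n0) : z 0 (1, 0, 1) ≠ 1 := by
  intro e
  have := (h.b3 0).z_order (1, 0, 1) (by decide)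
  rw [e, orderOf_one] at this
  omega

/-- **Step 4** : `c j * e = z_Y β`, `z j b = w d`, `e` centralises `K 0` and `L`, `d` centralises all `K i`. -/
structure S4 (K : Fin 3 → Subgroup G) (c : Fin 3 → G) (X : Fin 3 → V → Subgroup G) (z : Fin 3 → V → G) (n0 : G)
    (j : Fin 3) (b β : V) (d e : G) : Prop where
  hj : j = 1 ∨ j = 2
  hb : IsB b
  hβ : IsB β ∨ IsB (-β)
  hd : ∀ i, ∀ x ∈ K i, d * x = x * d
  he : ∀ x ∈ K 0, e * x = x * e
  heL : ∀ x ∈ cj n0 (K 1), e * x = x * e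
  zb : z j b = z 0 (1, 0, 1) * d
  zβ : n0 * z 1 β * n0⁻¹ = c j * e

theorem exists_n (h : W F K c X z n0) {j : Fin 3} (hj : j = 1 ∨ j = 2) {b : V} (hb : IsB b) :
    ∃ n ∈ K j, cj n (JJ (X j) (rho j)) = JJ (X j) b ∧ cj n (JJ (X j) (0, 0, 1)) = JJ (X j) (sh b) ∧
      cj n (JJ (X j) (ol (rho j))) = JJ (X j) (ol b) := by
  have key : ∀ j : Fin 3, j = 1 ∨ j = 2 → ∀ b ∈ [((1, 0, 1) : V), (1, 0, -1), (0, 1, 1), (0, 1, -1)],
      ∃ u ∈ longL, (refl u (rho j) = b ∨ refl u (rho j) = -b) ∧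
        (refl u (0, 0, 1) = sh b ∨ refl u (0, 0, 1) = -sh b) ∧
        (refl u (ol (rho j)) = ol b ∨ refl u (ol (rho j)) = -ol b) := by decide
  have hb' : b ∈ [((1, 0, 1) : V), (1, 0, -1), (0, 1, 1), (0, 1, -1)] := by
    rcases hb with rfl | rfl | rfl | rfl <;> decide
  obtain ⟨u, hu, h1, h2, h3⟩ := key j hj b hb'
  obtain ⟨n, hn, hact⟩ := (h.b3 j).weyl u (Or.inr hu)
  have cast : ∀ {v v' : V}, v = v' ∨ v = -v' → JJ (X j) v = JJ (X j) v' := by
    rintro v v' (rfl | rfl)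
    · rfl
    · exact JJ_neg _
  have hr : IsR (rho j) ∧ IsR (ol (rho j)) := by rcases hj with rfl | rfl <;> decide
  refine ⟨n, (h.b3 j).JJ_le (Or.inr hu) hn, ?_, ?_, ?_⟩
  · rw [weyl_JJ hact hr.1]; exact cast h1
  · rw [weyl_JJ hact (by decide)]; exact cast h2
  · rw [weyl_JJ hact hr.2]; exact cast h3

/-- the third `J` -/
theorem JJol (h : W F K c X z n0) {j : Fin 3} (hj : j = 1 ∨ j = 2) :
    JJ (X j) (ol (rho j)) = JJ (X 0) (ol (tau j)) := by
  rcases hj with rfl | rfl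
  · change JJ (X 1) (1, -1, 0) = JJ (X 0) (1, 1, 0)
    rw [h.tri.j1 1, h.tri.j2 0]; rfl
  · change JJ (X 2) (1, 1, 0) = JJ (X 0) (1, -1, 0)
    rw [h.tri.j2 2, h.tri.j1 0]; rfl

theorem JJtau (h : W F K c X z n0) {j : Fin 3} (hj : j = 1 ∨ j = 2) :
    JJ (X j) (0, 0, 1) = JJ (X 0) (tau j) := by
  rcases hj with rfl | rfl
  · exact (h.tri.j1 0).symm
  · exact (h.tri.j2 0).symm

theorem step4 (h : W F K c X z n0) {j : Fin 3} {b β : V} {d e : G} (s : S4 K c X z n0 j b β d e) :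
    ∃ n ∈ K j, cj n (K 0) = cj n0 (K 1) ∧ cj n (JJ (X j) (rho j)) = JJ (X j) b ∧
      cj n (JJ (X j) (0, 0, 1)) = JJ (X j) (sh b) ∧ cj n (JJ (X j) (ol (rho j))) = JJ (X j) (ol b) := by
  obtain ⟨n, hn, n1, n2, n3⟩ := h.exists_n s.hj s.hb
  refine ⟨n, hn, ?_, n1, n2, n3⟩
  have hbR := s.hb.isL.isR
  -- `M = n K₀ n⁻¹` is a component of `C(w d)`
  have hM := CompIn.cj' (h.tri.full 0).comp n
  rw [cj_centralizer_singleton] at hM
  have hrR : IsR (rho j) := by rcases s.hj with rfl | rfl <;> decide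
  have h1 : n * c 0 * n⁻¹ = z 0 (1, 0, 1) * d := by
    rw [← s.zb, ← h.crho s.hj]
    exact (h.b3 j).zconj (h.b3 j) hrR hbR n1
  rw [h1] at hM
  have hL := h.full.comp
  -- both in `C(w) ∩ C(d)`
  have hdM : ∀ x ∈ cj n (K 0), d * x = x * d := by
    intro x hx
    rw [mem_cj] at hx
    have e1 := s.hd 0 _ hx
    have e2 := s.hd j n hn
    have e3 := s.hd j n⁻¹ (inv_mem hn)
    calc d * x = d * n * (n⁻¹ * x * n) * n⁻¹ := by group
      _ = n * (d * (n⁻¹ * x * n)) * n⁻¹ := by rw [e2]; group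
      _ = n * (n⁻¹ * x * n) * (d * n⁻¹) := by rw [e1]; group
      _ = x * d := by rw [e3]; group
  have hdL : ∀ x ∈ cj n0 (K 1), d * x = x * d := by
    intro x hx
    rw [mem_cj] at hx
    have e1 := s.hd 1 _ hx
    have e2 := s.hd 0 n0 h.memK
    have e3 := s.hd 0 n0⁻¹ (inv_mem h.memK)
    calc d * x = d * n0 * (n0⁻¹ * x * n0) * n0⁻¹ := by group
      _ = n0 * (d * (n0⁻¹ * x * n0)) * n0⁻¹ := by rw [e2]; group
      _ = n0 * (n0⁻¹ * x * n0) * (d * n0⁻¹) := by rw [e1]; group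
      _ = x * d := by rw [e3]; group
  set w := z 0 (1, 0, 1) with hw
  set D := centralizer ({w} : Set G) ⊓ centralizer ({d} : Set G) with hD
  have hD2 : D ≤ centralizer ({w * d} : Set G) := by
    intro x hx
    rw [hD, mem_inf, mem_centralizer_singleton_iff, mem_centralizer_singleton_iff] at hx
    rw [mem_centralizer_singleton_iff, ← mul_assoc, hx.1, mul_assoc, hx.2, mul_assoc]
  have hML : cj n (K 0) ≤ D := by
    intro x hx
    have e1 := mem_centralizer_singleton_iff.1 (hM.le hx)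
    have e2 := hdM x hx
    rw [hD, mem_inf, mem_centralizer_singleton_iff, mem_centralizer_singleton_iff]
    refine ⟨?_, e2.symm⟩
    have e3 : x * w * d = w * x * d := by
      calc x * w * d = x * (w * d) := by group
        _ = w * (d * x) := by rw [e1]; group
        _ = w * x * d := by rw [e2]; group
    exact mul_right_cancel e3
  have hLL : cj n0 (K 1) ≤ D := le_inf hL.le fun x hx => mem_centralizer_singleton_iff.2 (hdL x hx).symm
  by_contra hne
  have hc := (hM.mono hML hD2).comm (hL.mono hLL inf_le_left) hne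
  -- `c 0 ∈ L` inverts `X j b ≤ M`
  have hXb : X j b ≤ cj n (K 0) := by
    refine (B3.le_JJ b).trans ?_
    rw [← n1, h.JJrho s.hj]
    exact cj_mono n (h.tri.J_le 0 0)
  have hinv : ∀ x ∈ X j b, c 0 * x * (c 0)⁻¹ = x⁻¹ := by
    rw [← h.crho s.hj]
    refine (h.b3 j).inverts hbR hrR ?_
    rcases s.hj with rfl | rfl <;> rcases s.hb with rfl | rfl | rfl | rfl <;> decide
  refine (h.b3 j).not_cent_of_inv hbR hinv fun x hx => ?_
  exact mem_centralizer_iff.1 (hc (hXb hx)) (c 0) h.c0_mem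

/-- the three `n J_i n⁻¹` are `JJ Y u`, `u = β` or orthogonal to `β` -/
theorem step4' (h : W F K c X z n0) {j : Fin 3} {b β : V} {d e : G} (s : S4 K c X z n0 j b β d e) {n : G}
    (hn : n ∈ K j) (hL : cj n (K 0) = cj n0 (K 1)) {u0 : V} (hu0 : IsR u0) (h0 : u0 = tau j ∨ dot u0 (tau j) = 0) :
    ∃ u, IsR u ∧ (u = β ∨ dot u β = 0) ∧ cj n (JJ (X 0) u0) = JJ (fun v => cj n0 (X 1 v)) u := by
  have hτ : IsL (tau j) := by rcases s.hj with rfl | rfl <;> decide
  have h1 := ((h.tri.full 0).sb hτ hu0 h0).cj n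
  have hβ : IsL β := by
    rcases s.hβ with h2 | h2
    · exact h2.isL
    · have := h2.isL
      have key : ∀ v ∈ longL, IsL (-v) := by decide
      have h3 := key _ this
      rwa [neg_neg] at h3
  have h2 : cj n (K 0 ⊓ centralizer ({z 0 (tau j)} : Set G)) =
      cj n0 (K 1) ⊓ centralizer ({n0 * z 1 β * n0⁻¹} : Set G) := by
    rw [cj_inf_cent, hL, h.ctau s.hj, (h.b3 j).c_comm' hn, s.zβ]
    ext x
    simp only [mem_inf, mem_centralizer_singleton_iff]
    refine and_congr_right fun hx => ?_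
    have e1 := s.heL x hx
    constructor
    · intro e2
      rw [← mul_assoc, e2, mul_assoc, ← e1, mul_assoc]
    · intro e2
      have e3 : x * c j * e = c j * x * e := by
        rw [mul_assoc, e2, mul_assoc, e1, mul_assoc]
      exact mul_right_cancel e3
  rw [h2] at h1
  obtain ⟨f⟩ := (h.b3 0).sl u0 hu0
  exact h.full.uu β hβ _ h1.1 h1.2 ⟨((JJ (X 0) u0).equivMapOfInjective _ (MulAut.conj n).injective).symm.trans f⟩

/-- `w` does not act on `K 0` as `c j` -/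
theorem no_w (h : W F K c X z n0) {j : Fin 3} (hj : j = 1 ∨ j = 2) {t : G} (ht : ∀ x ∈ K 0, t * x = x * t)
    (e : z 0 (1, 0, 1) = c j * t) : False := by
  have hτ : IsR (tau j) := by rcases hj with rfl | rfl <;> decide
  have h1 : ∀ x ∈ X 0 (tau j), z 0 (1, 0, 1) * x * (z 0 (1, 0, 1))⁻¹ = x⁻¹ := by
    refine (h.b3 0).inverts hτ (by decide) ?_
    rcases hj with rfl | rfl <;> decide
  refine (h.b3 0).not_cent_of_inv hτ h1 fun x hx => ?_
  rw [e, mul_assoc, ht x ((h.b3 0).le _ hτ hx), ← mul_assoc, ← h.ctau hj,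
    (h.b3 0).z_even (tau j) (tau j) hτ hτ (by rw [pr_self hτ]; decide) x hx, mul_assoc]

/-- `c j` does not centralise `K 0` -/
theorem no_c (h : W F K c X z n0) {j : Fin 3} (hj : j = 1 ∨ j = 2) (ht : ∀ x ∈ K 0, c j * x = x * c j) : False := by
  have hτ : IsR (tau j) := by rcases hj with rfl | rfl <;> decide
  have h1 : ∀ x ∈ X 0 (1, 0, 0), c j * x * (c j)⁻¹ = x⁻¹ := by
    rw [← h.ctau hj]
    refine (h.b3 0).inverts (by decide) hτ ?_
    rcases hj with rfl | rfl <;> decide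
  exact (h.b3 0).not_cent_of_inv (by decide) h1 fun x hx => ht x ((h.b3 0).le _ (by decide) hx)

/-- the involution of `JJ Y u` : `w` for `u` short, `c j e` for `u = β`, `w (c j e)⁻¹` for `u` long orthogonal to `β` -/
theorem zYu (h : W F K c X z n0) {j : Fin 3} {b β : V} {d e : G} (s : S4 K c X z n0 j b β d e) {u : V} (hu : IsR u)
    (h1 : u = β ∨ dot u β = 0) :
    (IsS u ∧ dot u β = 0 ∧ n0 * z 1 u * n0⁻¹ = z 0 (1, 0, 1)) ∨ (u = β ∧ n0 * z 1 u * n0⁻¹ = c j * e) ∨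
      (IsL u ∧ dot u β = 0 ∧ (n0 * z 1 u * n0⁻¹) * (c j * e) = z 0 (1, 0, 1)) := by
  have hβ : IsL β := by
    rcases s.hβ with h2 | h2
    · exact h2.isL
    · have := h2.isL
      have key : ∀ v ∈ longL, IsL (-v) := by decide
      have h3 := key _ this
      rwa [neg_neg] at h3
  rcases h1 with rfl | h1
  · exact Or.inr (Or.inl ⟨rfl, s.zβ⟩)
  · rcases hu with hu | hu
    · exact Or.inl ⟨hu, h1, h.full.b3.z_short u hu⟩
    · refine Or.inr (Or.inr ⟨hu, h1, ?_⟩)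
      rw [← s.zβ]
      exact h.full.b3.z_orth u β hu hβ h1

/-- `d = 1` -/
theorem d_one (h : W F K c X z n0) {j : Fin 3} {b β : V} {d e : G} (s : S4 K c X z n0 j b β d e) : d = 1 := by
  obtain ⟨n, hn, hL, n1, -, -⟩ := h.step4 s
  obtain ⟨u, hu, h1, h2⟩ := h.step4' s hn hL (u0 := (0, 0, 1)) (by decide)
    (Or.inr (by rcases s.hj with rfl | rfl <;> decide))
  rw [← h.JJrho s.hj, n1] at h2
  have h3 : z j b = n0 * z 1 u * n0⁻¹ := (h.b3 j).zeq h.full.b3 s.hb.isL.isR hu h2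
  rw [s.zb] at h3
  have hd0 := s.hd 0
  have hd' : ∀ x ∈ K 0, d⁻¹ * x = x * d⁻¹ := by
    intro x hx
    have := hd0 x hx
    calc d⁻¹ * x = d⁻¹ * (x * d) * d⁻¹ := by group
      _ = x * d⁻¹ := by rw [← this]; group
  rcases h.zYu s hu h1 with ⟨-, -, h4⟩ | ⟨-, h4⟩ | ⟨-, -, h4⟩
  · rw [h4] at h3
    exact mul_left_cancel (a := z 0 (1, 0, 1)) (by rw [h3, mul_one])
  · exfalso
    rw [h4] at h3
    refine h.no_w s.hj (t := e * d⁻¹) (fun x hx => ?_) ?_
    · rw [mul_assoc, hd' x hx, ← mul_assoc, s.he x hx, mul_assoc]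
    · rw [← mul_assoc, ← h3]; group
  · exfalso
    rw [← h3] at h4
    -- `w d c_j e = w`
    have h5 : d * (c j * e) = 1 := mul_left_cancel (a := z 0 (1, 0, 1)) (by rw [mul_one, ← mul_assoc, h4])
    have h6 : c j = d⁻¹ * e⁻¹ := by
      calc c j = d⁻¹ * (d * (c j * e)) * e⁻¹ := by group
        _ = d⁻¹ * e⁻¹ := by rw [h5]; group
    refine h.no_c s.hj fun x hx => ?_
    have he' : e⁻¹ * x = x * e⁻¹ := by
      have := s.he x hx
      calc e⁻¹ * x = e⁻¹ * (x * e) * e⁻¹ := by group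
        _ = x * e⁻¹ := by rw [← this]; group
    rw [h6, mul_assoc, he', ← mul_assoc, hd' x hx, mul_assoc]

end W

end NTri

end Cfsg.Agent.OddHalf.NI3.Sol
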