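import Cfsg.Agent.OddHalf.NI3.Sol.Glue2

/-!
# Solomon's configuration: the end

`Tri.false` : there are no three groups `Spin₇(F)` in Solomon's position.
-/

set_option autoImplicit false
set_option linter.unusedSectionVars false
set_option linter.unusedVariables false

namespace Cfsg.Agent.OddHalf.NI3.Sol

open Subgroup Matrix
open Cfsg.Agent.OddHalf.NI (CompIn)

variable {G : Type*} [Group G] {F : Type} [Field F] [Fintype F]
variable {K : Fin 3 → Subgroup G} {c : Fin 3 → G} {X : Fin 3 → V → Subgroup G} {z : Fin 3 → V → G}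

theorem IsBB.isL {β : V} (h : IsB β ∨ IsB (-β)) : IsL β := by
  rcases h with h2 | h2
  · exact h2.isL
  · have := h2.isL
    have key : ∀ v ∈ longL, IsL (-v) := by decide
    have h3 := key _ this
    rwa [neg_neg] at h3

theorem fin12 (i : Fin 3) : i + 1 + 2 = i := by revert i; decide

theorem fin21 (i : Fin 3) : i + 2 + 1 = i := by revert i; decide

theorem JJ_cast {X : V → Subgroup G} {v v' : V} (h : v = v' ∨ v = -v') : JJ X v = JJ X v' := by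
  rcases h with rfl | rfl
  · rfl
  · exact JJ_neg _

namespace NTri

namespace W

variable {n0 : G}

theorem match_JJ (h : W F K c X z n0) {j : Fin 3} {b β : V} (s : S4 K c X z n0 j b β 1 1) :
    JJ (X j) b = JJ (fun v => cj n0 (X 1 v)) (sh β) ∧ JJ (X j) (sh b) = JJ (fun v => cj n0 (X 1 v)) β ∧
      JJ (X j) (ol b) = JJ (fun v => cj n0 (X 1 v)) (ol β) := by
  obtain ⟨n, hn, hL, n1, n2, n3⟩ := h.step4 s
  have hβ := IsBB.isL s.hβ
  have hτ : IsL (tau j) := by rcases s.hj with rfl | rfl <;> decide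
  have hshb : IsS (sh b) := by rcases s.hb with rfl | rfl | rfl | rfl <;> decide
  have holb : IsL (ol b) := by rcases s.hb with rfl | rfl | rfl | rfl <;> decide
  have hwc : z 0 (1, 0, 1) ≠ c j := fun e => h.no_w s.hj (t := 1) (by simp) (by rw [e, mul_one])
  have hc1 : c j ≠ 1 := fun e => h.no_c s.hj (by rw [e]; simp)
  have hcc : c j * c j = 1 := by
    have := pow_orderOf_eq_one (c j)
    rwa [(h.b3 j).c_order, pow_two] at this
  have hww : z 0 (1, 0, 1) * z 0 (1, 0, 1) = 1 := (h.b3 0).z_sq (by decide)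
  have k1 : ∀ β ∈ longL, ∀ u ∈ shortL, dot u β = 0 → (u = sh β ∨ u = -sh β) := by decide
  have k2 : ∀ β ∈ longL, ∀ u ∈ longL, dot u β = 0 → (u = ol β ∨ u = -ol β) := by decide
  refine ⟨?_, ?_, ?_⟩
  · obtain ⟨u, hu, h1, h2⟩ := h.step4' s hn hL (u0 := (0, 0, 1)) (by decide)
      (Or.inr (by rcases s.hj with rfl | rfl <;> decide))
    rw [← h.JJrho s.hj, n1] at h2
    have h3 : z j b = n0 * z 1 u * n0⁻¹ := (h.b3 j).zeq h.full.b3 s.hb.isL.isR hu h2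
    rw [s.zb, mul_one] at h3
    rw [h2]
    rcases h.zYu s hu h1 with ⟨h4, h5, -⟩ | ⟨-, h4⟩ | ⟨-, -, h4⟩
    · exact JJ_cast (k1 β hβ u h4 h5)
    · exact absurd (h3.trans (h4.trans (mul_one _))) hwc
    · rw [← h3, mul_one] at h4
      exact absurd (mul_left_cancel (a := z 0 (1, 0, 1)) (by rw [h4, mul_one])) hc1
  · obtain ⟨u, hu, h1, h2⟩ := h.step4' s hn hL (u0 := tau j) hτ.isR (Or.inl rfl)
    rw [← h.JJtau s.hj, n2] at h2
    have h3 : z j (sh b) = n0 * z 1 u * n0⁻¹ := (h.b3 j).zeq h.full.b3 hshb.isR hu h2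
    rw [(h.b3 j).z_short _ hshb] at h3
    rw [h2]
    rcases h.zYu s hu h1 with ⟨-, -, h4⟩ | ⟨h4, -⟩ | ⟨-, -, h4⟩
    · exact absurd (h3.trans h4).symm hwc
    · rw [h4]
    · rw [← h3, mul_one, hcc] at h4
      exact absurd h4.symm h.w_ne
  · obtain ⟨u, hu, h1, h2⟩ := h.step4' s hn hL (u0 := ol (tau j))
      (by rcases s.hj with rfl | rfl <;> decide) (Or.inr (by rcases s.hj with rfl | rfl <;> decide))
    rw [← h.JJol s.hj, n3] at h2
    have h3 : z j (ol b) = n0 * z 1 u * n0⁻¹ := (h.b3 j).zeq h.full.b3 holb.isR hu h2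
    have h5 : z j b * z j (ol b) = c j := (h.b3 j).z_orth b (ol b) s.hb.isL holb
      (by rcases s.hb with rfl | rfl | rfl | rfl <;> decide)
    rw [s.zb, mul_one, h3] at h5
    rw [h2]
    rcases h.zYu s hu h1 with ⟨-, -, h4⟩ | ⟨-, h4⟩ | ⟨h4, h6, -⟩
    · rw [h4, hww] at h5
      exact absurd h5.symm hc1
    · rw [h4, mul_one] at h5
      exact absurd (mul_right_cancel (b := c j) (by rw [h5, one_mul])) h.w_ne
    · exact JJ_cast (k2 β hβ u h4 h6)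

theorem pr_of (h : W F K c X z n0) {j : Fin 3} (hj : j = 1 ∨ j = 2) {a a' : V} (ha : IsR a) (ha' : IsR a')
    (e : JJ (X j) a = JJ (fun v => cj n0 (X 1 v)) a') (o1 : Odd (pr a (rho j))) (o2 : Odd (pr a' (1, 1, 0))) :
    Pr (fun v => cj n0 (X 1 v)) (X j) a' a := by
  have hrR : IsR (rho j) := by rcases hj with rfl | rfl <;> decide
  have H := h.b3 j
  have HY := h.full.b3
  have i1 : ∀ x ∈ X j a, c 0 * x * (c 0)⁻¹ = x⁻¹ := by
    rw [← h.crho hj]; exact H.inverts ha hrR o1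
  have i2 : ∀ x ∈ X j (-a), c 0 * x * (c 0)⁻¹ = x⁻¹ := by
    rw [← h.crho hj]
    exact H.inverts ha.neg hrR (by rw [pr_neg ha hrR]; exact o1.neg)
  have hY : n0 * z 1 (1, 1, 0) * n0⁻¹ = c 0 := h.zY
  have i3 : cj (c 0) (cj n0 (X 1 a')) = cj n0 (X 1 a') := by
    apply cj_eq_of_inv
    rw [← hY]
    exact HY.inverts ha' (v := (1, 1, 0)) (by decide) o2
  have i4 : cj (c 0) (cj n0 (X 1 (-a'))) = cj n0 (X 1 (-a')) := by
    apply cj_eq_of_inv
    rw [← hY]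
    exact HY.inverts ha'.neg (v := (1, 1, 0)) (by decide) (by rw [pr_neg ha' (by decide)]; exact o2.neg)
  have l1 : cj n0 (X 1 a') ≤ JJ (X j) a := by rw [e]; exact B3.le_JJ (X := fun v => cj n0 (X 1 v)) a'
  have l2 : cj n0 (X 1 (-a')) ≤ JJ (X j) a := by rw [e]; exact B3.neg_le_JJ (X := fun v => cj n0 (X 1 v)) a'
  have u1 := inv_unique H.odd (H.sl a ha) (B3.le_JJ a) (B3.neg_le_JJ a) l1 (H.natcard ha) (H.natcard ha.neg)
    (HY.natcard ha') (H.X_ne ha) i1 i2 i3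
  have u2 := inv_unique H.odd (H.sl a ha) (B3.le_JJ a) (B3.neg_le_JJ a) l2 (H.natcard ha) (H.natcard ha.neg)
    (HY.natcard ha'.neg) (H.X_ne ha) i1 i2 i4
  have hne : cj n0 (X 1 a') ≠ cj n0 (X 1 (-a')) := HY.X_ne ha'
  rcases u1 with u1 | u1 <;> rcases u2 with u2 | u2
  · exact absurd (u1.trans u2.symm) hne
  · exact Or.inl ⟨u1, u2⟩
  · exact Or.inr ⟨u1, u2⟩
  · exact absurd (u1.trans u2.symm) hne

theorem match_Pr (h : W F K c X z n0) {j : Fin 3} {b β : V} (s : S4 K c X z n0 j b β 1 1) :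
    Pr (fun v => cj n0 (X 1 v)) (X j) (sh β) b ∧ Pr (fun v => cj n0 (X 1 v)) (X j) β (sh b) ∧
      Pr (fun v => cj n0 (X 1 v)) (X j) (ol β) (ol b) := by
  obtain ⟨m1, m2, m3⟩ := h.match_JJ s
  have hβ := IsBB.isL s.hβ
  have key : ∀ j : Fin 3, j = 1 ∨ j = 2 → ∀ b ∈ [((1, 0, 1) : V), (1, 0, -1), (0, 1, 1), (0, 1, -1)],
      Odd (pr b (rho j)) ∧ Odd (pr (sh b) (rho j)) ∧ Odd (pr (ol b) (rho j)) ∧ IsR (sh b) ∧ IsR (ol b) := by decide
  have key2 : ∀ b ∈ [((1, 0, 1) : V), (1, 0, -1), (0, 1, 1), (0, 1, -1), (-1, 0, -1), (-1, 0, 1), (0, -1, -1),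
      (0, -1, 1)], Odd (pr b (1, 1, 0)) ∧ Odd (pr (sh b) (1, 1, 0)) ∧ Odd (pr (ol b) (1, 1, 0)) ∧ IsR (sh b) ∧
        IsR (ol b) := by decide
  have hb' : b ∈ [((1, 0, 1) : V), (1, 0, -1), (0, 1, 1), (0, 1, -1)] := by
    rcases s.hb with rfl | rfl | rfl | rfl <;> decide
  have hβ' : β ∈ [((1, 0, 1) : V), (1, 0, -1), (0, 1, 1), (0, 1, -1), (-1, 0, -1), (-1, 0, 1), (0, -1, -1),
      (0, -1, 1)] := by
    rcases s.hβ with h1 | h1
    · rcases h1 with rfl | rfl | rfl | rfl <;> decide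
    · rcases h1 with h1 | h1 | h1 | h1 <;> rw [neg_eq_iff_eq_neg] at h1 <;> rw [h1] <;> decide
  obtain ⟨a1, a2, a3, a4, a5⟩ := key j s.hj b hb'
  obtain ⟨b1, b2, b3, b4, b5⟩ := key2 β hβ'
  exact ⟨h.pr_of s.hj s.hb.isL.isR b4 m1 a1 b2, h.pr_of s.hj a4 hβ.isR m2 a2 b1, h.pr_of s.hj a5 b5 m3 a3 b3⟩

end W

/-- the elements `n i` -/
theorem exists_ni (h : NTri F K c X z) (i : Fin 3) :
    ∃ g : G, (∀ u, IsR u → cj g (X i u) = X i (refl (0, 0, 1) u)) ∧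
      (∀ u, IsR u → cj g (X (i + 1) u) = X (i + 1) (refl (1, 1, 0) u)) ∧
      (∀ u, IsR u → cj g (X (i + 2) u) = X (i + 2) (refl (1, -1, 0) u)) := by
  obtain ⟨n, hn, hact⟩ := (h.b3 i).weyl (0, 0, 1) (by decide)
  have key : ∀ (k : Fin 3) (v : V), IsR v → JJ (X k) v = JJ (X i) (0, 0, 1) → X k v = X i (0, 0, 1) →
      X k (-v) = X i (0, 0, -1) → ∀ u, IsR u → cj n (X k u) = X k (refl v u) := by
    intro k v hv e1 e2 e3 u hu
    obtain ⟨n', hn', hact'⟩ := (h.b3 k).weyl v hv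
    have r1 : refl v v = -v := by
      have key : ∀ v ∈ shortL ++ longL, refl v v = -v := by decide
      exact key v hv.mem
    have r2 : refl v (-v) = v := by rw [refl_neg, r1, neg_neg]
    have a1 : cj n' (X k v) = X k (-v) := by rw [hact' v hv, r1]
    have a2 : cj n' (X k (-v)) = X k v := by rw [hact' _ hv.neg, r2]
    have a3 : cj n (X i (0, 0, 1)) = X i (0, 0, -1) := hact _ (by decide)
    have a4 : cj n (X i (0, 0, -1)) = X i (0, 0, 1) := hact _ (by decide)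
    have t1 : cj (n'⁻¹ * n) (X k v) = X k v := by
      rw [cj_mul, e2, a3, ← e3, ← a1, cj_inv_cj, e2]
    have t2 : cj (n'⁻¹ * n) (X k (-v)) = X k (-v) := by
      rw [cj_mul, e3, a4, ← e2, ← a2, cj_inv_cj, e3]
    have ht : n'⁻¹ * n ∈ JJ (X k) v := mul_mem (inv_mem hn') (by rw [e1]; exact hn)
    have t3 := (h.b3 k).tor v hv _ ht t1 t2 u hu
    calc cj n (X k u) = cj n' (cj (n'⁻¹ * n) (X k u)) := by rw [← cj_mul]; congr 1; group
      _ = X k (refl v u) := by rw [t3, hact' u hu]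
  have f1 := fin12 i
  have f2 := fin21 i
  refine ⟨n, hact, key (i + 1) (1, 1, 0) (by decide) ?_ ?_ ?_, key (i + 2) (1, -1, 0) (by decide) ?_ ?_ ?_⟩
  · rw [h.j2, f1]
  · rw [h.s2, f1]
  · rw [show -((1, 1, 0) : V) = (-1, -1, 0) by decide, h.s2', f1]
  · rw [h.j1, f2]
  · rw [h.s1, f2]
  · rw [show -((1, -1, 0) : V) = (-1, 1, 0) by decide, h.s1', f2]

/-- **Solomon's configuration does not exist.** -/
theorem false (h : NTri F K c X z) : False := by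
  obtain ⟨n0, hn0, hact⟩ := (h.b3 0).weyl (0, 1, 1) (by decide)
  have w : W F K c X z n0 := ⟨h, hn0, hact⟩
  have hww : z 0 (1, 0, 1) * z 0 (1, 0, 1) = 1 := (h.b3 0).z_sq (by decide)
  obtain ⟨b, hb, hd⟩ := h.step3 1
  -- `j = 1`
  have s1 : W.S4 K c X z n0 1 b b (z 0 (1, 0, 1) * z 1 b) (z 0 (1, 0, 1) * z 1 b) := by
    refine ⟨Or.inl rfl, hb, Or.inl hb, hd, hd 0, ?_, ?_, ?_⟩
    · intro x hx
      rw [mem_cj] at hx
      have e1 := hd 1 _ hx
      have e2 := hd 0 n0 w.memK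
      have e3 := hd 0 n0⁻¹ (inv_mem w.memK)
      calc z 0 (1, 0, 1) * z 1 b * x = (z 0 (1, 0, 1) * z 1 b) * n0 * (n0⁻¹ * x * n0) * n0⁻¹ := by group
        _ = n0 * ((z 0 (1, 0, 1) * z 1 b) * (n0⁻¹ * x * n0)) * n0⁻¹ := by rw [e2]; group
        _ = n0 * (n0⁻¹ * x * n0) * ((z 0 (1, 0, 1) * z 1 b) * n0⁻¹) := by rw [e1]; group
        _ = x * (z 0 (1, 0, 1) * z 1 b) := by rw [e3]; group
    · rw [← mul_assoc, hww, one_mul]
    · have e2 := hd 0 n0 w.memK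
      have e4 : z 1 b = z 0 (1, 0, 1) * (z 0 (1, 0, 1) * z 1 b) := by rw [← mul_assoc, hww, one_mul]
      calc n0 * z 1 b * n0⁻¹ = n0 * (z 0 (1, 0, 1) * (z 0 (1, 0, 1) * z 1 b)) * n0⁻¹ := by rw [← e4]
        _ = (n0 * z 0 (1, 0, 1) * n0⁻¹) * (n0 * (z 0 (1, 0, 1) * z 1 b)) * n0⁻¹ := by group
        _ = c 1 * (z 0 (1, 0, 1) * z 1 b) := by rw [w.n0w, ← e2]; group
  have d1 := w.d_one s1
  have s1' : W.S4 K c X z n0 1 b b 1 1 := by rw [d1] at s1; exact s1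
  have hzb : z 1 b = z 0 (1, 0, 1) := by rw [s1'.zb, mul_one]
  obtain ⟨p1, p2, p3⟩ := w.match_Pr s1'
  -- `j = 2`
  obtain ⟨b2, hb2, hd2⟩ := h.step3 2
  have hc12 : c 0 * c 1 = c 2 := by
    have h6 := (h.b3 2).z_orth (1, -1, 0) (1, 1, 0) (by decide) (by decide) (by decide)
    have e1 : z 2 (1, -1, 0) = c 0 := h.z1 2
    have e2 : z 2 (1, 1, 0) = c 1 := h.z2 2
    rwa [e1, e2] at h6
  have hβ : IsB (-(refl (1, 1, 0) b)) := by
    rcases hb with rfl | rfl | rfl | rfl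
    · exact Or.inr (Or.inr (Or.inr (by decide)))
    · exact Or.inr (Or.inr (Or.inl (by decide)))
    · exact Or.inr (Or.inl (by decide))
    · exact Or.inl (by decide)
  have hβL : IsL (refl (1, 1, 0) b) ∧ (1, 1, 0) + refl (1, 1, 0) b = b := by
    rcases hb with rfl | rfl | rfl | rfl <;> decide
  have s2 : W.S4 K c X z n0 2 b2 (refl (1, 1, 0) b) (z 0 (1, 0, 1) * z 2 b2) 1 := by
    refine ⟨Or.inr rfl, hb2, Or.inr hβ, hd2, by simp, by simp, ?_, ?_⟩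
    · rw [← mul_assoc, hww, one_mul]
    · have e1 : z 1 (1, 1, 0) * z 1 (refl (1, 1, 0) b) = z 1 ((1, 1, 0) + refl (1, 1, 0) b) :=
        (h.b3 1).z_add (1, 1, 0) (refl (1, 1, 0) b) (by decide) hβL.1 (by rw [hβL.2]; exact hb.isL)
      have e2 : z 1 (1, 1, 0) = c 0 := h.z2 1
      rw [hβL.2, e2, hzb] at e1
      have hcc : c 0 * c 0 = 1 := by
        have := pow_orderOf_eq_one (c 0)
        rwa [(h.b3 0).c_order, pow_two] at this
      have e3 : z 1 (refl (1, 1, 0) b) = c 0 * z 0 (1, 0, 1) := by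
        rw [← e1, ← mul_assoc, hcc, one_mul]
      calc n0 * z 1 (refl (1, 1, 0) b) * n0⁻¹ = (n0 * c 0 * n0⁻¹) * (n0 * z 0 (1, 0, 1) * n0⁻¹) := by
            rw [e3]; group
        _ = c 2 * 1 := by rw [w.n0c0, w.n0w, hc12, mul_one]
  have d2 := w.d_one s2
  have s2' : W.S4 K c X z n0 2 b2 (refl (1, 1, 0) b) 1 1 := by rw [d2] at s2; exact s2
  obtain ⟨q1, q2, q3⟩ := w.match_Pr s2'
  refine EndData.false (X := X) (Y := fun v => cj n0 (X 1 v)) (b := b) (c := b2)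
    ⟨fun i => (h.b3 i).rel, w.full.b3.rel, fun i => ⟨h.s1 i, h.s1' i⟩, fun i => ⟨h.s2 i, h.s2' i⟩,
      h.exists_ni, hb, hb2, ⟨?_, ?_⟩, ⟨?_, ?_⟩, ⟨?_, ?_⟩, p1, p2, p3, q1, q2, q3⟩
  · have e : X 0 (1, -1, 0) = X 1 (0, 0, 1) := h.s1 0
    change cj n0 (X 1 (0, 0, 1)) = _
    rw [← e]; exact hact _ (by decide)
  · have e : X 0 (-1, 1, 0) = X 1 (0, 0, -1) := h.s1' 0
    change cj n0 (X 1 (0, 0, -1)) = _
    rw [← e]; exact hact _ (by decide)
  · have e : X 1 (1, -1, 0) = X 2 (0, 0, 1) := h.s1 1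
    have e' : X 0 (1, 1, 0) = X 2 (0, 0, 1) := h.s2 0
    change cj n0 (X 1 (1, -1, 0)) = _
    rw [e, ← e']; exact hact _ (by decide)
  · have e : X 1 (-1, 1, 0) = X 2 (0, 0, -1) := h.s1' 1
    have e' : X 0 (-1, -1, 0) = X 2 (0, 0, -1) := h.s2' 0
    change cj n0 (X 1 (-1, 1, 0)) = _
    rw [e, ← e']; exact hact _ (by decide)
  · have e : X 1 (1, 1, 0) = X 0 (0, 0, 1) := h.s2 1
    change cj n0 (X 1 (1, 1, 0)) = _
    rw [e]; exact hact _ (by decide)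
  · have e : X 1 (-1, -1, 0) = X 0 (0, 0, -1) := h.s2' 1
    change cj n0 (X 1 (-1, -1, 0)) = _
    rw [e]; exact hact _ (by decide)

end NTri

/-- **Solomon's configuration does not exist.** -/
theorem Tri.false (h : Tri F K c X z) : False := by
  obtain ⟨X', z', h'⟩ := h.normalise
  exact h'.false

end Cfsg.Agent.OddHalf.NI3.Sol
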