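import Cfsg.Agent.OddHalf.NI3.Sol.Transport

import Cfsg.Agent.LieClassical.SmallIso

/-!
# Solomon's configuration: the final form

`KF F N c d A B A'` : `N` has a chart of type `B₃` over `F` in the position `(c, d, A, B, A')` with all the facts.
`chart_false` : Solomon's configuration does not exist.
-/

set_option autoImplicit false
set_option linter.unusedSectionVars false
set_option linter.unusedVariables false

namespace Cfsg.Agent.OddHalf.NI3.Sol

open Subgroup Matrix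
open Cfsg.Agent.OddHalf.NI (CompIn)

/-- `N` has a chart of type `B₃` over `F` in the position `(c, d, A, B, A')`: `A = JJ X e₃` short, `c` its involution,
`B = JJ X (e₁ + e₂)`, `A' = JJ X (e₁ - e₂)`. -/
def KF (F : Type) [Field F] [Fintype F] (N : Type*) [Group N] (c : N) (A B A' : Subgroup N) : Prop :=
  ∃ (X : V → Subgroup N) (z : V → N), B3 F (⊤ : Subgroup N) c X z ∧ KAut X z ∧ UU F (⊤ : Subgroup N) X z ∧
    SS (⊤ : Subgroup N) X z ∧ JJ X (0, 0, 1) = A ∧ JJ X (1, 1, 0) = B ∧ JJ X (1, -1, 0) = A'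

theorem card_eq_of_sl {F F' : Type} [Field F] [Fintype F] [Field F'] [Fintype F']
    (e : Matrix.SpecialLinearGroup (Fin 2) F ≃* Matrix.SpecialLinearGroup (Fin 2) F') :
    Fintype.card F = Fintype.card F' := by
  have h := Nat.card_congr e.toEquiv
  rw [LieClassical.SmallIso.card_sl_two, LieClassical.SmallIso.card_sl_two] at h
  have h1 : 1 < Fintype.card F := Fintype.one_lt_card
  have h2 : 1 < Fintype.card F' := Fintype.one_lt_card
  set q := Fintype.card F
  set q' := Fintype.card F'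
  have key : ∀ a b : ℕ, 1 < a → a < b → a * (a ^ 2 - 1) < b * (b ^ 2 - 1) := by
    intro a b ha hab
    have : a ^ 2 - 1 < b ^ 2 - 1 := by
      have : a ^ 2 < b ^ 2 := Nat.pow_lt_pow_left hab (by norm_num)
      have : 1 ≤ a ^ 2 := Nat.one_le_pow _ _ (by omega)
      omega
    exact Nat.mul_lt_mul'' hab this
  rcases lt_trichotomy q q' with h3 | h3 | h3
  · have := key q q' h1 h3; omega
  · exact h3
  · have := key q' q h2 h3; omega

/-- **Solomon's configuration does not exist.** -/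
theorem chart_false {X : Type*} [Group X] {u v : X} {Lu Lv Ju Jv Jw : Subgroup X} {F F' : Type} [Field F] [Fintype F]
    [Field F'] [Fintype F'] (cu : CompIn (centralizer ({u} : Set X)) Lu) (cv : CompIn (centralizer ({v} : Set X)) Lv)
    (hu : u ∈ Lu) (hv : v ∈ Lv) (l1 : Ju ≤ Lu) (l2 : Jv ≤ Lu) (l3 : Jw ≤ Lu) (m1 : Ju ≤ Lv) (m2 : Jv ≤ Lv)
    (m3 : Jw ≤ Lv) (ku : KF F ↥Lu ⟨u, hu⟩ (Ju.subgroupOf Lu) (Jv.subgroupOf Lu) (Jw.subgroupOf Lu))
    (kv : KF F' ↥Lv ⟨v, hv⟩ (Jv.subgroupOf Lv) (Ju.subgroupOf Lv) (Jw.subgroupOf Lv)) : False := by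
  obtain ⟨X1, z1, b1, k1, u1, s1, p1, p2, p3⟩ := ku
  obtain ⟨X2, z2, b2, k2, u2, s2, q1, q2, q3⟩ := kv
  have f1 := full_of_sub b1 k1 u1 s1 cu
  have f2 := full_of_sub b2 k2 u2 s2 cv
  have a1 : JJ (fun v => (X1 v).map Lu.subtype) (0, 0, 1) = Ju := by
    rw [JJ_map, p1, map_subgroupOf_eq_of_le l1]
  have a2 : JJ (fun v => (X1 v).map Lu.subtype) (1, 1, 0) = Jv := by
    rw [JJ_map, p2, map_subgroupOf_eq_of_le l2]
  have a3 : JJ (fun v => (X1 v).map Lu.subtype) (1, -1, 0) = Jw := by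
    rw [JJ_map, p3, map_subgroupOf_eq_of_le l3]
  have c1 : JJ (fun v => (X2 v).map Lv.subtype) (0, 0, 1) = Jv := by
    rw [JJ_map, q1, map_subgroupOf_eq_of_le m2]
  have c2 : JJ (fun v => (X2 v).map Lv.subtype) (1, 1, 0) = Ju := by
    rw [JJ_map, q2, map_subgroupOf_eq_of_le m1]
  have c3 : JJ (fun v => (X2 v).map Lv.subtype) (1, -1, 0) = Jw := by
    rw [JJ_map, q3, map_subgroupOf_eq_of_le m3]
  obtain ⟨e1⟩ := f1.b3.sl (0, 0, 1) (by decide)
  obtain ⟨e2⟩ := f2.b3.sl (1, 1, 0) (by decide)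
  rw [a1] at e1
  rw [c2] at e2
  have hc := card_eq_of_sl (e1.symm.trans e2)
  have f1' := f1.congr hc (e1.symm.trans e2)
  exact two_false f1' f2 a1 a2 a3 c1 c2 c3

end Cfsg.Agent.OddHalf.NI3.Sol
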