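import Cfsg.Agent.OddHalf.NI3.Sol.Defs
import Cfsg.Agent.LieClassical.SLTwoUnipotent

/-!
# Solomon's configuration: Sylow `p`-subgroups of `SL₂(F)`

`P`, `Q`, `R` subgroups of order `|F|` of `J ≃ SL₂(F)`.
* `exists_conj`, `reg`, `semireg`, `two_trans` : `J` is 2-transitive on them;
* `inv_unique` : `t` inverting `P` and `Q` normalises no third one.
-/

set_option autoImplicit false
set_option linter.unusedSectionVars false
set_option linter.unusedVariables false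

namespace Cfsg.Agent.OddHalf.NI3.Sol

open Subgroup Matrix
open Cfsg.Agent.LieClassical.SLTwoUnipotent

section CJ

variable {G : Type*} [Group G]

theorem mem_cj {g x : G} {A : Subgroup G} : x ∈ cj g A ↔ g⁻¹ * x * g ∈ A := by
  unfold cj
  rw [Subgroup.mem_map_equiv, MulAut.conj_symm_apply]

theorem conj_mem_cj {g x : G} {A : Subgroup G} : g * x * g⁻¹ ∈ cj g A ↔ x ∈ A := by
  rw [mem_cj]
  have : g⁻¹ * (g * x * g⁻¹) * g = x := by group
  rw [this]

theorem cj_one (A : Subgroup G) : cj (1 : G) A = A := by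
  ext x; rw [mem_cj]; simp

theorem cj_mul (g k : G) (A : Subgroup G) : cj (g * k) A = cj g (cj k A) := by
  ext x
  rw [mem_cj, mem_cj, mem_cj]
  have : (g * k)⁻¹ * x * (g * k) = k⁻¹ * (g⁻¹ * x * g) * k := by group
  rw [this]

theorem cj_inv_cj (g : G) (A : Subgroup G) : cj g⁻¹ (cj g A) = A := by
  rw [← cj_mul, inv_mul_cancel, cj_one]

theorem cj_cj_inv (g : G) (A : Subgroup G) : cj g (cj g⁻¹ A) = A := by
  rw [← cj_mul, mul_inv_cancel, cj_one]

theorem cj_mono (g : G) {A B : Subgroup G} (h : A ≤ B) : cj g A ≤ cj g B := Subgroup.map_mono h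

theorem cj_injective (g : G) : Function.Injective (cj g : Subgroup G → Subgroup G) := by
  intro A B h
  have := congrArg (cj g⁻¹) h
  rwa [cj_inv_cj, cj_inv_cj] at this

theorem cj_sup (g : G) (A B : Subgroup G) : cj g (A ⊔ B) = cj g A ⊔ cj g B := Subgroup.map_sup _ _ _

theorem cj_inf (g : G) (A B : Subgroup G) : cj g (A ⊓ B) = cj g A ⊓ cj g B := by
  ext x
  rw [mem_inf, mem_cj, mem_cj, mem_cj, mem_inf]

theorem cj_eq_of_mem {g : G} {A : Subgroup G} (hg : g ∈ A) : cj g A = A := by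
  ext x
  rw [mem_cj]
  constructor
  · intro h1
    have : x = g * (g⁻¹ * x * g) * g⁻¹ := by group
    rw [this]
    exact mul_mem (mul_mem hg h1) (inv_mem hg)
  · intro h1
    exact mul_mem (mul_mem (inv_mem hg) h1) hg

theorem cj_eq_of_comm {g : G} {A : Subgroup G} (h : ∀ x ∈ A, g * x = x * g) : cj g A = A := by
  ext x
  rw [mem_cj]
  constructor
  · intro hx
    have h1 := h _ hx
    have h2 : g * (g⁻¹ * x * g) * g⁻¹ = g⁻¹ * x * g := by rw [h1]; group
    have h3 : g * (g⁻¹ * x * g) * g⁻¹ = x := by group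
    rw [h3] at h2
    rw [h2]; exact hx
  · intro hx
    have h1 := h _ hx
    have e : g⁻¹ * x * g = x := by rw [mul_assoc, ← h1]; group
    rw [e]; exact hx

theorem card_cj (g : G) (A : Subgroup G) : Nat.card (cj g A) = Nat.card A :=
  (Nat.card_congr (A.equivMapOfInjective _ (MulAut.conj g).injective).toEquiv).symm

/-- `g` inverts `A` -/
theorem cj_eq_of_inv {g : G} {A : Subgroup G} (h : ∀ x ∈ A, g * x * g⁻¹ = x⁻¹) : cj g A = A := by
  ext x
  rw [mem_cj]
  constructor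
  · intro hx
    have h1 := h _ hx
    have e : g * (g⁻¹ * x * g) * g⁻¹ = x := by group
    rw [← e, h1]
    exact inv_mem hx
  · intro hx
    have h1 := h _ (inv_mem hx)
    rw [inv_inv] at h1
    have e : g⁻¹ * x * g = x⁻¹ := by
      calc g⁻¹ * x * g = g⁻¹ * (g * x⁻¹ * g⁻¹) * g := by rw [h1]
        _ = x⁻¹ := by group
    rw [e]; exact inv_mem hx

end CJ

section Mat

variable {F : Type*} [Field F]

/-- lower unitriangular matrices -/
def lowU (F : Type*) [Field F] : Subgroup (SpecialLinearGroup (Fin 2) F) where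
  carrier := {g | ∃ x, g = l x}
  mul_mem' := by
    rintro _ _ ⟨x, rfl⟩ ⟨y, rfl⟩
    exact ⟨x + y, (l_add x y).symm⟩
  one_mem' := ⟨0, l_zero.symm⟩
  inv_mem' := by
    rintro _ ⟨x, rfl⟩
    exact ⟨-x, (l_neg x).symm⟩

theorem l_injective : Function.Injective (l : F → SpecialLinearGroup (Fin 2) F) := by
  intro x y h
  have h1 := congrArg (fun g : SpecialLinearGroup (Fin 2) F => (g : Matrix (Fin 2) (Fin 2) F) 1 0) h
  simpa [coe_l] using h1

theorem card_lowU : Nat.card (lowU F) = Nat.card F := by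
  refine (Nat.card_congr (Equiv.ofBijective (fun x : F => (⟨l x, ⟨x, rfl⟩⟩ : lowU F)) ⟨?_, ?_⟩)).symm
  · intro x y h
    exact l_injective (congrArg Subtype.val h)
  · rintro ⟨_, x, rfl⟩
    exact ⟨x, rfl⟩

variable [Fintype F]

theorem exists_conj_U {P : Subgroup (SpecialLinearGroup (Fin 2) F)} (h : Nat.card P = Nat.card F) :
    ∃ g, P = cj g (upperUnipSL F) := by
  obtain ⟨p, hp⟩ := CharP.exists F
  have hpp : Fact p.Prime := ⟨CharP.char_is_prime F p⟩
  obtain ⟨n, -, hn⟩ := FiniteField.card F p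
  have hP : IsPGroup p P := IsPGroup.of_card (n := n) (by rw [h, Nat.card_eq_fintype_card, hn])
  obtain ⟨Q, hQ⟩ := hP.exists_le_sylow
  obtain ⟨g, hg⟩ := exists_smul_upperUnipSylowSL_eq p Q
  have h1 : (Q : Subgroup (SpecialLinearGroup (Fin 2) F)) = cj g (upperUnipSL F) := by
    rw [← hg]; rfl
  refine ⟨g, ?_⟩
  rw [← h1]
  apply Subgroup.eq_of_le_of_card_ge hQ
  rw [h1, card_cj, card_upperUnipSL, h]

theorem exists_conj_L {P : Subgroup (SpecialLinearGroup (Fin 2) F)} (h : Nat.card P = Nat.card F)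
    (hne : P ≠ upperUnipSL F) : ∃ a : F, P = cj (u a) (lowU F) := by
  obtain ⟨g, rfl⟩ := exists_conj_U h
  have hg : g 1 0 ≠ 0 := by
    intro h0
    apply hne
    apply Subgroup.eq_of_le_of_card_ge
    · intro x hx
      rw [mem_cj] at hx
      have := conj_mem_upperUnipSL h0 hx
      have e : g * (g⁻¹ * x * g) * g⁻¹ = x := by group
      rwa [e] at this
    · rw [card_cj]
  refine ⟨g 0 0 / g 1 0, ?_⟩
  symm
  apply Subgroup.eq_of_le_of_card_ge
  · intro x hx
    rw [mem_cj] at hx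
    obtain ⟨y, hy⟩ := hx
    have e : x = u (g 0 0 / g 1 0) * l y * (u (g 0 0 / g 1 0))⁻¹ := by rw [← hy]; group
    rw [e, ← conj_u_eq g hg y]
    exact conj_mem_cj.2 (u_mem_upperUnipSL _)
  · rw [card_cj, card_cj, card_lowU, card_upperUnipSL]

theorem lowU_ne : lowU F ≠ upperUnipSL F := by
  intro h
  have h1 : l (1 : F) ∈ upperUnipSL F := by rw [← h]; exact ⟨1, rfl⟩
  rw [mem_upperUnipSL_iff, coe_l] at h1
  simp at h1

theorem semireg_mat {a : F} (h : cj (u a) (lowU F) = lowU F) : a = 0 := by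
  have h1 : u a * l 1 * (u a)⁻¹ ∈ lowU F := by
    rw [← h]; exact conj_mem_cj.2 ⟨1, rfl⟩
  obtain ⟨x, hx⟩ := h1
  have h2 : u a * l 1 = l x * u a := by rw [← hx]; group
  have h3 := congrArg (fun g : SpecialLinearGroup (Fin 2) F => (g : Matrix (Fin 2) (Fin 2) F) 0 0) h2
  simp only [LieClassical.SLTwoUnipotent.coe_mul, coe_u, coe_l] at h3
  simpa [Matrix.mul_apply, Fin.sum_univ_two] using h3

end Mat

section Grp

variable {G : Type*} [Group G] {F : Type*} [Field F] [Fintype F] {J P Q R : Subgroup G}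

/-- the image of `P ≤ J` in `SL₂(F)` -/
def hat (e : ↥J ≃* SpecialLinearGroup (Fin 2) F) (P : Subgroup G) : Subgroup (SpecialLinearGroup (Fin 2) F) :=
  (P.subgroupOf J).map e.toMonoidHom

variable (e : ↥J ≃* SpecialLinearGroup (Fin 2) F)

theorem mem_hat {x : ↥J} : e x ∈ hat e P ↔ (x : G) ∈ P := by
  unfold hat
  rw [Subgroup.mem_map]
  constructor
  · rintro ⟨y, hy, h⟩
    have h1 : y = x := e.injective h
    rw [← h1]; exact hy
  · intro h
    exact ⟨x, h, rfl⟩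

theorem mem_hat' {s : SpecialLinearGroup (Fin 2) F} : s ∈ hat e P ↔ ((e.symm s : ↥J) : G) ∈ P := by
  have := mem_hat e (P := P) (x := e.symm s)
  rwa [MulEquiv.apply_symm_apply] at this

theorem hat_inj (hP : P ≤ J) (hQ : Q ≤ J) (h : hat e P = hat e Q) : P = Q := by
  ext x
  constructor
  · intro hx
    have h1 := (mem_hat e (x := ⟨x, hP hx⟩)).2 hx
    rw [h] at h1
    exact (mem_hat e).1 h1
  · intro hx
    have h1 := (mem_hat e (x := ⟨x, hQ hx⟩)).2 hx
    rw [← h] at h1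
    exact (mem_hat e).1 h1

theorem hat_cj (j : ↥J) (hP : P ≤ J) : hat e (cj (j : G) P) = cj (e j) (hat e P) := by
  ext s
  rw [mem_hat', mem_cj, mem_cj, mem_hat']
  rw [map_mul, map_mul, map_inv, MulEquiv.symm_apply_apply]
  rfl

theorem card_hat (hP : P ≤ J) : Nat.card (hat e P) = Nat.card P := by
  unfold hat
  rw [Subgroup.card_map_of_injective e.injective]
  exact Nat.card_congr (Subgroup.subgroupOfEquivOfLe hP).toEquiv

theorem cj_le {j : G} (hj : j ∈ J) (hP : P ≤ J) : cj j P ≤ J := by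
  rw [← cj_eq_of_mem hj]; exact cj_mono j hP

/-- all subgroups of order `|F|` of `J` are conjugate -/
theorem exists_conj (e : Nonempty (↥J ≃* SpecialLinearGroup (Fin 2) F)) (hP : P ≤ J) (hQ : Q ≤ J)
    (cP : Nat.card P = Nat.card F) (cQ : Nat.card Q = Nat.card F) : ∃ j ∈ J, cj j P = Q := by
  obtain ⟨e⟩ := e
  obtain ⟨g, hg⟩ := exists_conj_U (F := F) (P := hat e P) (by rw [card_hat e hP, cP])
  obtain ⟨k, hk⟩ := exists_conj_U (F := F) (P := hat e Q) (by rw [card_hat e hQ, cQ])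
  refine ⟨e.symm (k * g⁻¹), (e.symm (k * g⁻¹)).2, hat_inj e (cj_le (e.symm _).2 hP) hQ ?_⟩
  rw [hat_cj e _ hP, MulEquiv.apply_symm_apply, hg, ← cj_mul, hk]
  congr 1; group

theorem two_trans_aux (e : ↥J ≃* SpecialLinearGroup (Fin 2) F) (hP : P ≤ J) (hQ : Q ≤ J)
    (cP : Nat.card P = Nat.card F) (cQ : Nat.card Q = Nat.card F) (hne : P ≠ Q) :
    ∃ g, cj g (hat e P) = upperUnipSL F ∧ cj g (hat e Q) = lowU F := by
  obtain ⟨g, hg⟩ := exists_conj_U (F := F) (P := hat e P) (by rw [card_hat e hP, cP])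
  have h1 : cj g⁻¹ (hat e Q) ≠ upperUnipSL F := by
    intro h
    apply hne
    apply hat_inj e hP hQ
    rw [hg, ← h, cj_cj_inv]
  obtain ⟨a, ha⟩ := exists_conj_L (F := F) (P := cj g⁻¹ (hat e Q)) (by rw [card_cj, card_hat e hQ, cQ]) h1
  refine ⟨(u a)⁻¹ * g⁻¹, ?_, ?_⟩
  · rw [cj_mul, hg, cj_inv_cj, cj_eq_of_mem (inv_mem (u_mem_upperUnipSL a))]
  · rw [cj_mul, ha, cj_inv_cj]

/-- `P` acts transitively on the subgroups of order `|F|` different from `P` -/
theorem reg (e : Nonempty (↥J ≃* SpecialLinearGroup (Fin 2) F)) (hP : P ≤ J) (hQ : Q ≤ J) (hR : R ≤ J)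
    (cP : Nat.card P = Nat.card F) (cQ : Nat.card Q = Nat.card F) (cR : Nat.card R = Nat.card F) (hne : P ≠ Q)
    (hR' : R ≠ P) : ∃ v ∈ P, R = cj v Q := by
  obtain ⟨e⟩ := e
  obtain ⟨g, hg1, hg2⟩ := two_trans_aux e hP hQ cP cQ hne
  have h1 : cj g (hat e R) ≠ upperUnipSL F := by
    intro h
    apply hR'
    apply hat_inj e hR hP
    apply cj_injective g
    rw [h, hg1]
  obtain ⟨a, ha⟩ := exists_conj_L (F := F) (P := cj g (hat e R)) (by rw [card_cj, card_hat e hR, cR]) h1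
  refine ⟨e.symm (g⁻¹ * u a * g), ?_, ?_⟩
  · rw [← mem_hat', ← mem_cj, hg1]
    exact u_mem_upperUnipSL a
  · apply hat_inj e hR (cj_le (e.symm _).2 hQ)
    rw [hat_cj e _ hQ, MulEquiv.apply_symm_apply]
    apply cj_injective g
    rw [ha, ← hg2, ← cj_mul, ← cj_mul]
    congr 1; group

/-- `P` meets the normaliser of `Q` trivially -/
theorem semireg (e : Nonempty (↥J ≃* SpecialLinearGroup (Fin 2) F)) (hP : P ≤ J) (hQ : Q ≤ J)
    (cP : Nat.card P = Nat.card F) (cQ : Nat.card Q = Nat.card F) (hne : P ≠ Q) {v : G} (hv : v ∈ P)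
    (h : cj v Q = Q) : v = 1 := by
  obtain ⟨e⟩ := e
  obtain ⟨g, hg1, hg2⟩ := two_trans_aux e hP hQ cP cQ hne
  have h1 : g * e ⟨v, hP hv⟩ * g⁻¹ ∈ upperUnipSL F := by
    rw [← hg1, conj_mem_cj, mem_hat]
    exact hv
  have h2 := eq_u_of_mem_upperUnipSL h1
  set a := (g * e ⟨v, hP hv⟩ * g⁻¹) 0 1
  have h3 : cj (u a) (lowU F) = lowU F := by
    rw [← h2, ← hg2, ← cj_mul]
    have e1 : g * e ⟨v, hP hv⟩ * g⁻¹ * g = g * e ⟨v, hP hv⟩ := by group
    rw [e1, cj_mul, ← hat_cj e _ hQ, h]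
  have h4 := semireg_mat h3
  rw [h4, u_zero] at h2
  have h5 : e ⟨v, hP hv⟩ = 1 := by
    have := congrArg (fun x => g⁻¹ * x * g) h2
    simpa [mul_assoc] using this
  have h6 : (⟨v, hP hv⟩ : ↥J) = 1 := by rwa [map_eq_one_iff e e.injective] at h5
  exact congrArg Subtype.val h6

theorem two_trans (e : Nonempty (↥J ≃* SpecialLinearGroup (Fin 2) F)) {P' Q' : Subgroup G} (hP : P ≤ J) (hQ : Q ≤ J)
    (hP' : P' ≤ J) (hQ' : Q' ≤ J) (cP : Nat.card P = Nat.card F) (cQ : Nat.card Q = Nat.card F)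
    (cP' : Nat.card P' = Nat.card F) (cQ' : Nat.card Q' = Nat.card F) (hne : P ≠ Q) (hne' : P' ≠ Q') :
    ∃ j ∈ J, cj j P = P' ∧ cj j Q = Q' := by
  obtain ⟨j, hj, h1⟩ := exists_conj e hP hP' cP cP'
  obtain ⟨v, hv, h2⟩ := reg (R := Q') (Q := cj j Q) e hP' (cj_le hj hQ) hQ' cP' (by rw [card_cj, cQ]) cQ'
    (by rw [← h1]; exact fun h => hne (cj_injective j h)) hne'.symm
  refine ⟨v * j, mul_mem (hP' hv) hj, ?_, ?_⟩
  · rw [cj_mul, h1, cj_eq_of_mem hv]
  · rw [cj_mul, h2]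

/-- `t` inverts `P` and `Q` and normalises `R`: then `R = P` or `R = Q`. -/
theorem inv_unique (hodd : Odd (Fintype.card F)) (e : Nonempty (↥J ≃* SpecialLinearGroup (Fin 2) F)) (hP : P ≤ J)
    (hQ : Q ≤ J) (hR : R ≤ J) (cP : Nat.card P = Nat.card F) (cQ : Nat.card Q = Nat.card F)
    (cR : Nat.card R = Nat.card F) (hne : P ≠ Q) {t : G} (tP : ∀ x ∈ P, t * x * t⁻¹ = x⁻¹)
    (tQ : ∀ x ∈ Q, t * x * t⁻¹ = x⁻¹) (tR : cj t R = R) : R = P ∨ R = Q := by
  by_cases hRP : R = P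
  · exact Or.inl hRP
  right
  obtain ⟨v, hv, h1⟩ := reg e hP hQ hR cP cQ cR hne hRP
  have h2 : cj v Q = cj v⁻¹ Q := by
    rw [← h1]
    calc R = cj t R := tR.symm
      _ = cj (t * v * t⁻¹) (cj t Q) := by rw [h1, ← cj_mul, ← cj_mul]; congr 1; group
      _ = cj v⁻¹ Q := by rw [tP v hv, cj_eq_of_inv tQ]
  have h3 : cj (v * v) Q = Q := by rw [cj_mul, h2, cj_cj_inv]
  have h4 := semireg e hP hQ cP cQ hne (mul_mem hv hv) h3
  have h5 : v = 1 := by
    have h6 : orderOf v ∣ 2 := orderOf_dvd_of_pow_eq_one (by rw [pow_two]; exact h4)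
    have h7 : orderOf v ∣ Nat.card P := Subgroup.orderOf_dvd_natCard P hv
    rw [cP, Nat.card_eq_fintype_card] at h7
    have h8 : Nat.Coprime 2 (Fintype.card F) := (Nat.coprime_two_left).2 hodd
    exact orderOf_eq_one_iff.1 (Nat.dvd_one.1 (by rw [← h8]; exact Nat.dvd_gcd h6 h7))
  rw [h1, h5, cj_one]

end Grp

end Cfsg.Agent.OddHalf.NI3.Sol
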