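import Cfsg.Agent.OddHalf.NI3.Sol.Glue3

/-!
# Solomon's configuration: transport and the form with two groups

* `B3.map`, `full_of_sub` : from the group `↥K` to the subgroup `K`;
* `Full.flip` : the change of coordinates `e₂ ↦ -e₂`; `Full.congr` : change of the field;
* `two_false` : Solomon's configuration with two groups only.
-/

set_option autoImplicit false
set_option linter.unusedSectionVars false
set_option linter.unusedVariables false

namespace Cfsg.Agent.OddHalf.NI3.Sol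

open Subgroup Matrix
open Cfsg.Agent.OddHalf.NI (CompIn)

/-- (K5) for automorphisms -/
def KAut {N : Type*} [Group N] (X : V → Subgroup N) (z : V → N) : Prop :=
  ∀ α : MulAut N, (∀ x ∈ JJ X (0, 0, 1), α x = x) → (∀ x ∈ JJ X (1, -1, 0), α x = x) →
    (∀ x ∈ JJ X (1, 1, 0), α x = x) → α = 1 ∨ α = MulAut.conj (z (1, 1, 0))

section Map

variable {G : Type*} [Group G] {F : Type} [Field F] [Fintype F] {K : Subgroup G} {c : K} {X : V → Subgroup K}
  {z : V → K}

theorem JJ_map (v : V) : JJ (fun v => (X v).map K.subtype) v = (JJ X v).map K.subtype :=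
  (Subgroup.map_sup _ _ _).symm

theorem B3.map (h : B3 F (⊤ : Subgroup K) c X z) :
    B3 F K (c : G) (fun v => (X v).map K.subtype) (fun v => (z v : G)) where
  odd := h.odd
  sl v hv := by
    obtain ⟨e⟩ := h.sl v hv
    rw [JJ_map]
    exact ⟨((JJ X v).equivMapOfInjective _ K.subtype_injective).symm.trans e⟩
  card v hv := by
    rw [Subgroup.card_map_of_injective K.subtype_injective]
    exact h.card v hv
  le v hv := by
    rintro _ ⟨x, -, rfl⟩
    exact x.2
  span H hH := by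
    have h1 : (⊤ : Subgroup K) ≤ H.comap K.subtype := h.span _ fun v hv x hx => hH v hv ⟨x, hx, rfl⟩
    intro x hx
    exact h1 (show (⟨x, hx⟩ : K) ∈ ⊤ from mem_top _)
  comm u v hu hv h1 h2 := by
    rintro _ ⟨a, ha, rfl⟩ _ ⟨b, hb, rfl⟩
    exact congrArg Subtype.val (h.comm u v hu hv h1 h2 a ha b hb)
  ncomm u v hu hv h1 := by
    intro hc
    apply h.ncomm u v hu hv h1
    intro a ha b hb
    exact Subtype.ext (hc a ⟨a, ha, rfl⟩ b ⟨b, hb, rfl⟩)
  gen u v hu hv h1 := by
    rw [← Subgroup.map_sup]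
    exact Subgroup.map_mono (h.gen u v hu hv h1)
  c_order := by rw [Subgroup.orderOf_coe]; exact h.c_order
  c_comm x hx := congrArg Subtype.val (h.c_comm ⟨x, hx⟩ (mem_top _))
  z_mem v hv := by rw [JJ_map]; exact ⟨z v, h.z_mem v hv, rfl⟩
  z_order v hv := by rw [Subgroup.orderOf_coe]; exact h.z_order v hv
  z_neg v hv := by rw [h.z_neg v hv]
  z_short v hv := by rw [h.z_short v hv]
  z_even u v hu hv h1 := by
    rintro _ ⟨a, ha, rfl⟩
    exact congrArg Subtype.val (h.z_even u v hu hv h1 a ha)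
  z_odd u v hu hv h1 := by
    rintro _ ⟨a, ha, rfl⟩
    exact congrArg Subtype.val (h.z_odd u v hu hv h1 a ha)
  z_orth u v hu hv h1 := congrArg Subtype.val (h.z_orth u v hu hv h1)
  z_add u v hu hv h1 := congrArg Subtype.val (h.z_add u v hu hv h1)
  weyl v hv := by
    obtain ⟨n, hn, h1⟩ := h.weyl v hv
    refine ⟨n, by rw [JJ_map]; exact ⟨n, hn, rfl⟩, fun u hu => ?_⟩
    rw [← h1 u hu]
    ext x
    rw [mem_cj]
    constructor
    · rintro ⟨a, ha, hx⟩
      refine ⟨n * a * n⁻¹, conj_mem_cj.2 ha, ?_⟩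
      have e : (a : G) = (n : G)⁻¹ * x * n := hx
      change (n : G) * a * (n : G)⁻¹ = x
      rw [e]; group
    · rintro ⟨a, ha, rfl⟩
      exact ⟨_, mem_cj.1 ha, rfl⟩
  tor v hv t ht h1 h2 u hu := by
    rw [JJ_map] at ht
    obtain ⟨s, hs, rfl⟩ := ht
    have key : ∀ A : Subgroup K, cj (s : G) (A.map K.subtype) = A.map K.subtype ↔ cj s A = A := by
      intro A
      have e : cj (s : G) (A.map K.subtype) = (cj s A).map K.subtype := by
        ext x
        rw [mem_cj]
        constructor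
        · rintro ⟨a, ha, hx⟩
          refine ⟨s * a * s⁻¹, conj_mem_cj.2 ha, ?_⟩
          have e : (a : G) = (s : G)⁻¹ * x * s := hx
          change (s : G) * a * (s : G)⁻¹ = x
          rw [e]; group
        · rintro ⟨a, ha, rfl⟩
          exact ⟨_, mem_cj.1 ha, rfl⟩
      rw [e]
      exact ⟨fun h => Subgroup.map_injective K.subtype_injective h, fun h => by rw [h]⟩
    exact (key _).2 (h.tor v hv s hs ((key _).1 h1) ((key _).1 h2) u hu)

theorem KAut.map (h : B3 F (⊤ : Subgroup K) c X z) (hk : KAut X z) :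
    KFive K (fun v => (X v).map K.subtype) (fun v => (z v : G)) := by
  intro f hf h1 h2 h3
  have hmem : ∀ x ∈ K, f * x * f⁻¹ ∈ K := fun x hx => by
    rw [← hf]; exact conj_mem_cj.2 hx
  have hmem' : ∀ x ∈ K, f⁻¹ * x * f ∈ K := fun x hx => by
    rw [← mem_cj, hf]; exact hx
  let α : MulAut K :=
    { toFun := fun x => ⟨f * x * f⁻¹, hmem x x.2⟩
      invFun := fun x => ⟨f⁻¹ * x * f, hmem' x x.2⟩
      left_inv := fun x => Subtype.ext (by change f⁻¹ * (f * (x : G) * f⁻¹) * f = x; group)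
      right_inv := fun x => Subtype.ext (by change f * (f⁻¹ * (x : G) * f) * f⁻¹ = x; group)
      map_mul' := fun x y => Subtype.ext (by
        change f * ((x : G) * y) * f⁻¹ = (f * x * f⁻¹) * (f * y * f⁻¹)
        group) }
  have hα : ∀ x : K, ((α x : K) : G) = f * x * f⁻¹ := fun x => rfl
  have key : ∀ v, (∀ x ∈ JJ (fun v => (X v).map K.subtype) v, f * x = x * f) → ∀ x ∈ JJ X v, α x = x := by
    intro v h4 x hx
    apply Subtype.ext
    rw [hα, h4 x (by rw [JJ_map]; exact ⟨x, hx, rfl⟩)]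
    group
  rcases hk α (key _ h1) (key _ h2) (key _ h3) with h4 | h4
  · left
    intro x hx
    have h5 := hα ⟨x, hx⟩
    rw [h4] at h5
    have h6 : x = f * x * f⁻¹ := h5
    calc f * x = (f * x * f⁻¹) * f := by group
      _ = x * f := by rw [← h6]
  · right
    intro x hx
    have hz := h.z_sq (v := (1, 1, 0)) (by decide)
    have hz' : (z (1, 1, 0) : G) * z (1, 1, 0) = 1 := congrArg Subtype.val hz
    have h5 := hα (z (1, 1, 0) * ⟨x, hx⟩ * (z (1, 1, 0))⁻¹)
    rw [h4] at h5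
    have h6 : (z (1, 1, 0) : G) * ((z (1, 1, 0) : G) * x * (z (1, 1, 0) : G)⁻¹) * (z (1, 1, 0) : G)⁻¹ =
      f * ((z (1, 1, 0) : G) * x * (z (1, 1, 0) : G)⁻¹) * f⁻¹ := h5
    have h7 : (z (1, 1, 0) : G)⁻¹ = z (1, 1, 0) := inv_eq_of_mul_eq_one_left hz'
    rw [h7] at h6
    have h8 : f * ((z (1, 1, 0) : G) * x * (z (1, 1, 0) : G)) * f⁻¹ = x := by
      rw [← h6]
      calc (z (1, 1, 0) : G) * ((z (1, 1, 0) : G) * x * (z (1, 1, 0) : G)) * (z (1, 1, 0) : G)
          = ((z (1, 1, 0) : G) * z (1, 1, 0)) * x * ((z (1, 1, 0) : G) * z (1, 1, 0)) := by group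
        _ = x := by rw [hz']; group
    calc f * (z (1, 1, 0) : G) * x = (f * ((z (1, 1, 0) : G) * x * (z (1, 1, 0) : G)) * f⁻¹) * f *
          (z (1, 1, 0) : G)⁻¹ := by group
      _ = x * (f * (z (1, 1, 0) : G)) := by rw [h8, h7]; group

theorem UU.map (h : UU F (⊤ : Subgroup K) X z) : UU F K (fun v => (X v).map K.subtype) (fun v => (z v : G)) := by
  intro v hv S hS hs hiso
  have hSK : S ≤ K := hS.trans inf_le_left
  have e1 : (⊤ : Subgroup K) ⊓ centralizer ({z v} : Set K) =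
      (K ⊓ centralizer ({(z v : G)} : Set G)).subgroupOf K := by
    ext x
    rw [mem_inf, mem_subgroupOf, mem_inf, mem_centralizer_singleton_iff, mem_centralizer_singleton_iff]
    constructor
    · rintro ⟨-, h1⟩
      exact ⟨x.2, congrArg Subtype.val h1⟩
    · rintro ⟨-, h1⟩
      exact ⟨mem_top _, Subtype.ext h1⟩
  have h1 : S.subgroupOf K ≤ ⊤ ⊓ centralizer ({z v} : Set K) := by
    rw [e1]
    intro x hx
    exact hS hx
  have h2 : ((S.subgroupOf K).subgroupOf ((⊤ : Subgroup K) ⊓ centralizer ({z v} : Set K))).IsSubnormal := by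
    rw [e1]
    exact hs.comap ((subgroupOfEquivOfLe (inf_le_left : K ⊓ centralizer ({(z v : G)} : Set G) ≤ K)).toMonoidHom)
  obtain ⟨e⟩ := hiso
  obtain ⟨u, hu, h3, h4⟩ := h v hv _ h1 h2 ⟨(subgroupOfEquivOfLe hSK).trans e⟩
  refine ⟨u, hu, h3, ?_⟩
  rw [JJ_map, ← h4, map_subgroupOf_eq_of_le hSK]

theorem SS.map (h : SS (⊤ : Subgroup K) X z) (hb : B3 F (⊤ : Subgroup K) c X z) :
    SS K (fun v => (X v).map K.subtype) (fun v => (z v : G)) := by
  intro v hv u hu h1
  have key : ∀ v ∈ longL, ∀ u ∈ shortL ++ longL, (u = v ∨ dot u v = 0) → Even (pr u v) ∧ Even (pr (-u) v) := by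
    decide
  have h2 := key v hv u hu.mem h1
  have h0 : Sb (JJ X u) ((⊤ : Subgroup K) ⊓ centralizer ({z v} : Set K)) := by
    refine ⟨le_inf le_top (sup_le ?_ ?_), h v hv u hu h1⟩
    · intro x hx
      rw [mem_centralizer_singleton_iff]
      exact (hb.z_even u v hu hv.isR h2.1 x hx).symm
    · intro x hx
      rw [mem_centralizer_singleton_iff]
      exact (hb.z_even (-u) v hu.neg hv.isR h2.2 x hx).symm
  have h3 := h0.map K.subtype
  have e1 : ((⊤ : Subgroup K) ⊓ centralizer ({z v} : Set K)).map K.subtype =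
      K ⊓ centralizer ({(z v : G)} : Set G) := by
    ext x
    rw [mem_inf, mem_centralizer_singleton_iff]
    constructor
    · rintro ⟨y, hy, rfl⟩
      exact ⟨y.2, congrArg Subtype.val (mem_centralizer_singleton_iff.1 hy.2)⟩
    · rintro ⟨hx, h4⟩
      exact ⟨⟨x, hx⟩, ⟨mem_top _, mem_centralizer_singleton_iff.2 (Subtype.ext h4)⟩, rfl⟩
  rw [e1] at h3
  rw [JJ_map]
  exact h3.2

theorem full_of_sub (h : B3 F (⊤ : Subgroup K) c X z) (hk : KAut X z) (hu : UU F (⊤ : Subgroup K) X z)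
    (hs : SS (⊤ : Subgroup K) X z) (hc : CompIn (centralizer ({(c : G)} : Set G)) K) :
    Full F K (c : G) (fun v => (X v).map K.subtype) (fun v => (z v : G)) :=
  ⟨h.map, hk.map h, hu.map, hs.map h, hc⟩

end Map

/-! ### The change of coordinates `e₂ ↦ -e₂` -/

/-- `e₂ ↦ -e₂` -/
def fl (v : V) : V := (v.1, -v.2.1, v.2.2)

theorem fl_fl (v : V) : fl (fl v) = v := by unfold fl; simp

theorem fl_add (u v : V) : fl (u + v) = fl u + fl v := by
  unfold fl
  simp only [Prod.fst_add, Prod.snd_add, Prod.mk_add_mk]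
  congr 2
  ring

theorem fl_neg (v : V) : fl (-v) = -fl v := by unfold fl; simp

theorem fl_S {v : V} (h : IsS v) : IsS (fl v) := by
  have key : ∀ v ∈ shortL, IsS (fl v) := by decide
  exact key v h

theorem fl_L {v : V} (h : IsL v) : IsL (fl v) := by
  have key : ∀ v ∈ longL, IsL (fl v) := by decide
  exact key v h

theorem fl_R {v : V} (h : IsR v) : IsR (fl v) := h.imp fl_S fl_L

theorem fl_R_iff {v : V} : IsR (fl v) ↔ IsR v := ⟨fun h => by have := fl_R h; rwa [fl_fl] at this, fl_R⟩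

theorem fl_dot (u v : V) : dot (fl u) (fl v) = dot u v := by
  unfold dot fl
  ring

theorem fl_pr (u v : V) : pr (fl u) (fl v) = pr u v := by
  unfold pr
  rw [fl_dot, fl_dot]

theorem fl_refl (u v : V) : refl (fl v) (fl u) = fl (refl v u) := by
  unfold refl
  rw [fl_pr]
  unfold fl
  apply Prod.ext
  · simp
  · apply Prod.ext
    · simp; ring
    · simp

section Flip

variable {G : Type*} [Group G] {F : Type} [Field F] [Fintype F] {K : Subgroup G} {c : G} {X : V → Subgroup G}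
  {z : V → G}

theorem JJ_fl (v : V) : JJ (fun v => X (fl v)) v = JJ X (fl v) := by
  change X (fl v) ⊔ X (fl (-v)) = X (fl v) ⊔ X (-fl v)
  rw [fl_neg]

theorem B3.flip (h : B3 F K c X z) : B3 F K c (fun v => X (fl v)) (fun v => z (fl v)) where
  odd := h.odd
  sl v hv := by rw [JJ_fl]; exact h.sl _ (fl_R hv)
  card v hv := h.card _ (fl_R hv)
  le v hv := h.le _ (fl_R hv)
  span H hH := h.span H fun v hv => by
    have := hH (fl v) (fl_R hv)
    simpa only [fl_fl] using this
  comm u v hu hv h1 h2 := h.comm _ _ (fl_R hu) (fl_R hv) (by rw [← fl_add, fl_R_iff]; exact h1) (by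
    rw [← fl_add]
    intro h3
    apply h2
    have := congrArg fl h3
    rw [fl_fl] at this
    rw [this]; rfl)
  ncomm u v hu hv h1 := h.ncomm _ _ (fl_R hu) (fl_R hv) (by rw [← fl_add]; exact fl_R h1)
  gen u v hu hv h1 := by
    have := h.gen _ _ (fl_R hu) (fl_R hv) (by rw [← fl_add]; exact fl_R h1)
    rwa [← fl_add] at this
  c_order := h.c_order
  c_comm := h.c_comm
  z_mem v hv := by rw [JJ_fl]; exact h.z_mem _ (fl_R hv)
  z_order v hv := h.z_order _ (fl_R hv)
  z_neg v hv := by rw [fl_neg]; exact h.z_neg _ (fl_R hv)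
  z_short v hv := h.z_short _ (fl_S hv)
  z_even u v hu hv h1 := h.z_even _ _ (fl_R hu) (fl_R hv) (by rw [fl_pr]; exact h1)
  z_odd u v hu hv h1 := h.z_odd _ _ (fl_R hu) (fl_R hv) (by rw [fl_pr]; exact h1)
  z_orth u v hu hv h1 := h.z_orth _ _ (fl_L hu) (fl_L hv) (by rw [fl_dot]; exact h1)
  z_add u v hu hv h1 := by
    have := h.z_add _ _ (fl_L hu) (fl_L hv) (by rw [← fl_add]; exact fl_L h1)
    rwa [← fl_add] at this
  weyl v hv := by
    obtain ⟨n, hn, h1⟩ := h.weyl _ (fl_R hv)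
    refine ⟨n, by rw [JJ_fl]; exact hn, fun u hu => ?_⟩
    rw [h1 _ (fl_R hu), fl_refl]
  tor v hv t ht h1 h2 u hu := by
    rw [JJ_fl] at ht
    rw [fl_neg] at h2
    exact h.tor _ (fl_R hv) t ht h1 h2 _ (fl_R hu)

theorem Full.flip (h : Full F K c X z) : Full F K c (fun v => X (fl v)) (fun v => z (fl v)) where
  b3 := h.b3.flip
  five := by
    intro f hf h1 h2 h3
    rw [JJ_fl] at h1 h2 h3
    rcases h.five f hf h1 h3 h2 with h4 | h4
    · exact Or.inl h4
    · right
      intro x hx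
      have e1 : z (1, 1, 0) * z (1, -1, 0) = c := h.b3.z_orth _ _ (by decide) (by decide) (by decide)
      have e2 : z (1, -1, 0) = z (1, 1, 0) * c := by
        rw [← e1, ← mul_assoc, h.b3.z_sq (by decide), one_mul]
      change f * z (1, -1, 0) * x = x * (f * z (1, -1, 0))
      rw [e2, ← mul_assoc, mul_assoc (f * z (1, 1, 0)), h.b3.c_comm x hx, ← mul_assoc, h4 x hx, mul_assoc]
  uu := by
    intro v hv S hS hs hiso
    obtain ⟨u, hu, h1, h2⟩ := h.uu (fl v) (fl_L hv) S hS hs hiso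
    refine ⟨fl u, fl_R hu, ?_, ?_⟩
    · rcases h1 with rfl | h1
      · exact Or.inl (fl_fl v)
      · right
        rw [← fl_dot, fl_fl]; exact h1
    · rw [JJ_fl, fl_fl]; exact h2
  ss := by
    intro v hv u hu h1
    rw [JJ_fl]
    refine h.ss (fl v) (fl_L hv) (fl u) (fl_R hu) ?_
    rcases h1 with rfl | h1
    · exact Or.inl rfl
    · exact Or.inr (by rw [fl_dot]; exact h1)
  comp := h.comp

theorem Full.congr (h : Full F K c X z) {F' : Type} [Field F'] [Fintype F'] (hc : Fintype.card F = Fintype.card F')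
    (e : Matrix.SpecialLinearGroup (Fin 2) F ≃* Matrix.SpecialLinearGroup (Fin 2) F') : Full F' K c X z where
  b3 :=
    { odd := by rw [← hc]; exact h.b3.odd
      sl := fun v hv => by
        obtain ⟨f⟩ := h.b3.sl v hv
        exact ⟨f.trans e⟩
      card := fun v hv => by rw [← hc]; exact h.b3.card v hv
      le := h.b3.le
      span := h.b3.span
      comm := h.b3.comm
      ncomm := h.b3.ncomm
      gen := h.b3.gen
      c_order := h.b3.c_order
      c_comm := h.b3.c_comm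
      z_mem := h.b3.z_mem
      z_order := h.b3.z_order
      z_neg := h.b3.z_neg
      z_short := h.b3.z_short
      z_even := h.b3.z_even
      z_odd := h.b3.z_odd
      z_orth := h.b3.z_orth
      z_add := h.b3.z_add
      weyl := h.b3.weyl
      tor := h.b3.tor }
  five := h.five
  uu := by
    intro v hv S hS hs hiso
    obtain ⟨f⟩ := hiso
    exact h.uu v hv S hS hs ⟨f.trans e.symm⟩
  ss := h.ss
  comp := h.comp

end Flip

/-! ### Two groups -/

section Two

variable {G : Type*} [Group G] {F : Type} [Field F] [Fintype F] {K₁ K₂ J₀ J₁ J₂ : Subgroup G} {c₁ c₂ : G}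
  {X₁ X₂ : V → Subgroup G} {z₁ z₂ : V → G}

/-- **Solomon's configuration with two groups does not exist.** -/
theorem two_false (h1 : Full F K₁ c₁ X₁ z₁) (h2 : Full F K₂ c₂ X₂ z₂)
    (a1 : JJ X₁ (0, 0, 1) = J₁) (a2 : JJ X₁ (1, 1, 0) = J₂) (a3 : JJ X₁ (1, -1, 0) = J₀)
    (b1 : JJ X₂ (0, 0, 1) = J₂) (b2 : JJ X₂ (1, 1, 0) = J₁) (b3 : JJ X₂ (1, -1, 0) = J₀) : False := by
  have h1' := h1.flip
  have a1' : JJ (fun v => X₁ (fl v)) (0, 0, 1) = J₁ := by rw [JJ_fl]; exact a1
  have a2' : JJ (fun v => X₁ (fl v)) (1, -1, 0) = J₂ := by rw [JJ_fl]; exact a2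
  have a3' : JJ (fun v => X₁ (fl v)) (1, 1, 0) = J₀ := by rw [JJ_fl]; exact a3
  obtain ⟨k, hk, hact⟩ := h1'.b3.weyl (0, 1, 0) (by decide)
  have k1 : cj k J₁ = J₁ := by rw [← a1']; exact weyl_JJ hact (by decide)
  have k2 : cj k J₂ = J₀ := by rw [← a2', ← a3']; exact weyl_JJ hact (by decide)
  have k3 : cj k J₀ = J₂ := by rw [← a2', ← a3']; exact weyl_JJ hact (by decide)
  have h0 := (h2.conj k).flip
  have e1 : JJ (fun v => cj k (X₂ (fl v))) (0, 0, 1) = J₀ := by
    rw [JJ_fl (X := fun v => cj k (X₂ v)), ← cj_JJ]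
    exact (congrArg (cj k) b1).trans k2
  have e2 : JJ (fun v => cj k (X₂ (fl v))) (1, -1, 0) = J₁ := by
    rw [JJ_fl (X := fun v => cj k (X₂ v)), ← cj_JJ]
    exact (congrArg (cj k) b2).trans k1
  have e3 : JJ (fun v => cj k (X₂ (fl v))) (1, 1, 0) = J₂ := by
    rw [JJ_fl (X := fun v => cj k (X₂ v)), ← cj_JJ]
    exact (congrArg (cj k) b3).trans k3
  refine Tri.false (F := F) (K := ![cj k K₂, K₁, K₂]) (c := ![k * c₂ * k⁻¹, c₁, c₂])
    (X := ![fun v => cj k (X₂ (fl v)), fun v => X₁ (fl v), X₂])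
    (z := ![fun v => k * z₂ (fl v) * k⁻¹, fun v => z₁ (fl v), z₂]) ⟨?_, ?_, ?_⟩
  · intro i
    fin_cases i
    · exact h0
    · exact h1'
    · exact h2
  · intro i
    fin_cases i
    · exact e2.trans a1'.symm
    · exact a2'.trans b1.symm
    · exact b3.trans e1.symm
  · intro i
    fin_cases i
    · exact e3.trans b1.symm
    · exact a3'.trans e1.symm
    · exact b2.trans a1'.symm

end Two

end Cfsg.Agent.OddHalf.NI3.Sol
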